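import Groth.Agent.Sga3B.RedIdComp

/-!
# The closed subgroup generated by an irreducible family, in a group locally of finite type

`Books.AlgPtsGen` does this for affine groups; here the ambient group is any group scheme locally of finite type over an
algebraically closed field.
-/

set_option autoImplicit false
universe u
open CategoryTheory MonoidalCategory CartesianMonoidalCategory MonObj GrpObj AlgebraicGeometry Limits

namespace K530.GenSub

open Groth.Agent Groth.Agent.Books.AlgPts Groth.Agent.Books.AlgPtsGrp Groth.Agent.Books.AlgPtsIrred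
open Groth.Agent.Books.AlgPtsGen Groth.Agent.Books.AlgPtsSmooth Groth.Agent.Sga3B.RedIdComp
open scoped Pointwise

/-- An ascending sequence of irreducible closed subsets through a point of a locally Noetherian scheme is
stationary. -/
theorem exists_stable_closed {X : Scheme.{u}} [IsLocallyNoetherian X] (e : X) (Z : ℕ → Set X)
    (hZc : ∀ n, IsClosed (Z n)) (hZi : ∀ n, IsIrreducible (Z n)) (he : ∀ n, e ∈ Z n)
    (hmono : ∀ n, Z n ⊆ Z (n + 1)) : ∃ N, ∀ n, N ≤ n → Z n = Z N := by
  have hg : ∀ n, ∃ x : X, closure {x} = Z n := fun n => by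
    obtain ⟨x, hx⟩ := QuasiSober.sober (hZi n) (hZc n)
    exact ⟨x, hx⟩
  choose x hx using hg
  have hsp : ∀ n, x n ⤳ e := fun n => by
    rw [specializes_iff_mem_closure, hx]
    exact he n
  have hy : ∀ n, ∃ p : PrimeSpectrum (X.presheaf.stalk e), X.fromSpecStalk e p = x n := fun n => by
    have h1 : x n ∈ Set.range (X.fromSpecStalk e) := by
      rw [Scheme.range_fromSpecStalk]
      exact hsp n
    exact h1
  choose p hp using hy
  have hsucc : ∀ n, x (n + 1) ⤳ x n := fun n => by
    rw [specializes_iff_mem_closure, hx]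
    refine hmono n ?_
    rw [← hx]
    exact subset_closure rfl
  have hpsucc : ∀ n, (p (n + 1)).asIdeal ≤ (p n).asIdeal := fun n => by
    have h1 : X.fromSpecStalk e (p (n + 1)) ⤳ X.fromSpecStalk e (p n) := by
      rw [hp, hp]
      exact hsucc n
    have h2 := (X.fromSpecStalk e).isEmbedding.isInducing.specializes_iff.1 h1
    exact (PrimeSpectrum.le_iff_specializes _ _).2 h2
  obtain ⟨N, hN⟩ := exists_stable (fun n => (p n).asIdeal) (fun n => (p n).2)
    (antitone_nat_of_succ_le hpsucc)
  refine ⟨N, fun n hn => ?_⟩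
  rw [← hx n, ← hx N, ← hp n, ← hp N, PrimeSpectrum.ext (hN n hn)]

/-- A locally constructible set which is dense in an irreducible closed set contains a nonempty open part of it. -/
theorem dichotomy_loc {X : Type*} [TopologicalSpace X] {C : Set X} (hC : Topology.IsLocallyConstructible C)
    (hZ : IsIrreducible (closure C)) :
    ∃ U : Set X, IsOpen U ∧ (U ∩ closure C).Nonempty ∧ U ∩ closure C ⊆ C := by
  obtain ⟨x, hx⟩ := hZ.nonempty
  obtain ⟨V, hxV, hVo, hVC⟩ := hC x
  have hi : IsIrreducible (Subtype.val ⁻¹' closure C : Set V) := by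
    refine ⟨⟨⟨x, mem_of_mem_nhds hxV⟩, hx⟩, ?_⟩
    exact hZ.2.preimage hVo.isOpenEmbedding_subtypeVal
  rcases Ega3A.ConstrTopBasic.dichotomy hVC hi with ⟨U, hU, hne, hsub⟩ | ⟨U, hU, hne, hsub⟩
  · obtain ⟨y, hyU, hyC⟩ := hne
    refine ⟨Subtype.val '' U, hVo.isOpenEmbedding_subtypeVal.isOpenMap _ hU, ⟨y, ⟨y, hyU, rfl⟩, hyC⟩, ?_⟩
    rintro _ ⟨⟨z, hz, rfl⟩, hzC⟩
    exact hsub ⟨hz, hzC⟩
  · exfalso
    obtain ⟨y, hyU, hyC⟩ := hne
    obtain ⟨w, hwU, hw⟩ := mem_closure_iff.mp hyC (Subtype.val '' U)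
      (hVo.isOpenEmbedding_subtypeVal.isOpenMap _ hU) ⟨y, hyU, rfl⟩
    obtain ⟨z, hz, rfl⟩ := hwU
    exact hsub ⟨hz, subset_closure hw⟩ hw

/-- The complement of a locally constructible set contains, if it is not empty, a nonempty locally closed set. -/
theorem exists_locClosed {X : Type*} [TopologicalSpace X] {C : Set X} (hC : Topology.IsLocallyConstructible C)
    {y : X} (hy : y ∉ C) : ∃ L : Set X, IsLocallyClosed L ∧ L.Nonempty ∧ L ⊆ Cᶜ := by
  obtain ⟨V, hyV, hVo, hVC⟩ := hC y
  have hyV' : y ∈ V := mem_of_mem_nhds hyV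
  have hi : IsIrreducible (Subtype.val ⁻¹' closure {y} : Set V) := by
    refine ⟨⟨⟨y, hyV'⟩, subset_closure rfl⟩, ?_⟩
    exact isIrreducible_singleton.closure.2.preimage hVo.isOpenEmbedding_subtypeVal
  rcases Ega3A.ConstrTopBasic.dichotomy hVC hi with ⟨U, hU, hne, hsub⟩ | ⟨U, hU, hne, hsub⟩
  · exfalso
    obtain ⟨z, hzU, hzC⟩ := hne
    obtain ⟨w, hwU, rfl⟩ := mem_closure_iff.mp hzC (Subtype.val '' U)
      (hVo.isOpenEmbedding_subtypeVal.isOpenMap _ hU) ⟨z, hzU, rfl⟩
    obtain ⟨z, hz, hzy⟩ := hwU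
    refine hy ?_
    have := hsub ⟨hz, (show (z : X) ∈ closure {(w : X)} from hzy ▸ subset_closure rfl)⟩
    rw [← hzy]
    exact this
  · refine ⟨(Subtype.val '' U) ∩ closure {y}, ?_, ?_, ?_⟩
    · exact (hVo.isOpenEmbedding_subtypeVal.isOpenMap _ hU).isLocallyClosed.inter
        isClosed_closure.isLocallyClosed
    · obtain ⟨z, hzU, hzC⟩ := hne
      exact ⟨z, ⟨z, hzU, rfl⟩, hzC⟩
    · rintro _ ⟨⟨z, hz, rfl⟩, hzC⟩
      exact hsub ⟨hz, hzC⟩

variable {k : Type u} [Field k] [IsAlgClosed k] {X G : Over (Spec (CommRingCat.of k))} [GrpObj G]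

/-- A morphism surjective on rational points is surjective. -/
theorem surjective_of_pts {X Y : Over (Spec (CommRingCat.of k))}
    [LocallyOfFiniteType X.hom] [LocallyOfFiniteType Y.hom] (f : X ⟶ Y) [QuasiCompact f.left]
    (h : ∀ y : 𝟙_ (Over (Spec (CommRingCat.of k))) ⟶ Y,
      ∃ x : 𝟙_ (Over (Spec (CommRingCat.of k))) ⟶ X, x ≫ f = y) :
    Surjective f.left := by
  have hN : IsLocallyNoetherian Y.left := LocallyOfFiniteType.isLocallyNoetherian Y.hom
  have hft : LocallyOfFiniteType f.left := by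
    have h1 : LocallyOfFiniteType (f.left ≫ Y.hom) := by
      rw [Over.w f]; infer_instance
    exact locallyOfFiniteType_of_comp f.left Y.hom
  have hfp : LocallyOfFinitePresentation f.left := inferInstance
  have hcons : Topology.IsLocallyConstructible (Set.range f.left) := by
    rw [← Set.image_univ]
    exact f.left.isLocallyConstructible_image Topology.IsConstructible.univ.isLocallyConstructible
  refine ⟨fun y => ?_⟩
  by_contra hy
  obtain ⟨L, hL, hne, hLC⟩ := exists_locClosed hcons hy
  obtain ⟨z, hz⟩ := exists_pt_mem (X := Y) hne hL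
  obtain ⟨x, rfl⟩ := h z
  exact hLC hz ⟨pt x, (pt_comp x f).symm⟩

/-- The closure of the image stabilizes. -/
theorem exists_closure_stable [LocallyOfFiniteType G.hom] (hX : IsVar X)
    (f : X ⟶ G) (h1 : 1 ∈ vals f) :
    ∃ N, ∀ n, N ≤ n → closure (Set.range (c f n).left) = closure (Set.range (c f N).left) := by
  have : IsLocallyNoetherian G.left := LocallyOfFiniteType.isLocallyNoetherian G.hom
  refine exists_stable_closed (pt (1 : 𝟙_ (Over (Spec (CommRingCat.of k))) ⟶ G)) _
    (fun n => isClosed_closure) (fun n => ?_) (fun n => ?_) (fun n => ?_)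
  · have := (isVar_T hX n).isIntegral
    refine IsIrreducible.closure ?_
    rw [← Set.image_univ]
    exact (IrreducibleSpace.isIrreducible_univ _).image _ (c f n).left.continuous.continuousOn
  · apply subset_closure
    rw [pt_mem_range_iff hX]
    have : (1 : Set (𝟙_ (Over (Spec (CommRingCat.of k))) ⟶ G)) ⊆ vals f ^ n := by
      rw [← one_pow n]
      exact Set.pow_subset_pow_left (Set.one_subset.2 h1)
    exact this (Set.one_mem_one)
  · exact closure_mono (range_c_subset f h1 n)

/-- Main theorem. -/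
theorem exists_closed_subgroup [LocallyOfFiniteType G.hom] [QuasiSeparated G.hom] (hX : IsVar X)
    (f : X ⟶ G) (h1 : 1 ∈ vals f) (hinv : (vals f)⁻¹ = vals f) :
    ∃ N, (∀ g : 𝟙_ (Over (Spec (CommRingCat.of k))) ⟶ G,
      pt g ∈ closure (Set.range (c f N).left) ↔ g ∈ Subgroup.closure (vals f)) ∧
      (∀ g ∈ Subgroup.closure (vals f), g ∈ vals f ^ (N + N)) ∧
      (∀ n, N ≤ n → closure (Set.range (c f n).left) = closure (Set.range (c f N).left)) := by
  obtain ⟨N, hN⟩ := exists_closure_stable hX f h1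
  set Z : Set G.left := closure (Set.range (c f N).left) with hZ
  have hZc : IsClosed Z := isClosed_closure
  -- points of powers lie in `Z`
  have hpow : ∀ n, ∀ g ∈ vals f ^ n, pt g ∈ Z := by
    intro n g hg
    have h2 : g ∈ vals f ^ (max n N) := Set.pow_subset_pow_right h1 (le_max_left n N) hg
    rw [← pt_mem_range_iff hX] at h2
    have h3 := subset_closure h2
    rwa [hN _ (le_max_right n N)] at h3
  have hl : ∀ n, ∀ g ∈ vals f ^ n, ∀ x, pt x ∈ Z → pt (g * x) ∈ Z := by
    intro n g hg x hx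
    rw [← comp_lmul]
    refine mem_of_forall_vals hX f N (lmul g) hZc (fun y hy => ?_) hx
    rw [comp_lmul]
    exact hpow (n + N) _ (by rw [pow_add]; exact Set.mul_mem_mul hg hy)
  have hmul : ∀ x y, pt x ∈ Z → pt y ∈ Z → pt (x * y) ∈ Z := by
    intro x y hx hy
    rw [← comp_rmul]
    refine mem_of_forall_vals hX f N (rmul y) hZc (fun z hz => ?_) hx
    rw [comp_rmul]
    exact hl N z hz y hy
  have hin : ∀ x, pt x ∈ Z → pt x⁻¹ ∈ Z := by
    intro x hx
    have e : ∀ y : 𝟙_ (Over (Spec (CommRingCat.of k))) ⟶ G, y ≫ (𝟙 G)⁻¹ = y⁻¹ := by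
      intro y
      rw [GrpObj.comp_inv, Category.comp_id]
    rw [← e]
    refine mem_of_forall_vals hX f N (𝟙 G)⁻¹ hZc (fun z hz => ?_) hx
    rw [e]
    refine hpow N _ ?_
    rw [← hinv, inv_pow]
    exact Set.inv_mem_inv.mpr hz
  have hone : pt (1 : 𝟙_ (Over (Spec (CommRingCat.of k))) ⟶ G) ∈ Z := hpow 1 1 (by simpa using h1)
  -- `Z` is irreducible and the image of `c f N` contains a nonempty open subset of `Z`
  have hNoeth : IsLocallyNoetherian G.left := LocallyOfFiniteType.isLocallyNoetherian G.hom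
  have hint := (isVar_T hX N).isIntegral
  have hlft := (isVar_T hX N).lft
  have hqc := (isVar_T hX N).qc
  have : QuasiCompact (c f N).left := by
    have : QuasiCompact ((c f N).left ≫ G.hom) := by rw [Over.w]; infer_instance
    exact .of_comp _ G.hom
  have : LocallyOfFiniteType (c f N).left := by
    have : LocallyOfFiniteType ((c f N).left ≫ G.hom) := by rw [Over.w]; infer_instance
    exact locallyOfFiniteType_of_comp _ G.hom
  have hZi : IsIrreducible Z := by
    refine IsIrreducible.closure ?_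
    rw [← Set.image_univ]
    exact (IrreducibleSpace.isIrreducible_univ _).image _ (c f N).left.continuous.continuousOn
  obtain ⟨U, hUo, hUne, hUZ⟩ : ∃ U : Set G.left, IsOpen U ∧ (U ∩ Z).Nonempty ∧
      U ∩ Z ⊆ Set.range (c f N).left := by
    have hfp : LocallyOfFinitePresentation (c f N).left := inferInstance
    have hcons : Topology.IsLocallyConstructible (Set.range (c f N).left) := by
      rw [← Set.image_univ]
      exact (c f N).left.isLocallyConstructible_image Topology.IsConstructible.univ.isLocallyConstructible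
    exact dichotomy_loc hcons hZi
  -- every point of `Z` is a product of two points of the image
  have hfact : ∀ x, pt x ∈ Z → x ∈ vals f ^ (N + N) := by
    intro x hx
    -- σ z = x * z⁻¹
    let σ : G ⟶ G := (toUnit G ≫ x) * (𝟙 G)⁻¹
    have hσ : ∀ z : 𝟙_ (Over (Spec (CommRingCat.of k))) ⟶ G, z ≫ σ = x * z⁻¹ := by
      intro z
      rw [MonObj.comp_mul, GrpObj.comp_inv, Category.comp_id, ← Category.assoc,
        toUnit_unique (z ≫ toUnit G) (𝟙 _), Category.id_comp]
    obtain ⟨u, huU, huZ⟩ := exists_pt_mem (X := G) (U := U ∩ Z) hUne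
      (hUo.isLocallyClosed.inter hZc.isLocallyClosed)
    have hz0 : pt (u⁻¹ * x) ∈ Z := hmul _ _ (hin _ huZ) hx
    obtain ⟨w, hwZ, hwU, hwσ⟩ := hZi.2 U (σ.left ⁻¹' U) hUo (hUo.preimage σ.left.continuous)
      ⟨pt u, huZ, huU⟩ ⟨pt (u⁻¹ * x), hz0, by
        rw [Set.mem_preimage, ← pt_comp, hσ, _root_.mul_inv_rev, _root_.inv_inv, mul_inv_cancel_left]
        exact huU⟩
    obtain ⟨z, ⟨hzZ, hzU⟩, hzσ⟩ := exists_pt_mem (X := G) (U := (Z ∩ U) ∩ σ.left ⁻¹' U)
      ⟨w, ⟨hwZ, hwU⟩, hwσ⟩
      ((hZc.isLocallyClosed.inter hUo.isLocallyClosed).inter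
        (hUo.preimage σ.left.continuous).isLocallyClosed)
    rw [Set.mem_preimage, ← pt_comp, hσ] at hzσ
    have a1 : z ∈ vals f ^ N := (pt_mem_range_iff hX f N z).mp (hUZ ⟨hzU, hzZ⟩)
    have a2 : x * z⁻¹ ∈ vals f ^ N := (pt_mem_range_iff hX f N _).mp
      (hUZ ⟨hzσ, hmul _ _ hx (hin _ hzZ)⟩)
    rw [pow_add]
    have := Set.mul_mem_mul a2 a1
    rwa [inv_mul_cancel_right] at this
  let H : Subgroup (𝟙_ (Over (Spec (CommRingCat.of k))) ⟶ G) :=
    { carrier := {x | pt x ∈ Z}
      mul_mem' := fun {x y} hx hy => hmul x y hx hy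
      one_mem' := hone
      inv_mem' := fun {x} hx => hin x hx }
  have hpc : ∀ n, vals f ^ n ⊆ (Subgroup.closure (vals f) : Set _) := by
    intro n
    induction n with
    | zero =>
      intro g hg
      rw [pow_zero, Set.mem_one] at hg
      rw [hg]
      exact one_mem _
    | succ n ih =>
      rw [pow_succ]
      rintro _ ⟨a, ha, b, hb, rfl⟩
      exact mul_mem (ih ha) (Subgroup.subset_closure hb)
  have hHle : Subgroup.closure (vals f) ≤ H := by
    rw [Subgroup.closure_le]
    intro g hg
    exact hpow 1 g (by simpa using hg)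
  exact ⟨N, fun g => ⟨fun hg => hpc _ (hfact g hg), fun hg => hHle hg⟩,
    fun g hg => hfact g (hHle hg), hN⟩

/-- The reduced closed subgroup generated by an irreducible family. -/
theorem exists_subgroup_scheme [LocallyOfFiniteType G.hom] [IsSeparated G.hom] (hX : IsVar X) (f : X ⟶ G)
    (h1 : 1 ∈ vals f) (hinv : (vals f)⁻¹ = vals f) :
    ∃ (D : Over (Spec (CommRingCat.of k))) (_ : GrpObj D) (i : D ⟶ G) (N : ℕ) (s : T X N ⟶ D), IsMonHom i ∧
      IsClosedImmersion i.left ∧ IsVar D ∧ Smooth D.hom ∧ s ≫ i = c f N ∧ Surjective s.left ∧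
      Set.range (fun d : 𝟙_ (Over (Spec (CommRingCat.of k))) ⟶ D => d ≫ i) =
        (Subgroup.closure (vals f) : Set (𝟙_ (Over (Spec (CommRingCat.of k))) ⟶ G)) := by
  obtain ⟨N₀, hN, hN', hst⟩ := exists_closed_subgroup hX f h1 hinv
  let Z : TopologicalSpace.Closeds G.left := ⟨closure (Set.range (c f N₀).left), isClosed_closure⟩
  let I : G.left.IdealSheafData := Scheme.IdealSheafData.vanishingIdeal Z
  let D : Over (Spec (CommRingCat.of k)) := Over.mk (I.subschemeι ≫ G.hom)
  let i : D ⟶ G := Over.homMk I.subschemeι rfl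
  have hi : IsClosedImmersion i.left := inferInstanceAs (IsClosedImmersion I.subschemeι)
  have hDr : IsReduced D.left := Ega1.ReducedSub.isReduced_subscheme_vanishingIdeal _
  have hrange : Set.range i.left = closure (Set.range (c f N₀).left) := by
    change Set.range I.subschemeι = _
    rw [Scheme.IdealSheafData.range_subschemeι]
    simp [I, Z]
  have hDlft : LocallyOfFiniteType D.hom :=
    inferInstanceAs (LocallyOfFiniteType (I.subschemeι ≫ G.hom))
  have hDsep : IsSeparated D.hom :=
    inferInstanceAs (IsSeparated (I.subschemeι ≫ G.hom))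
  have hint := (isVar_T hX (N₀ + N₀)).isIntegral
  have hqc := (isVar_T hX (N₀ + N₀)).qc
  have hlft := (isVar_T hX (N₀ + N₀)).lft
  obtain ⟨s, hs⟩ := exists_lift i (c f (N₀ + N₀)) (by
    rw [hrange, ← hst (N₀ + N₀) (Nat.le_add_left _ _)]
    exact subset_closure)
  have hsqc : QuasiCompact s.left := by
    have : QuasiCompact (s.left ≫ D.hom) := by rw [Over.w]; infer_instance
    exact .of_comp _ D.hom
  have hslft : LocallyOfFiniteType s.left := by
    have : LocallyOfFiniteType (s.left ≫ D.hom) := by rw [Over.w]; infer_instance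
    exact locallyOfFiniteType_of_comp _ D.hom
  have hDN : IsLocallyNoetherian D.left := LocallyOfFiniteType.isLocallyNoetherian D.hom
  have hmono : Mono i := mono_of_isClosedImmersion i
  have hsurj : Surjective s.left := by
    refine surjective_of_pts s fun y => ?_
    have h2 : pt (y ≫ i) ∈ closure (Set.range (c f N₀).left) := by
      rw [← hrange, pt_comp]
      exact ⟨_, rfl⟩
    have h3 := hN' _ ((hN _).1 h2)
    rw [← range_c] at h3
    obtain ⟨x, hx⟩ := h3
    refine ⟨x, ?_⟩
    rw [← cancel_mono i, Category.assoc, hs]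
    exact hx
  have hDirr : IrreducibleSpace D.left := by
    have h5 : IsIrreducible (Set.univ : Set D.left) := by
      rw [← Set.range_eq_univ.2 hsurj.surj, ← Set.image_univ]
      exact (IrreducibleSpace.isIrreducible_univ _).image _ s.left.continuous.continuousOn
    exact (irreducibleSpace_def _).mpr h5
  have hDint : IsIntegral D.left := isIntegral_of_irreducibleSpace_of_isReduced _
  have hDqc : QuasiCompact D.hom := by
    have : CompactSpace (T X (N₀ + N₀)).left := by
      have := QuasiCompact.isCompact_preimage (f := (T X (N₀ + N₀)).hom) Set.univ isOpen_univ isCompact_univ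
      exact ⟨by simpa using this⟩
    have : CompactSpace D.left := by
      refine ⟨?_⟩
      rw [← Set.range_eq_univ.2 hsurj.surj, ← Set.image_univ]
      exact isCompact_univ.image s.left.continuous
    infer_instance
  have hDvar : IsVar D := ⟨hDint, hDlft, hDsep, hDqc⟩
  have hDD : IsIntegral (D ⊗ D).left := (hDvar.tensor hDvar).isIntegral
  obtain ⟨inst, hmon⟩ := exists_grpObj_of_points i (Subgroup.closure (vals f)) (fun x => by
    rw [hrange]
    exact hN x)
  refine ⟨D, inst, i, N₀ + N₀, s, hmon, hi, hDvar, smooth_of_isReduced D, hs, hsurj, ?_⟩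
  ext g
  rw [SetLike.mem_coe, ← hN, ← hrange]
  constructor
  · rintro ⟨d, rfl⟩
    simp only [pt_comp]
    exact ⟨_, rfl⟩
  · intro h
    exact exists_comp_eq_of_pt_mem_range i g h

end K530.GenSub
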