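import Groth.Prelude.Def_AbDual
import Groth.Agent.Fga.EtTriv
import Groth.Agent.Fga.CounitRestrict
import Groth.Agent.Fga.RigGrp
import Groth.Agent.Ega2.QCohLocal
import Groth.Agent.Grpsch.CubePush

/-!
# Rigidified classes which agree fppf-locally are equal
-/

set_option autoImplicit false
universe u
open CategoryTheory CategoryTheory.Limits AlgebraicGeometry
open Groth.Agent Groth.Agent.Fdesc.LocGen Groth.Agent.Grpsch.PicGrp Groth.Agent.Fga.RigGrp

namespace K530.RigInj

/-- A generator over `g⁻¹ W` trivializes the module over `g⁻¹ W`. -/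
theorem trivial_of_isGen {Y : Scheme.{u}} {L : Y.Modules} {U : Y.Opens} {e : Γ(L, U)} (he : IsGen e) :
    Nonempty (L.restrict U.ι ≅ Coh.structureModule ↑U) := by
  have hU : U.ι ''ᵁ ⊤ ≤ U := by simp
  have h1 : IsGen (toRestrict (M := L) U.ι (U := ⊤) (res L hU e)) :=
    (isGen_toRestrict_iff _ _).mpr (he.res hU)
  have : IsIso (homOf (toRestrict (M := L) U.ι (U := ⊤) (res L hU e))) := by
    rw [isIso_iff_isGen, sec_homOf]
    simpa using h1
  exact ⟨(asIso (homOf (toRestrict (M := L) U.ι (U := ⊤) (res L hU e)))).symm⟩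

/-- A generator over `g⁻¹ W` is a generator of the direct image over `W` if `O_T ≅ g_* O_Y`. -/
theorem isGen_push {Y T : Scheme.{u}} (g : Y ⟶ T) {L : Y.Modules} {W : T.Opens}
    (hg : ∀ U, Function.Bijective (g.app U)) (m : Γ(L, g ⁻¹ᵁ W)) (hm : IsGen m) :
    IsGen (M := (Scheme.Modules.pushforward g).obj L) (U := W) m := by
  intro W' hW'
  exact (hm (g ⁻¹ᵁ W') (g.preimage_mono hW')).comp (hg W')

variable {X S : Scheme.{u}} (f : X ⟶ S)

/-- The square of `X_U → X_T` over `U → T`. -/
theorem isPullback_XTmap {T : Over S} {U : Scheme.{u}} (u : U ⟶ T.left) :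
    IsPullback (PicF.XTmap f (AbDual.ovrHom T u)) (PicF.XTproj f (AbDual.ovr T u)) (PicF.XTproj f T) u := by
  have h1 : PicF.XTmap f (AbDual.ovrHom T u) ≫ pullback.fst f T.hom = pullback.fst f (u ≫ T.hom) := by
    exact (pullback.lift_fst _ _ _).trans (Category.comp_id _)
  have h2 : PicF.XTmap f (AbDual.ovrHom T u) ≫ PicF.XTproj f T = PicF.XTproj f (AbDual.ovr T u) ≫ u :=
    pullback.lift_snd _ _ _
  refine IsPullback.of_right ?_ h2 (IsPullback.of_hasPullback f T.hom)
  rw [h1]
  exact IsPullback.of_hasPullback f (u ≫ T.hom)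

/-- A class on `X_T` that is trivial on the members of an fppf covering of `T` comes from `T`. -/
theorem exists_eq_pull [QuasiCompact f] [QuasiSeparated f]
    (hf : ∀ (T : Over S) (U : T.left.Opens), Function.Bijective ((PicF.XTproj f T).app U))
    (T : Over S) (c : Pic (PicF.XT f T)) (R : Presieve T.left) (hR : R ∈ Scheme.fppfPrecoverage T.left)
    (hloc : ∀ ⦃U : Scheme.{u}⦄ (u : U ⟶ T.left), R u → pull (PicF.XTmap f (AbDual.ovrHom T u)) c = 1) :
    ∃ d : Pic T.left, c = pull (PicF.XTproj f T) d := by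
  obtain ⟨L, hL, rfl⟩ := exists_mk c
  have key : ∀ t : T.left, ∃ (W : T.left.Opens) (m : Γ(L, (PicF.XTproj f T) ⁻¹ᵁ W)), t ∈ W ∧ IsGen m := by
    intro t
    obtain ⟨ι, U, v, rfl⟩ := R.exists_eq_ofArrows
    obtain ⟨hR1, hR2⟩ := (Scheme.ofArrows_mem_precoverage_iff _).1 hR
    obtain ⟨i, x, rfl⟩ := hR1 t
    have : Flat (v i) := (hR2 i).1
    have : LocallyOfFinitePresentation (v i) := (hR2 i).2
    have h1 := hloc (v i) ⟨i⟩
    rw [pull_mk, mk_eq_one_iff] at h1
    obtain ⟨φ⟩ := h1
    exact Fga.EtTriv.exists_isGen_base (isPullback_XTmap f (v i)) (Scheme.Hom.isOpenMap _) L hL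
      (Ega2.QCohLocal.isQCoh_of_isInvertible hL) (V₀ := ⊤) (φ.inv.app _ (one _))
      ((isGen_one _).app φ.inv) (fun U => hf (AbDual.ovr T (v i)) U) x trivial
  have hc : IsIso ((Scheme.Modules.pullbackPushforwardAdjunction (PicF.XTproj f T)).counit.app L) := by
    refine Fga.CounitRestrict.isIso_counit_of_locally_trivial _ (hf T) L fun t => ?_
    obtain ⟨W, m, ht, hm⟩ := key t
    exact ⟨W, ht, trivial_of_isGen hm⟩
  have hN : PicF.IsInvertible ((Scheme.Modules.pushforward (PicF.XTproj f T)).obj L) := by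
    rw [isInvertible_iff]
    intro t
    obtain ⟨W, m, ht, hm⟩ := key t
    exact ⟨W, m, ht, isGen_push _ (hf T) m hm⟩
  refine ⟨mk _ hN, ?_⟩
  rw [pull_mk]
  exact mk_congr (asIso ((Scheme.Modules.pullbackPushforwardAdjunction (PicF.XTproj f T)).counit.app L)).symm

/-- Rigidified classes that agree on the members of an fppf covering are equal. -/
theorem eq_of_fppf [QuasiCompact f] [QuasiSeparated f]
    (hf : ∀ (T : Over S) (U : T.left.Opens), Function.Bijective ((PicF.XTproj f T).app U))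
    (σ : S ⟶ X) (hσ : σ ≫ f = 𝟙 S)
    (T : Over S) (c c' : Pic (PicF.XT f T)) (hc : c ∈ Rg f σ hσ T) (hc' : c' ∈ Rg f σ hσ T)
    (R : Presieve T.left) (hR : R ∈ Scheme.fppfPrecoverage T.left)
    (hloc : ∀ ⦃U : Scheme.{u}⦄ (u : U ⟶ T.left), R u →
      PicF.pullCl (PicF.XTmap f (AbDual.ovrHom T u)) (toCl c) =
        PicF.pullCl (PicF.XTmap f (AbDual.ovrHom T u)) (toCl c')) : c = c' := by
  have hd : c / c' ∈ Rg f σ hσ T := div_mem hc hc'
  obtain ⟨d, hd'⟩ := exists_eq_pull f hf T (c / c') R hR (fun U u hu => by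
    have h1 := hloc u hu
    rw [← toCl_pull, ← toCl_pull] at h1
    rw [map_div, toCl_injective h1, div_self'])
  have h2 := norm_of_mem f σ hσ hd
  rw [hd', norm_pull_XTproj] at h2
  rw [← hd'] at h2
  exact (div_eq_one.1 h2.symm)

/-- The hypothesis of the previous results for proper flat geometrically integral morphisms. -/
theorem bij_of_isProper [IsProper f] [Flat f] [LocallyOfFinitePresentation f] [GeometricallyIntegral f]
    (T : Over S) (U : T.left.Opens) : Function.Bijective ((PicF.XTproj f T).app U) := by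
  have := Grpsch.CubeData.isIso_app (PicF.XTproj f T) U
  exact (ConcreteCategory.isIso_iff_bijective _).1 this

end K530.RigInj
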