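import Groth.Agent.AbVar.K511.HT.Iface
import Groth.Agent.AbVar.K522.RH
import Mathlib.RingTheory.Ideal.Norm.AbsNorm

/-!
# Node `WEIL` of the Honda–Tate project: absolute values of Frobenius

`K530.HTWeil.main : K511.HT.WEIL`.
-/

set_option autoImplicit false
universe u

open CategoryTheory CategoryTheory.Limits MonoidalCategory CartesianMonoidalCategory MonObj GrpObj AlgebraicGeometry
open scoped NumberField Polynomial

namespace K530.HTWeil

/-- A group scheme over a field whose identity is trivial has dimension zero. -/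
theorem dim_eq_zero {k : Type u} [Field k] {A : Over (Spec (CommRingCat.of k))} [GrpObj A] (h : 𝟙 A = 1) :
    topologicalKrullDim A.left = 0 := by
  have h1 : toUnit A ≫ η[A] = 𝟙 A := by
    rw [h, Hom.one_def]
  let e : A ≅ 𝟙_ (Over (Spec (CommRingCat.of k))) :=
    { hom := toUnit A, inv := η[A], hom_inv_id := h1, inv_hom_id := toUnit_unique _ _ }
  have e1 : A.left ≅ Spec (CommRingCat.of k) := (Over.forget _).mapIso e
  have h2 := e1.hom.homeomorph
  rw [IsHomeomorph.topologicalKrullDim_eq _ h2.isHomeomorph]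
  change topologicalKrullDim (PrimeSpectrum k) = 0
  rw [PrimeSpectrum.topologicalKrullDim_eq_ringKrullDim]
  exact ringKrullDim_eq_zero_of_field k

theorem injective {k : Type u} [Field k] {A : Over (Spec (CommRingCat.of k))} [GrpObj A] [IsCommMonObj A]
    [IsProper A.hom] [GeometricallyIntegral A.hom] (hdim : topologicalKrullDim A.left ≠ 0) (L : Type) [Field L]
    [NumberField L] (ρ : 𝓞 L →+* EndAV.End A) : Function.Injective ρ := by
  rw [injective_iff_map_eq_zero]
  intro x hx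
  by_contra h0
  have hn : ((Ideal.absNorm (Ideal.span {x}) : ℕ) : 𝓞 L) ∈ Ideal.span {x} := Ideal.absNorm_mem _
  obtain ⟨y, hy⟩ := Ideal.mem_span_singleton'.1 hn
  have h1 : ρ ((Ideal.absNorm (Ideal.span {x}) : ℕ) : 𝓞 L) = 0 := by
    rw [← hy, map_mul, hx, mul_zero]
  rw [map_natCast] at h1
  have h2 : Ideal.absNorm (Ideal.span {x}) ≠ 0 := by
    rw [Ne, Ideal.absNorm_eq_zero_iff, Ideal.span_singleton_eq_bot]
    exact h0
  have h3 : (Ideal.absNorm (Ideal.span {x})) • (1 : EndAV.End A) = 0 := by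
    rw [nsmul_one]
    exact h1
  have h4 : (1 : EndAV.End A) = 0 := K510.TateHom.eq_zero_of_nsmul (A := A) (B := A) h2 h3
  apply hdim
  apply dim_eq_zero
  exact congrArg EndAV.Hom.toHom h4

theorem main : K511.HT.WEIL.{u} := by
  intro q κ _ _ hq A _ _ _ _ hdim L _ _ ρ π₀ hfrob σ
  obtain ⟨hb, hle, happ⟩ := hfrob
  have hF : K520.Frob.IsFrob q (ρ π₀).toHom.left := ⟨hb, hle, happ⟩
  have hq0 : q ≠ 0 := by
    rw [← hq]
    exact Nat.card_pos.ne'
  have hint : IsIntegral ℤ π₀ := Algebra.IsIntegral.isIntegral π₀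
  have hP := minpoly.monic hint
  have hPπ : (minpoly ℤ π₀).eval₂ (Int.castRingHom (EndAV.End A)) (ρ π₀) = 0 := by
    rw [← K522.CharZero.eval₂_ringHom ρ]
    have h1 : (minpoly ℤ π₀).eval₂ (Int.castRingHom (𝓞 L)) π₀ = 0 := minpoly.aeval ℤ π₀
    rw [h1, map_zero]
  obtain ⟨m, -, -, hm, -, hroot⟩ := K522.RH.exists_min q hq0 (ρ π₀) hF _ hP hPπ
  rw [← K522.CharZero.eval₂_ringHom ρ] at hm
  have h2 : m.eval₂ (Int.castRingHom (𝓞 L)) π₀ = 0 := injective hdim L ρ (by rw [hm, map_zero])
  apply hroot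
  have h3 := congrArg (σ.comp (algebraMap (𝓞 L) L)) h2
  rw [K522.CharZero.eval₂_ringHom, map_zero] at h3
  rw [Polynomial.eval_map]
  exact h3

end K530.HTWeil
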