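import Groth.Agent.AbVar.K511.HT.Iface
import Groth.Agent.AbVar.K530.HTWeil
import Groth.Agent.AbVar.K520.Frob
import Groth.Agent.AbVar.K522.CharZero
import Groth.Agent.AbVar.K324.NormDeg
import Groth.Agent.SGA7.K567.CMTate

/-!
# The Frobenius of an abelian variety with complex multiplication is an endomorphism in the given field

`K530.HTFrob.stf`: `A` an abelian variety of dimension `g` over a finite field `κ`, `L` a number field of degree `2g`,
`ρ : 𝓞 L →+* End A`: the Frobenius endomorphism of `A` is `ρ π₀` for some `π₀`.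
-/

set_option autoImplicit false
universe u

open CategoryTheory CategoryTheory.Limits MonoidalCategory CartesianMonoidalCategory MonObj GrpObj AlgebraicGeometry
open K515.Bc Polynomial
open scoped NumberField

noncomputable section

namespace K530.HTFrob

/-- A ring homomorphism from the integers of a number field reflects divisibility by integers of integral
elements. -/
theorem exists_div {E : Type*} [Ring E] {L : Type*} [Field L] [NumberField L] (ρ : 𝓞 L →+* E)
    (hρ : Function.Injective ρ) {u : E} (hu : ∃ P : ℤ[X], P.Monic ∧ P.eval₂ (Int.castRingHom E) u = 0) {n : ℤ}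
    (hn : n ≠ 0) {y : 𝓞 L} (h : (n : E) * u = ρ y) : ∃ z : 𝓞 L, y = n * z := by
  obtain ⟨P, hP, hPu⟩ := hu
  have h1 : (P.scaleRoots n).eval₂ (Int.castRingHom E) ((n : E) * u) = 0 := by
    have h2 := scaleRoots_eval₂_mul_of_commute (p := P) (Int.castRingHom E) u n (Int.cast_commute n u)
      (fun a b => Int.cast_commute a _)
    rw [hPu, mul_zero] at h2
    exact h2
  rw [h, ← K522.CharZero.eval₂_ringHom ρ] at h1
  have h2 : (P.scaleRoots n).eval₂ (Int.castRingHom (𝓞 L)) y = 0 := hρ (by rw [h1, map_zero])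
  have hnL : ((n : ℤ) : L) ≠ 0 := Int.cast_ne_zero.2 hn
  have h3 : (P.scaleRoots n).eval₂ (Int.castRingHom L) (y : L) = 0 := by
    have h4 := congrArg (algebraMap (𝓞 L) L) h2
    rw [K522.CharZero.eval₂_ringHom, map_zero] at h4
    exact h4
  have h4 : (y : L) = (Int.castRingHom L n) * ((y : L) / n) := by
    rw [eq_intCast]
    field_simp
  rw [h4, scaleRoots_eval₂_mul] at h3
  have h5 : P.eval₂ (Int.castRingHom L) ((y : L) / n) = 0 := by
    rcases mul_eq_zero.1 h3 with h6 | h6
    · exact absurd h6 (pow_ne_zero _ (by rw [eq_intCast]; exact hnL))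
    · exact h6
  have h6 : IsIntegral ℤ ((y : L) / n) := ⟨P, hP, h5⟩
  obtain ⟨z, hz⟩ : ∃ z : 𝓞 L, (z : L) = (y : L) / n := ⟨⟨_, h6⟩, rfl⟩
  refine ⟨z, ?_⟩
  apply NumberField.RingOfIntegers.ext
  have h7 : (((n : 𝓞 L) * z : 𝓞 L) : L) = (n : L) * z :=
    (map_mul (algebraMap (𝓞 L) L) _ _).trans (by rw [map_intCast])
  rw [h7, hz]
  exact h4

section

variable {k : Type u} [Field k] (Ω : Type u) [Field Ω] [Algebra k Ω] (A : Over (Spec (CommRingCat.of k)))
  [GrpObj A] [IsCommMonObj A] [IsProper A.hom] [GeometricallyIntegral A.hom]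

/-- Base change as a ring homomorphism. -/
def bcR : EndAV.End A →+* EndAV.End (bc Ω A) where
  toFun := K522.Bridge.bcAdd Ω A A
  map_zero' := map_zero _
  map_add' := map_add _
  map_one' := EndAV.End.ext ((Over.pullback _).map_id A)
  map_mul' φ ψ := EndAV.End.ext ((Over.pullback _).map_comp ψ.toHom φ.toHom)

theorem bcR_injective : Function.Injective (bcR Ω A) := K522.Bridge.bcAdd_injective Ω

end

theorem exists_monic {k : Type u} [Field k] (A : Over (Spec (CommRingCat.of k)))
    [GrpObj A] [IsCommMonObj A] [IsProper A.hom] [GeometricallyIntegral A.hom] (u : EndAV.End A) :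
    ∃ P : ℤ[X], P.Monic ∧ P.eval₂ (Int.castRingHom (EndAV.End A)) u = 0 := by
  have h1 : Module.Finite ℤ (EndAV.End A) := K522.Bridge.finite_hom A A
  obtain ⟨P, hP, h⟩ := IsIntegral.of_finite ℤ u
  refine ⟨P, hP, ?_⟩
  rw [← h]
  congr 1
  exact RingHom.ext_int _ _

/-- **The Frobenius is in the field.** -/
theorem stf (κ : Type u) [Field κ] [Finite κ] (A : Over (K511.HT.Spc κ)) [GrpObj A] [IsCommMonObj A]
    [IsProper A.hom] [GeometricallyIntegral A.hom] (g : ℕ) (hg : topologicalKrullDim A.left = g)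
    (L : Type) [Field L] [NumberField L] (hL : Module.finrank ℚ L = 2 * g) (ρ : 𝓞 L →+* EndAV.End A) :
    ∃ π₀ : 𝓞 L, K511.HT.IsFrob (Nat.card κ) (ρ π₀).toHom := by
  have hg0 : g ≠ 0 := by
    rintro rfl
    have := Module.finrank_pos (R := ℚ) (M := L)
    omega
  have hdim : topologicalKrullDim A.left ≠ 0 := by
    rw [hg]
    exact_mod_cast hg0
  have hρ := K530.HTWeil.injective hdim L ρ
  let Ω := AlgebraicClosure κ
  let π : EndAV.End A := EndAV.End.of (K520.Frob.fr κ A)
  obtain ⟨θ, hθ⟩ := K324.NormDeg.exists_primitive L (𝓞 L)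
  have hint : IsIntegral ℤ θ := Algebra.IsIntegral.isIntegral θ
  have hmin : minpoly ℚ (algebraMap (𝓞 L) L θ) = (minpoly ℤ θ).map (Int.castRingHom ℚ) :=
    minpoly.isIntegrallyClosed_eq_field_fractions ℚ L hint
  have hirr : Irreducible (minpoly ℚ (algebraMap (𝓞 L) L θ)) := minpoly.irreducible (Algebra.IsIntegral.isIntegral _)
  have hdeg : (minpoly ℚ (algebraMap (𝓞 L) L θ)).natDegree = 2 * g := by
    rw [← hL]
    exact K324.NormDeg.natDegree_minpoly L _ hθ
  have hφ : aeval (EndAV.toEnd0 (bcR Ω A (ρ θ))) (minpoly ℚ (algebraMap (𝓞 L) L θ)) = 0 := by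
    rw [hmin, K522.CharZero.aeval_map_int]
    have h1 := K522.CharZero.eval₂_ringHom
      ((EndAV.toEnd0 (A := bc Ω A)).toRingHom.comp ((bcR Ω A).comp ρ)) (minpoly ℤ θ) θ
    have h2 : (minpoly ℤ θ).eval₂ (Int.castRingHom (𝓞 L)) θ = 0 := minpoly.aeval ℤ θ
    rw [h2, map_zero] at h1
    exact h1.symm
  have hcomm : Commute (ρ θ) π := EndAV.End.ext (K520.Frob.fr_comm κ (ρ θ).toHom)
  obtain ⟨n, P, hn, hP⟩ := K567.CMTate.exists_aeval (B := bc Ω A) (g := g) ((dim_bc Ω A).trans hg) hg0 hirr hdeg hφ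
    (bcR Ω A π) (hcomm.map (bcR Ω A))
  have h1 : (n : EndAV.End A) * π = ρ (P.eval₂ (Int.castRingHom (𝓞 L)) θ) := by
    apply bcR_injective Ω A
    rw [map_mul, map_intCast, K522.CharZero.eval₂_ringHom, K522.CharZero.eval₂_ringHom, ← zsmul_eq_mul, hP, aeval_def]
    congr 1
    exact RingHom.ext_int _ _
  obtain ⟨z, hz⟩ := exists_div ρ hρ (exists_monic A π) hn h1
  have h2 : π = ρ z := by
    rw [hz, map_mul, map_intCast] at h1
    have h3 : n • (π - ρ z) = 0 := by
      rw [zsmul_eq_mul, mul_sub, h1, sub_self]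
    exact sub_eq_zero.1 (K510.TateHom.eq_zero_of_zsmul (A := A) (B := A) hn h3)
  refine ⟨z, ?_⟩
  rw [← h2]
  have h3 := K520.Frob.isFrob_fr κ A
  exact ⟨h3.base, h3.le, h3.app⟩

end K530.HTFrob
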