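import Groth.Agent.AbVar.K511.HT.Tower
import Groth.Agent.AbDual.K732.HStep

/-!
# Classes in the tower of thickenings (node `CLS` of the Honda–Tate project)

* `amp_sq`: the square of an ample class is ample;
* `symm_pull`: symmetric classes stay symmetric under base change;
* `amp_zero`: ampleness over `W / 𝔪` is ampleness over the residue field;
* `uniq`: uniqueness of symmetric lifts over `W / 𝔪 ^ (n + 1)` with a given ample reduction.
-/

set_option autoImplicit false
universe u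

open CategoryTheory CategoryTheory.Limits MonoidalCategory CartesianMonoidalCategory MonObj GrpObj AlgebraicGeometry
open Groth.Agent.Grpsch.PicGrp K511.HT K732.HAmp

noncomputable section

namespace K530.HTCls

theorem amp_iff {X : Scheme.{u}} {c : Pic X} : IsAmpleCl c ↔ Amp c :=
  ⟨fun ⟨L, hL, h⟩ => ⟨L, hL, h.symm⟩, fun ⟨L, hL, h⟩ => ⟨L, hL, h.symm⟩⟩

theorem amp_pull {X Y : Scheme.{u}} (f : Y ⟶ X) [IsAffineHom f] {c : Pic X} (h : IsAmpleCl c) :
    IsAmpleCl (pull f c) := amp_iff.2 ((amp_iff.1 h).pull f)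

theorem amp_pull_iff {X Y : Scheme.{u}} (f : Y ⟶ X) [IsIso f] {c : Pic X} : IsAmpleCl (pull f c) ↔ IsAmpleCl c := by
  refine ⟨fun h => ?_, amp_pull f⟩
  have h1 := amp_pull (CategoryTheory.inv f) h
  rwa [← pull_comp, IsIso.inv_hom_id, pull_id] at h1

theorem amp_sq {X : Scheme.{u}} {M : Pic X} (h : IsAmpleCl M) : IsAmpleCl (M ^ 2) :=
  amp_iff.2 ((amp_pow_iff two_pos).2 (amp_iff.1 h))

theorem symm_pull {S S' : Scheme.{u}} {t : S' ⟶ S} {X : Over S} {X' : Over S'} [GrpObj X] [GrpObj X']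
    [IsCommMonObj X] [IsCommMonObj X'] {q : X'.left ⟶ X.left} (h : IsBC t X X' q) {g : ℕ}
    (hX : AgPol.IsAbSch X g) {L : Pic X.left} (hL : IsSymm X L) : IsSymm X' (pull q L) := by
  have h2 : h.tr h hX hX (-1 : EndAV.End X) = (-1 : EndAV.End X') := by
    rw [← IsBC.trEnd_apply, map_neg, map_one]
  have h3 : (-1 : EndAV.End X).toHom = (ι[X] : X ⟶ X) := K732.HLbu.inv_eq X
  have h4 : (-1 : EndAV.End X').toHom = (ι[X'] : X' ⟶ X') := K732.HLbu.inv_eq X'
  have h1 : (ι[X'] : X' ⟶ X').left ≫ q = q ≫ (ι[X] : X ⟶ X).left := by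
    rw [← h3, ← h4, ← h2]
    exact h.tr_fac h hX hX (-1 : EndAV.End X)
  unfold IsSymm at hL ⊢
  rw [← pull_comp, h1, pull_comp, hL]

section tower

variable (W : Type u) [CommRing W] [IsDomain W] [IsDiscreteValuationRing W]

theorem isIso_spm {R S : Type u} [CommRing R] [CommRing S] {ψ : R →+* S} (h : Function.Bijective ψ) :
    IsIso (spm ψ) := by
  have h3 : IsIso (CommRingCat.ofHom ψ) := (ConcreteCategory.isIso_iff_bijective _).2 h
  infer_instance

theorem pin_zero_bijective : Function.Bijective (pin W 0) := by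
  refine ⟨?_, pin_surjective W 0⟩
  rw [RingHom.injective_iff_ker_eq_bot]
  exact (pow_one _).symm.trans (ker_pin W 0)

theorem amp_zero {Y : Over (Spc (Rn W 0))} {Z : Over (Spc (IsLocalRing.ResidueField W))} [GrpObj Y] [GrpObj Z]
    {q : Z.left ⟶ Y.left} (h : IsBC (spm (pin W 0)) Y Z q) (L : Pic Y.left) (ha : IsAmpleCl (pull q L)) :
    IsAmpleCl L := by
  have h1 := isIso_spm (pin_zero_bijective W)
  have h2 := h.isIso
  exact (amp_pull_iff q).1 ha

/-- The residue field of `W / 𝔪 ^ (n + 1)`. -/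
theorem exists_res (n : ℕ) : ∃ ψ : IsLocalRing.ResidueField W →+* IsLocalRing.ResidueField (Rn W n),
    Function.Bijective ψ ∧ ψ.comp (pin W n) = IsLocalRing.residue (Rn W n) := by
  obtain ⟨ψ, h1, h2⟩ := K732.HStep.exists_res W n
  refine ⟨ψ, h1, RingHom.ext fun x => ?_⟩
  obtain ⟨a, rfl⟩ := Ideal.Quotient.mk_surjective x
  exact RingHom.congr_fun h2 a

theorem uniq (hU : LBU.{u}) (h2 : ((2 : ℕ) : IsLocalRing.ResidueField W) ≠ 0) (n : ℕ) {Y : Over (Spc (Rn W n))}
    {Z : Over (Spc (IsLocalRing.ResidueField W))} [GrpObj Y] [GrpObj Z] [IsCommMonObj Y] [IsCommMonObj Z]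
    {q : Z.left ⟶ Y.left} (h : IsBC (spm (pin W n)) Y Z q) {g : ℕ} (hY : AgPol.IsAbSch Y g) (L L' : Pic Y.left)
    (hL : IsSymm Y L) (hL' : IsSymm Y L') (he : pull q L = pull q L') (ha : IsAmpleCl (pull q L)) : L = L' := by
  obtain ⟨ψ, hψ, hc⟩ := exists_res W n
  have hiso := isIso_spm hψ
  have h0 : spm ψ ≫ spm (pin W n) = spm (IsLocalRing.residue (Rn W n)) := by
    rw [← hc]
    exact LieS.specMap_comp _ _
  have H : IsBC (spm ψ ≫ spm (pin W n)) Y (Red.bc (spm (IsLocalRing.residue (Rn W n))) Y)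
      (pullback.fst Y.hom (spm (IsLocalRing.residue (Rn W n)))) := (isBC_bc _ Y).congr h0.symm
  have hfac := h.lift_fac H
  have hiso' := (h.isBC_lift H).isIso
  have h2' : ((2 : ℕ) : IsLocalRing.ResidueField (Rn W n)) ≠ 0 := by
    rw [← map_natCast ψ]
    exact fun h0 => h2 (hψ.1 (h0.trans (map_zero ψ).symm))
  refine hU (Rn W n) h2' Y g hY L L' hL hL' ?_ ?_
  · rw [← hfac, pull_comp, pull_comp, he]
  · rw [← hfac, pull_comp]
    exact amp_pull _ ha

end tower

end K530.HTCls
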