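import Groth.Agent.AbVar.K511.HT.Iface2
import Mathlib.NumberTheory.NumberField.CMField

/-!
# Node `CMF` of the Honda–Tate project: the CM field of a Weil number

`K530.HTCmf.main : K511.HT.CMF`.
-/

set_option autoImplicit false
universe u

open NumberField
open scoped NumberField Polynomial ComplexConjugate

namespace K530.HTCmf

section weil

variable {L : Type} [Field L] [NumberField L] {p : ℕ} {ϖ : L} (hp : p ≠ 0)
  (hgen : Algebra.adjoin ℚ {ϖ} = ⊤) (hw : ∀ σ : L →+* ℂ, ‖σ ϖ‖ ^ 2 = p)

include hp hw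

theorem ne_zero : ϖ ≠ 0 := by
  rintro rfl
  obtain ⟨σ⟩ : Nonempty (L →+* ℂ) := inferInstance
  have := hw σ
  rw [map_zero, norm_zero, zero_pow two_ne_zero] at this
  exact hp (by exact_mod_cast this.symm)

theorem map_inv (σ : L →+* ℂ) : σ (p * ϖ⁻¹) = conj (σ ϖ) := by
  have h0 : σ ϖ ≠ 0 := (map_ne_zero σ).2 (ne_zero hp hw)
  rw [map_mul, map_inv₀, map_natCast]
  have h1 : conj (σ ϖ) * σ ϖ = p := by
    rw [mul_comm, Complex.mul_conj, Complex.normSq_eq_norm_sq]
    exact_mod_cast hw σ
  field_simp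
  rw [mul_comm]
  exact h1.symm

include hgen

theorem exists_conj (x : L) : ∃ y : L, ∀ σ : L →+* ℂ, σ y = conj (σ x) := by
  have hx : x ∈ Algebra.adjoin ℚ {ϖ} := by rw [hgen]; trivial
  rw [Algebra.adjoin_singleton_eq_range_aeval] at hx
  obtain ⟨P, rfl⟩ := hx
  refine ⟨Polynomial.aeval (p * ϖ⁻¹) P, fun σ => ?_⟩
  have h1 : ∀ z : L, σ (Polynomial.aeval z P) = Polynomial.aeval (σ z) P := fun z =>
    (Polynomial.aeval_algHom_apply σ.toRatAlgHom z P).symm
  have h2 : ∀ z : ℂ, conj (Polynomial.aeval z P) = Polynomial.aeval (conj z) P := fun z =>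
    (Polynomial.aeval_algHom_apply (starRingEnd ℂ).toRatAlgHom z P).symm
  have h3 : (Polynomial.aeval ϖ).toRingHom P = Polynomial.aeval ϖ P := rfl
  rw [h3, h1, h1, h2, map_inv hp hw]

theorem exists_c : ∃ c : L ≃+* L, ∀ (σ : L →+* ℂ) (x : L), σ (c x) = conj (σ x) := by
  choose f hf using exists_conj hp hgen hw
  obtain ⟨σ₀⟩ : Nonempty (L →+* ℂ) := inferInstance
  have inj := σ₀.injective
  refine ⟨{ toFun := f, invFun := f, left_inv := fun x => ?_, right_inv := fun x => ?_, map_mul' := fun x y => ?_,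
            map_add' := fun x y => ?_ }, fun σ x => hf x σ⟩
  · apply inj; rw [hf, hf, Complex.conj_conj]
  · apply inj; rw [hf, hf, Complex.conj_conj]
  · apply inj; rw [map_mul, hf, hf, hf, map_mul, map_mul]
  · apply inj; rw [map_add, hf, hf, hf, map_add, map_add]

end weil

theorem main : K511.HT.CMF := by
  classical
  intro p _ L _ _ ϖ hgen hw him
  have hp : p ≠ 0 := (Fact.out : p.Prime).ne_zero
  obtain ⟨c, hc⟩ := exists_c hp hgen hw
  obtain ⟨σ₀⟩ : Nonempty (L →+* ℂ) := inferInstance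
  have inj := σ₀.injective
  have hcc : ∀ x, c (c x) = x := fun x => inj (by rw [hc, hc, Complex.conj_conj])
  have hcw : c ϖ * ϖ = p := by
    apply inj
    rw [map_mul, hc, mul_comm, Complex.mul_conj, Complex.normSq_eq_norm_sq, map_natCast]
    exact_mod_cast hw σ₀
  let s : 𝓞 L := ϖ - ⟨c ϖ, map_isIntegral_int c (RingOfIntegers.isIntegral_coe ϖ)⟩
  have hs : (s : L) = ϖ - c ϖ := rfl
  have hcs : c s = -s := by
    rw [hs, map_sub, hcc, neg_sub]
  have hσs : ∀ σ : L →+* ℂ, σ s = (2 * (σ ϖ).im : ℝ) * Complex.I := by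
    intro σ
    rw [hs, map_sub, hc, Complex.sub_conj]
  have hs0 : (s : L) ≠ 0 := by
    intro h
    have h1 := hσs σ₀
    rw [h, map_zero] at h1
    have h2 := (mul_eq_zero.1 h1.symm).resolve_right Complex.I_ne_zero
    have h3 : 2 * (σ₀ ϖ).im = 0 := by exact_mod_cast h2
    exact him σ₀ (by linarith)
  have hmem : ∀ x : L, x ∈ maximalRealSubfield L ↔ c x = x := by
    intro x
    rw [mem_maximalRealSubfield_iff]
    constructor
    · intro h
      apply inj
      rw [hc]
      exact h σ₀
    · intro h φ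
      have := hc φ x
      rw [h] at this
      exact this.symm
  have hfix : ∀ x : maximalRealSubfield L, c (algebraMap (maximalRealSubfield L) L x) =
      algebraMap (maximalRealSubfield L) L x := fun x => (hmem x).1 x.2
  have hd : -((s : L) ^ 2) ∈ maximalRealSubfield L := by
    rw [hmem, map_neg, map_pow, hcs]
    ring
  let d₀ : maximalRealSubfield L := ⟨-((s : L) ^ 2), hd⟩
  have hdint : IsIntegral ℤ d₀ := by
    rw [← isIntegral_algebraMap_iff (FaithfulSMul.algebraMap_injective (maximalRealSubfield L) L)]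
    exact ((RingOfIntegers.isIntegral_coe s).pow 2).neg
  let d : 𝓞 (maximalRealSubfield L) := ⟨d₀, hdint⟩
  have hdec : ∀ x : L, ∃ a b : maximalRealSubfield L, x = algebraMap (maximalRealSubfield L) L a +
      algebraMap (maximalRealSubfield L) L b * s := by
    intro x
    refine ⟨⟨(x + c x) / 2, ?_⟩, ⟨(x - c x) / (2 * s), ?_⟩, ?_⟩
    · rw [hmem, map_div₀, map_add, hcc, map_ofNat, add_comm]
    · rw [hmem, map_div₀, map_sub, hcc, map_mul, hcs, map_ofNat]
      rw [mul_neg, div_neg, ← neg_div, neg_sub]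
    · change x = (x + c x) / 2 + (x - c x) / (2 * s) * s
      field_simp
      ring
  have hfr : Module.finrank (maximalRealSubfield L) L = 2 := by
    have h1 : Module.finrank (maximalRealSubfield L) L ≤ 2 := by
      have htop : Submodule.span (maximalRealSubfield L) (({1, (s : L)} : Finset L) : Set L) = ⊤ := by
        rw [eq_top_iff]
        rintro x -
        obtain ⟨a, b, h⟩ := hdec x
        rw [Finset.coe_pair, Submodule.mem_span_pair]
        exact ⟨a, b, by rw [Algebra.smul_def, Algebra.smul_def, mul_one]; exact h.symm⟩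
      have h2 := finrank_span_finset_le_card (R := maximalRealSubfield L) ({1, (s : L)} : Finset L)
      rw [Set.finrank, htop, finrank_top] at h2
      exact h2.trans Finset.card_le_two
    have h2 : Module.finrank (maximalRealSubfield L) L ≠ 0 := Module.finrank_pos.ne'
    have h3 : Module.finrank (maximalRealSubfield L) L ≠ 1 := by
      intro h
      obtain ⟨a, ha⟩ := (finrank_eq_one_iff_of_nonzero' (1 : L) one_ne_zero).1 h s
      have h4 : c s = s := by
        rw [← ha, Algebra.smul_def, mul_one]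
        exact hfix a
      rw [hcs] at h4
      exact hs0 (self_eq_neg.1 h4.symm)
    omega
  refine ⟨c, maximalRealSubfield L, inferInstance, inferInstance, inferInstance, inferInstance, d, s, hcw, hcc, hc,
    ⟨ϖ, fun h => ?_⟩, fun σ => ?_, ?_, hcs, hfix, ?_, hdec⟩
  · have h1 := hc σ₀ ϖ
    rw [h] at h1
    exact him σ₀ (Complex.conj_eq_iff_im.1 h1.symm)
  · let τ : maximalRealSubfield L →+* ℂ := (algebraMap ℝ ℂ).comp σ
    let _ := τ.toAlgebra
    let φ : L →ₐ[maximalRealSubfield L] ℂ := IsAlgClosed.lift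
    have h1 : τ d₀ = φ.toRingHom (-((s : L) ^ 2)) := (φ.commutes d₀).symm
    have h2 : φ.toRingHom (-((s : L) ^ 2)) = ((4 * (φ.toRingHom ϖ).im ^ 2 : ℝ) : ℂ) := by
      rw [_root_.map_neg, _root_.map_pow, hσs, mul_pow, Complex.I_sq]
      push_cast
      ring
    rw [h2] at h1
    have h3 : σ d₀ = 4 * (φ.toRingHom ϖ).im ^ 2 := by
      have : ((σ d₀ : ℝ) : ℂ) = ((4 * (φ.toRingHom ϖ).im ^ 2 : ℝ) : ℂ) := h1
      exact_mod_cast this
    change 0 < σ d₀
    rw [h3]
    have := him φ.toRingHom
    positivity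
  · change (s : L) ^ 2 = -(-((s : L) ^ 2))
    rw [neg_neg]
  · rw [← Module.finrank_mul_finrank ℚ (maximalRealSubfield L) L, hfr, mul_comm]

end K530.HTCmf
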