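import Groth.Agent.AbVar.K530.RigInj
import Groth.Agent.Pic13.H138.AlgEquiv

/-!
# `AbDual.IsPicZeroCl` in terms of the Picard group
-/

set_option autoImplicit false
universe u
open CategoryTheory CategoryTheory.Limits AlgebraicGeometry
open Groth.Agent Groth.Agent.Fdesc.LocGen Groth.Agent.Grpsch.PicGrp Groth.Agent.Fga.RigGrp
open Groth.Agent.Pic13.H138.AlgEquiv

namespace K530.PicZero

variable {X S : Scheme.{u}} (f : X ⟶ S)

/-- The geometric fibre of `g : Y ⟶ T` at `σ` over `Spec Ω`. -/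
noncomputable abbrev fibOver {Y T : Scheme.{u}} (g : Y ⟶ T) {Ω : Type u} [Field Ω] (σ : Spec (CommRingCat.of Ω) ⟶ T) :
    (pullback g σ).Over (Spec (CommRingCat.of Ω)) := ⟨pullback.snd g σ⟩

/-- The class `c` on `Y` is algebraically equivalent to zero on all geometric fibres of `g : Y ⟶ T`. -/
def FibZero {Y T : Scheme.{u}} (g : Y ⟶ T) (c : Pic Y) : Prop :=
  ∀ (Ω : Type u) [Field Ω] [IsAlgClosed Ω] (σ : Spec (CommRingCat.of Ω) ⟶ T),
    pull (pullback.fst g σ) c ∈ @alg0 Ω _ (pullback g σ) (fibOver g σ) _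

theorem exists_range {T : Scheme.{u}} {Ω : Type u} [Field Ω] (σ : Spec (CommRingCat.of Ω) ⟶ T) :
    ∃ t : T, Set.range σ.base = {t} := by
  refine ⟨σ (IsLocalRing.closedPoint Ω), ?_⟩
  ext y
  constructor
  · rintro ⟨x, rfl⟩
    rw [Subsingleton.elim x (IsLocalRing.closedPoint Ω)]
    rfl
  · rintro rfl
    exact ⟨_, rfl⟩

theorem isAlgTrivialAt_iff {Y T : Scheme.{u}} (g : Y ⟶ T) {L : Y.Modules} (hL : PicF.IsInvertible L) :
    (∀ t : T, AbDual.IsAlgTrivialAt g L t) ↔ FibZero g (mk L hL) := by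
  constructor
  · intro h Ω _ _ σ
    obtain ⟨t, ht⟩ := exists_range σ
    have := h t Ω σ ht
    rw [@isAlgEquivZero_iff_mem Ω _ (pullback g σ) (fibOver g σ) _ _ (isInvertible_pullback _ hL)] at this
    exact this
  · intro h t Ω _ _ σ _
    rw [@isAlgEquivZero_iff_mem Ω _ (pullback g σ) (fibOver g σ) _ _ (isInvertible_pullback _ hL)]
    exact h Ω σ

theorem isPicZeroCl_toCl_iff (T : Over S) (c : Pic (PicF.XT f T)) :
    AbDual.IsPicZeroCl f T (toCl c) ↔ FibZero (PicF.XTproj f T) c := by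
  constructor
  · rintro ⟨L, hLc, hL, h⟩
    have h1 : c = mk L hL := toCl_injective hLc.symm
    rw [h1]
    exact (isAlgTrivialAt_iff _ hL).1 h
  · intro h
    obtain ⟨L, hL, rfl⟩ := exists_mk c
    exact ⟨L, rfl, hL, (isAlgTrivialAt_iff _ hL).2 h⟩

/-- Pic⁰ classes are invertible. -/
theorem exists_toCl_of_isPicZeroCl {T : Over S} {c : PicF.Cl (PicF.XT f T)} (h : AbDual.IsPicZeroCl f T c) :
    ∃ d : Pic (PicF.XT f T), toCl d = c := by
  obtain ⟨L, hLc, hL, _⟩ := h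
  exact ⟨mk L hL, hLc⟩

theorem FibZero.one {Y T : Scheme.{u}} (g : Y ⟶ T) : FibZero g 1 := by
  intro Ω _ _ σ
  rw [map_one]
  exact one_mem _

theorem FibZero.mul {Y T : Scheme.{u}} {g : Y ⟶ T} {a b : Pic Y} (ha : FibZero g a) (hb : FibZero g b) :
    FibZero g (a * b) := by
  intro Ω _ _ σ
  rw [map_mul]
  exact mul_mem (ha Ω σ) (hb Ω σ)

theorem FibZero.inv {Y T : Scheme.{u}} {g : Y ⟶ T} {a : Pic Y} (ha : FibZero g a) :
    FibZero g a⁻¹ := by
  intro Ω _ _ σ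
  rw [map_inv]
  exact inv_mem (ha Ω σ)

/-- Stability under pull back by a square. -/
theorem FibZero.pull {Y T Y' T' : Scheme.{u}} {g : Y ⟶ T} {g' : Y' ⟶ T'} (h : Y' ⟶ Y) (t : T' ⟶ T)
    (w : h ≫ g = g' ≫ t) {a : Pic Y} (ha : FibZero g a) : FibZero g' (Grpsch.PicGrp.pull h a) := by
  intro Ω _ _ σ
  let p : pullback g' σ ⟶ pullback g (σ ≫ t) :=
    pullback.lift (pullback.fst g' σ ≫ h) (pullback.snd g' σ) (by
      rw [Category.assoc, w, pullback.condition_assoc])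
  have h1 := @pull_mem_alg0 Ω _ (pullback g (σ ≫ t)) (fibOver g (σ ≫ t)) _ (pullback g' σ) (fibOver g' σ) p
    (pullback.lift_snd _ _ _) _ (ha Ω (σ ≫ t))
  rw [← pull_comp, pullback.lift_fst, pull_comp] at h1
  exact h1

theorem isPicZeroCl_pullCl {T T' : Over S} (g : T' ⟶ T) {c : PicF.Cl (PicF.XT f T)}
    (h : AbDual.IsPicZeroCl f T c) : AbDual.IsPicZeroCl f T' (PicF.pullCl (PicF.XTmap f g) c) := by
  obtain ⟨d, rfl⟩ := exists_toCl_of_isPicZeroCl f h
  rw [← toCl_pull, isPicZeroCl_toCl_iff]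
  exact ((isPicZeroCl_toCl_iff f T d).1 h).pull _ _ (XTmap_XTproj f g)

/-- If `(P, φ)` represents the fppf-sheafified `Pic⁰`, rigidified Pic⁰ classes with the same image are equal. -/
theorem eq_of_phi_eq [QuasiCompact f] [QuasiSeparated f]
    (hf : ∀ (T : Over S) (U : T.left.Opens), Function.Bijective ((PicF.XTproj f T).app U))
    (σ : S ⟶ X) (hσ : σ ≫ f = 𝟙 S)
    {P : Over S} {φ : ∀ T : Over S, PicF.Cl (PicF.XT f T) → (T ⟶ P)}
    (hP : AbDual.IsRelPicZeroK Scheme.fppfPrecoverage f P φ)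
    (T : Over S) (c c' : Pic (PicF.XT f T)) (hc : c ∈ Rg f σ hσ T) (hc' : c' ∈ Rg f σ hσ T)
    (h0 : AbDual.IsPicZeroCl f T (toCl c)) (h0' : AbDual.IsPicZeroCl f T (toCl c'))
    (h : φ T (toCl c) = φ T (toCl c')) : c = c' := by
  obtain ⟨R, hR, hloc⟩ := hP.locallyInjective T _ _ h0 h0' h
  exact RigInj.eq_of_fppf f hf σ hσ T c c' hc hc' R hR hloc

end K530.PicZero
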