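import Mathlib.AlgebraicGeometry.Limits
import Mathlib.AlgebraicGeometry.Morphisms.Etale
import Mathlib.CategoryTheory.Monoidal.Cartesian.Over
import Mathlib.CategoryTheory.Monoidal.Cartesian.Grp
import Mathlib.CategoryTheory.Monoidal.Cartesian.CommGrp_
import Mathlib.Topology.LocallyConstant.Algebra

/-!
# The constant group scheme of an abstract commutative group
-/

set_option autoImplicit false
universe u
open CategoryTheory MonoidalCategory CartesianMonoidalCategory MonObj GrpObj AlgebraicGeometry Limits Opposite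

namespace K530.ConstGrp

section scheme

variable (S : Scheme.{u}) (M : Type u)

/-- The disjoint union of copies of `S` indexed by `M`. -/
noncomputable def cst : Over S := Over.mk (Sigma.desc (fun _ : M => 𝟙 S))

variable {M} in
/-- The inclusion of the copy of index `m`. -/
noncomputable def inj (m : M) : S ⟶ (cst S M).left := Sigma.ι (fun _ : M => S) m

instance (m : M) : IsOpenImmersion (inj S m) := inferInstanceAs (IsOpenImmersion (Sigma.ι (fun _ : M => S) m))

variable {M} in
@[reassoc]
theorem inj_hom (m : M) : inj S m ≫ (cst S M).hom = 𝟙 S := Sigma.ι_desc _ _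

variable {M} in
/-- The section of index `m`. -/
noncomputable def sec (m : M) : 𝟙_ (Over S) ⟶ cst S M :=
  Over.homMk (inj S m) (inj_hom S m)

theorem sec_left (m : M) : (sec S m).left = inj S m := rfl

theorem isLocallyConstant_fst : IsLocallyConstant (Sigma.fst : (Σ _ : M, S) → M) := by
  rw [IsLocallyConstant.iff_isOpen_fiber]
  intro m
  rw [isOpen_sigma_iff]
  intro i
  by_cases h : i = m
  · subst h
    convert isOpen_univ
    ext; simp
  · convert isOpen_empty
    ext; simp [h]

/-- The index function. -/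
noncomputable def idx : LocallyConstant (cst S M).left M :=
  LocallyConstant.comap ⟨(sigmaMk (fun _ : M => S)).symm, (sigmaMk (fun _ : M => S)).symm.continuous⟩
    ⟨Sigma.fst, isLocallyConstant_fst S M⟩

variable {S M}

theorem idx_inj (m : M) (s : S) : idx S M (inj S m s) = m := by
  change ((sigmaMk (fun _ : M => S)).symm (Sigma.ι (fun _ : M => S) m s)).1 = m
  rw [← sigmaMk_mk, Homeomorph.symm_apply_apply]

theorem exists_inj (x : (cst S M).left) : ∃ s : S, inj S (idx S M x) s = x := by
  obtain ⟨⟨m, s⟩, rfl⟩ := (sigmaMk (fun _ : M => S)).surjective x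
  refine ⟨s, ?_⟩
  have h : sigmaMk (fun _ : M => S) ⟨m, s⟩ = inj S m s := sigmaMk_mk _ _ _
  rw [h, idx_inj]

/-- The locally constant function attached to a point of the constant scheme. -/
noncomputable def fn {T : Over S} (x : T ⟶ cst S M) : LocallyConstant T.left M :=
  LocallyConstant.comap ⟨x.left, x.left.continuous⟩ (idx S M)

theorem fn_apply {T : Over S} (x : T ⟶ cst S M) (t : T.left) : fn x t = idx S M (x.left t) := rfl

theorem fn_comp {T T' : Over S} (g : T' ⟶ T) (x : T ⟶ cst S M) :
    fn (g ≫ x) = LocallyConstant.comap ⟨g.left, g.left.continuous⟩ (fn x) := by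
  ext t
  change idx S M ((g ≫ x).left t) = idx S M (x.left (g.left t))
  rw [Over.comp_left, Scheme.Hom.comp_apply]

theorem fn_sec {T : Over S} (m : M) : fn (toUnit T ≫ sec S m) = LocallyConstant.const T.left m := by
  ext t
  rw [fn_apply, Over.comp_left, Scheme.Hom.comp_apply]
  exact idx_inj m _

/-- On an open where the function is constant a point factors through a section. -/
theorem restr {T : Over S} (x : T ⟶ cst S M) (V : T.left.Opens) (m : M) (h : ∀ t ∈ V, fn x t = m) :
    V.ι ≫ x.left = V.ι ≫ T.hom ≫ inj S m := by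
  have h1 : Set.range (V.ι ≫ x.left) ⊆ Set.range (inj S m) := by
    rintro _ ⟨t, rfl⟩
    obtain ⟨s, hs⟩ := exists_inj ((V.ι ≫ x.left) t)
    have h2 : idx S M ((V.ι ≫ x.left) t) = m := by
      rw [Scheme.Hom.comp_apply]
      exact h _ t.2
    rw [h2] at hs
    exact ⟨s, hs⟩
  have h2 := IsOpenImmersion.lift_fac (inj S m) (V.ι ≫ x.left) h1
  have h3 : IsOpenImmersion.lift (inj S m) (V.ι ≫ x.left) h1 = V.ι ≫ T.hom := by
    rw [← Category.comp_id (IsOpenImmersion.lift _ _ _), ← inj_hom S m, ← Category.assoc, h2, Category.assoc, Over.w]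
  rw [← h2, h3, Category.assoc]

/-- The open parts. -/
def part {T : Scheme.{u}} (c : LocallyConstant T M) (m : M) : T.Opens :=
  ⟨c ⁻¹' {m}, c.isLocallyConstant.isOpen_fiber m⟩

theorem isColimit_part {T : Scheme.{u}} (c : LocallyConstant T M) :
    Nonempty (IsColimit (Cofan.mk T (fun m => (part c m).ι))) := by
  refine nonempty_isColimit_cofanMk_of _ ?_ ?_
  · rw [eq_top_iff]
    intro t _
    rw [TopologicalSpace.Opens.mem_iSup]
    exact ⟨c t, by rw [Scheme.Opens.opensRange_ι]; rfl⟩
  · intro m n hmn
    change Disjoint (part c m).ι.opensRange (part c n).ι.opensRange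
    rw [Scheme.Opens.opensRange_ι, Scheme.Opens.opensRange_ι, disjoint_iff, eq_bot_iff]
    rintro t ⟨h1, h2⟩
    exact hmn (h1.symm.trans h2)

theorem fn_injective {T : Over S} : Function.Injective (fn : (T ⟶ cst S M) → LocallyConstant T.left M) := by
  intro x y h
  obtain ⟨hc⟩ := isColimit_part (fn x)
  ext1
  refine hc.hom_ext ?_
  rintro ⟨m⟩
  change (part (fn x) m).ι ≫ x.left = (part (fn x) m).ι ≫ y.left
  rw [restr x _ m (fun t ht => ht), restr y _ m (fun t ht => by rw [← h]; exact ht)]

theorem fn_surjective {T : Over S} : Function.Surjective (fn : (T ⟶ cst S M) → LocallyConstant T.left M) := by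
  intro c
  obtain ⟨hc⟩ := isColimit_part c
  let x : T.left ⟶ (cst S M).left := hc.desc (Cofan.mk _ (fun m => (part c m).ι ≫ T.hom ≫ inj S m))
  have hx : ∀ m, (part c m).ι ≫ x = (part c m).ι ≫ T.hom ≫ inj S m := fun m =>
    hc.fac _ ⟨m⟩
  have hxw : x ≫ (cst S M).hom = T.hom := by
    refine hc.hom_ext ?_
    rintro ⟨m⟩
    change (part c m).ι ≫ x ≫ (cst S M).hom = (part c m).ι ≫ T.hom
    rw [← Category.assoc, hx, Category.assoc, Category.assoc, inj_hom, Category.comp_id]
  refine ⟨Over.homMk x hxw, ?_⟩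
  ext t
  change idx S M (x t) = c t
  have h5 : t ∈ part c (c t) := rfl
  have h6 : x t = inj S (c t) (T.hom t) := by
    have h7 : ∀ z : (part c (c t)).toScheme, ((part c (c t)).ι ≫ x) z = ((part c (c t)).ι ≫ T.hom ≫ inj S (c t)) z := by
      intro z
      rw [hx]
    exact h7 ⟨t, h5⟩
  rw [h6, idx_inj]

/-- Two morphisms out of a scheme agreeing on the parts of a locally constant function are equal. -/
theorem ext_part {T : Scheme.{u}} (c : LocallyConstant T M) {Y : Scheme.{u}} {f g : T ⟶ Y}
    (h : ∀ m, (part c m).ι ≫ f = (part c m).ι ≫ g) : f = g := by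
  obtain ⟨hc⟩ := isColimit_part c
  refine hc.hom_ext ?_
  rintro ⟨m⟩
  exact h m

end scheme

section group

variable (S : Scheme.{u}) (M : Type u) [CommGroup M]

/-- The functor of locally constant functions. -/
noncomputable def F : (Over S)ᵒᵖ ⥤ CommGrpCat.{u} where
  obj T := CommGrpCat.of (LocallyConstant T.unop.left M)
  map g := CommGrpCat.ofHom (LocallyConstant.comapMonoidHom ⟨g.unop.left, g.unop.left.continuous⟩)

/-- The constant scheme represents the functor of locally constant functions. -/
noncomputable def rep : (F S M ⋙ forget _).RepresentableBy (cst S M) where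
  homEquiv := Equiv.ofBijective fn ⟨fn_injective, fn_surjective⟩
  homEquiv_comp g x := fn_comp g x

noncomputable instance instGrpObj : GrpObj (cst S M) :=
  GrpObj.ofRepresentableBy (cst S M) (F S M ⋙ forget₂ CommGrpCat GrpCat) (rep S M)

instance instComm : IsCommMonObj (cst S M) :=
  IsCommMonObj.ofRepresentableBy (cst S M) (F S M ⋙ forget₂ CommGrpCat CommMonCat) (rep S M)

variable {S M}

theorem fn_mul {T : Over S} (x y : T ⟶ cst S M) : fn (x * y) = fn x * fn y := by
  have h := ((yonedaGrpObjIsoOfRepresentableBy (cst S M) (F S M ⋙ forget₂ CommGrpCat GrpCat) (rep S M)).hom.app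
    (op T)).hom.map_mul x y
  exact h

theorem fn_one {T : Over S} : fn (1 : T ⟶ cst S M) = 1 := by
  have h := ((yonedaGrpObjIsoOfRepresentableBy (cst S M) (F S M ⋙ forget₂ CommGrpCat GrpCat) (rep S M)).hom.app
    (op T)).hom.map_one
  exact h

theorem sec_one : sec S (1 : M) = 1 := by
  apply fn_injective
  have h := fn_sec (T := 𝟙_ (Over S)) (1 : M)
  rw [toUnit_unique (toUnit (𝟙_ (Over S))) (𝟙 _), Category.id_comp] at h
  rw [h, fn_one]
  rfl

theorem sec_mul (m n : M) : sec S (m * n) = sec S m * sec S n := by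
  apply fn_injective
  have h := fun m : M => fn_sec (S := S) (T := 𝟙_ (Over S)) (m : M)
  simp only [toUnit_unique (toUnit (𝟙_ (Over S))) (𝟙 _), Category.id_comp] at h
  rw [fn_mul, h, h, h]
  rfl

variable {G : Over S} [GrpObj G]

/-- The underlying morphism of the morphism from the constant scheme given by a family of sections. -/
noncomputable def descLeft (ρ : M → (𝟙_ (Over S) ⟶ G)) : (cst S M).left ⟶ G.left :=
  Sigma.desc (fun m : M => (ρ m).left)

omit [CommGroup M] [GrpObj G] in
@[reassoc]
theorem inj_descLeft (ρ : M → (𝟙_ (Over S) ⟶ G)) (m : M) : inj S m ≫ descLeft ρ = (ρ m).left :=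
  Sigma.ι_desc _ _

omit [CommGroup M] [GrpObj G] in
theorem hom_ext {Y : Scheme.{u}} {f g : (cst S M).left ⟶ Y} (h : ∀ m, inj S m ≫ f = inj S m ≫ g) : f = g :=
  Sigma.hom_ext _ _ h

/-- The morphism from the constant scheme given by a family of sections. -/
noncomputable def desc (ρ : M → (𝟙_ (Over S) ⟶ G)) : cst S M ⟶ G :=
  Over.homMk (descLeft ρ) (by
    refine hom_ext fun m => ?_
    rw [inj_descLeft_assoc, inj_hom]
    exact Over.w (ρ m))

omit [CommGroup M] [GrpObj G] in
theorem sec_desc (ρ : M → (𝟙_ (Over S) ⟶ G)) (m : M) : sec S m ≫ desc ρ = ρ m := by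
  ext1
  exact inj_descLeft ρ m

/-- An open of `T` as an object over `S`. -/
noncomputable abbrev opn (T : Over S) (V : T.left.Opens) : Over S := Over.mk (V.ι ≫ T.hom)

/-- Its inclusion. -/
noncomputable abbrev opnι (T : Over S) (V : T.left.Opens) : opn T V ⟶ T := Over.homMk V.ι rfl

omit [CommGroup M] in
theorem opnι_comp {T : Over S} (x : T ⟶ cst S M) (V : T.left.Opens) (m : M) (h : ∀ t ∈ V, fn x t = m) :
    opnι T V ≫ x = toUnit _ ≫ sec S m := by
  apply fn_injective
  rw [fn_sec, fn_comp]
  ext t
  exact h _ t.2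

theorem ext_local {T Y : Scheme.{u}} {f g : T ⟶ Y} (h : ∀ x : T, ∃ V : T.Opens, x ∈ V ∧ V.ι ≫ f = V.ι ≫ g) :
    f = g := by
  choose V hV hf using h
  exact (T.openCoverOfIsOpenCover V (by
    rw [TopologicalSpace.IsOpenCover, eq_top_iff]
    intro x _
    rw [TopologicalSpace.Opens.mem_iSup]
    exact ⟨x, hV x⟩)).hom_ext _ _ hf

/-- The morphism from the constant scheme given by a homomorphism is a homomorphism. -/
theorem isMonHom_desc (ρ : M →* (𝟙_ (Over S) ⟶ G)) : IsMonHom (desc (fun m => ρ m)) where
  one_hom := by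
    have h : η[cst S M] = sec S (1 : M) := by rw [sec_one, one_eq_one]
    rw [h, sec_desc, map_one, one_eq_one]
  mul_hom := by
    set T : Over S := cst S M ⊗ cst S M
    set x : T ⟶ cst S M := fst _ _
    set y : T ⟶ cst S M := snd _ _
    set D := desc (fun m => ρ m) with hD
    have h1 : μ[cst S M] = x * y := by
      change _ = lift (fst _ _) (snd _ _) ≫ μ[cst S M]
      rw [lift_fst_snd, Category.id_comp]
    have h2 : (D ⊗ₘ D) ≫ μ[G] = (x ≫ D) * (y ≫ D) := by
      change _ = lift (fst _ _ ≫ D) (snd _ _ ≫ D) ≫ μ[G]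
      congr 1
    rw [h1, h2]
    have key : ∀ m n : M, opnι T (part (fn x) m ⊓ part (fn y) n) ≫ (x * y) ≫ D =
        opnι T (part (fn x) m ⊓ part (fn y) n) ≫ ((x ≫ D) * (y ≫ D)) := by
      intro m n
      have hx := opnι_comp x (part (fn x) m ⊓ part (fn y) n) m (fun t ht => ht.1)
      have hy := opnι_comp y (part (fn x) m ⊓ part (fn y) n) n (fun t ht => ht.2)
      rw [MonObj.comp_mul, ← Category.assoc, MonObj.comp_mul, ← Category.assoc, ← Category.assoc, hx, hy,
        ← MonObj.comp_mul, ← sec_mul, Category.assoc, Category.assoc, Category.assoc, hD, sec_desc, sec_desc,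
        sec_desc, map_mul, MonObj.comp_mul]
    ext1
    refine ext_local fun t => ⟨part (fn x) (fn x t) ⊓ part (fn y) (fn y t), ⟨rfl, rfl⟩, ?_⟩
    exact congrArg CommaMorphism.left (key (fn x t) (fn y t))

end group

section geometry

variable (S : Scheme.{u}) (M : Type u)

instance locallyOfFiniteType_cst : LocallyOfFiniteType (cst S M).hom := by
  have hl : IsZariskiLocalAtSource @LocallyOfFiniteType := HasRingHomProperty.instIsZariskiLocalAtSource
  have h : LocallyOfFiniteType (Sigma.desc (fun _ : M => 𝟙 S)) := by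
    rw [IsZariskiLocalAtSource.iff_of_openCover (P := @LocallyOfFiniteType) (sigmaOpenCover (fun _ : M => S))]
    intro m
    have : (sigmaOpenCover (fun _ : M => S)).f m ≫ Sigma.desc (fun _ : M => 𝟙 S) = 𝟙 S :=
      Sigma.ι_desc _ _
    rw [this]
    change LocallyOfFiniteType (𝟙 S)
    infer_instance
  exact h

end geometry

end K530.ConstGrp
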