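import Groth.Agent.Books.AlgPtsGen

/-!
# Pointed morphisms from varieties factor through open subgroups
-/

set_option autoImplicit false
universe u
open CategoryTheory MonoidalCategory CartesianMonoidalCategory MonObj GrpObj AlgebraicGeometry Limits

namespace K530.OpenSub

open Groth.Agent Groth.Agent.Books.AlgPts Groth.Agent.Books.AlgPtsGrp

variable {k : Type u} [Field k] 

/-- Lifting through an open immersion. -/
theorem exists_lift_open {S : Scheme.{u}} {X Y T : Over S} (i : X ⟶ Y) [IsOpenImmersion i.left] (f : T ⟶ Y)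
    (h : Set.range f.left ⊆ Set.range i.left) : ∃ g : T ⟶ X, g ≫ i = f := by
  refine ⟨Over.homMk (IsOpenImmersion.lift i.left f.left h) ?_, ?_⟩
  · rw [← Over.w i, IsOpenImmersion.lift_fac_assoc, Over.w]
  · ext1
    exact IsOpenImmersion.lift_fac _ _ _

variable [IsAlgClosed k] {X A A0 : Over (Spec (CommRingCat.of k))} [GrpObj A] [GrpObj A0]

omit [IsAlgClosed k] [GrpObj A] [GrpObj A0] in
theorem exists_lift_pt (e₀ : A0 ⟶ A) [IsOpenImmersion e₀.left] (a : 𝟙_ (Over (Spec (CommRingCat.of k))) ⟶ A)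
    (h : pt a ∈ Set.range e₀.left) : ∃ b, b ≫ e₀ = a := by
  refine exists_lift_open e₀ a ?_
  rintro _ ⟨z, rfl⟩
  have hs : Subsingleton (Spec (CommRingCat.of k)) := inferInstanceAs (Subsingleton (PrimeSpectrum k))
  have : z = IsLocalRing.closedPoint k := Subsingleton.elim (α := Spec (CommRingCat.of k)) _ _
  rw [this]
  exact h

theorem exists_factor (e₀ : A0 ⟶ A) [IsMonHom e₀] [IsOpenImmersion e₀.left] [LocallyOfFiniteType X.hom]
    [IrreducibleSpace X.left] (v : X ⟶ A) (x₀ : 𝟙_ (Over (Spec (CommRingCat.of k))) ⟶ X) (h : x₀ ≫ v = 1) :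
    ∃ v₀ : X ⟶ A0, v₀ ≫ e₀ = v := by
  refine exists_lift_open e₀ v ?_
  have hO : IsOpen (Set.range e₀.left) := e₀.left.isOpenEmbedding.isOpen_range
  have h1 : (1 : 𝟙_ (Over (Spec (CommRingCat.of k))) ⟶ A) = 1 ≫ e₀ := by rw [one_comp]
  have h2 : pt (1 : 𝟙_ (Over (Spec (CommRingCat.of k))) ⟶ A) ∈ Set.range e₀.left := by
    rw [h1, pt_comp]
    exact ⟨_, rfl⟩
  have key : ∀ x : 𝟙_ (Over (Spec (CommRingCat.of k))) ⟶ X, pt x ∈ v.left ⁻¹' (Set.range e₀.left) := by
    intro x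
    have hU1 : IsOpen (v.left ⁻¹' (Set.range e₀.left)) := hO.preimage v.left.continuous
    set w : X ⟶ A := v * (toUnit X ≫ x ≫ v)⁻¹ with hw
    have hU2 : IsOpen (w.left ⁻¹' (Set.range e₀.left)) := hO.preimage w.left.continuous
    have hwx : ∀ y : 𝟙_ (Over (Spec (CommRingCat.of k))) ⟶ X, y ≫ w = (y ≫ v) * (x ≫ v)⁻¹ := by
      intro y
      rw [hw, MonObj.comp_mul, GrpObj.comp_inv, ← Category.assoc, toUnit_unique (y ≫ toUnit X) (𝟙 _),
        Category.id_comp]
    have hm1 : pt x₀ ∈ v.left ⁻¹' (Set.range e₀.left) := by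
      change v.left (pt x₀) ∈ Set.range e₀.left
      rw [← pt_comp, h]
      exact h2
    have hm2 : pt x ∈ w.left ⁻¹' (Set.range e₀.left) := by
      change w.left (pt x) ∈ Set.range e₀.left
      rw [← pt_comp, hwx, mul_inv_cancel]
      exact h2
    obtain ⟨y, hy⟩ := exists_pt_mem (nonempty_preirreducible_inter hU1 hU2 ⟨_, hm1⟩ ⟨_, hm2⟩)
      (hU1.inter hU2).isLocallyClosed
    obtain ⟨b, hb⟩ := exists_lift_pt e₀ (y ≫ v) (by rw [pt_comp]; exact hy.1)
    obtain ⟨c, hc⟩ := exists_lift_pt e₀ (y ≫ w) (by rw [pt_comp]; exact hy.2)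
    have h3 : x ≫ v = (c⁻¹ * b) ≫ e₀ := by
      rw [MonObj.mul_comp, GrpObj.inv_comp, hb, hc, hwx]
      group
    change v.left (pt x) ∈ Set.range e₀.left
    rw [← pt_comp, h3, pt_comp]
    exact ⟨_, rfl⟩
  rintro _ ⟨z, rfl⟩
  by_contra hz
  have hC : IsClosed (v.left ⁻¹' (Set.range e₀.left))ᶜ := (hO.preimage v.left.continuous).isClosed_compl
  obtain ⟨x, hx⟩ := exists_pt_mem (X := X) (U := (v.left ⁻¹' (Set.range e₀.left))ᶜ) ⟨z, hz⟩ hC.isLocallyClosed
  exact hx (key x)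

end K530.OpenSub
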