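import Groth.Prelude.Def_Red
import Groth.Prelude.Def_AlgGrp

/-!
# The trivial group is a torus
-/

set_option autoImplicit false
universe u
open CategoryTheory MonoidalCategory CartesianMonoidalCategory MonObj GrpObj AlgebraicGeometry Limits

namespace K530.TrivTorus

variable {S : Scheme.{u}}

/-- An object whose structure morphism is an isomorphism is terminal. -/
theorem hom_unique {T X : Over S} [IsIso T.hom] (f g : X ⟶ T) : f = g := by
  ext1
  rw [← cancel_mono T.hom, Over.w, Over.w]

/-- Two groups with invertible structure morphism are isomorphic. -/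
theorem nonempty_iso (T T' : Over S) [GrpObj T] [GrpObj T'] [IsIso T.hom] [IsIso T'.hom] :
    Nonempty (Grp.mk T ≅ Grp.mk T') := by
  let a : T ⟶ T' := Over.homMk (T.hom ≫ inv T'.hom) (by simp)
  let b : T' ⟶ T := Over.homMk (T'.hom ≫ inv T.hom) (by simp)
  have ha : IsMonHom a := { one_hom := hom_unique _ _, mul_hom := hom_unique _ _ }
  have hb : IsMonHom b := { one_hom := hom_unique _ _, mul_hom := hom_unique _ _ }
  let e : T ≅ T' := ⟨a, b, hom_unique _ _, hom_unique _ _⟩
  have : IsMonHom e.hom := ha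
  exact ⟨Grp.mkIso' e⟩

theorem isIso_diag (R : Type u) [CommRing R] (M : Type) [AddCommGroup M] [Subsingleton M] :
    IsIso (Red.diag R M).hom := by
  have hb : Function.Bijective (algebraMap R (MonoidAlgebra R (Multiplicative M))) := by
    have : Subsingleton (Multiplicative M) := inferInstanceAs (Subsingleton M)
    have h : (algebraMap R (MonoidAlgebra R (Multiplicative M)) : R → _) =
        (MonoidAlgebra.uniqueRingEquiv (R := R) (Multiplicative M)).symm := by
      funext r
      rw [MonoidAlgebra.uniqueRingEquiv_symm_apply]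
      rfl
    rw [h]
    exact RingEquiv.bijective _
  have h1 : IsIso (CommRingCat.ofHom (algebraMap R (MonoidAlgebra R (Multiplicative M)))) := by
    rw [ConcreteCategory.isIso_iff_bijective]
    exact hb
  change IsIso (Spec.map (CommRingCat.ofHom (algebraMap R (MonoidAlgebra R (Multiplicative M)))))
  infer_instance

theorem isIso_bc {S' : Scheme.{u}} (f : S' ⟶ S) (X : Over S) [IsIso X.hom] : IsIso (Red.bc f X).hom := by
  change IsIso (pullback.snd X.hom f)
  infer_instance

theorem isTorus_unit (S : Scheme.{u}) : Red.IsTorus (𝟙_ (Over S)) := by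
  refine ⟨S, 𝟙 S, inferInstance, inferInstance, ?_, fun s => ⟨⊤, trivial, 0, ?_⟩⟩
  · intro V hV
    refine ⟨V, hV.isCompact, ?_⟩
    ext x
    simp
  · have h1 : IsIso (𝟙_ (Over S)).hom := (inferInstance : IsIso (𝟙 S))
    have h2 := isIso_bc ((⊤ : S.Opens).ι ≫ 𝟙 S) (𝟙_ (Over S))
    have h3 := isIso_diag (ULift.{u} ℤ) (Fin 0 → ℤ)
    have h4 : IsIso (Red.DS ((⊤ : S.Opens).toScheme) (Fin 0 → ℤ)).hom := isIso_bc _ _
    exact nonempty_iso _ _

theorem isKernel_unit (H : Over S) [GrpObj H] : AlgGrp.IsKernel η[H] (𝟙 H) := by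
  change IsPullback η[H] (toUnit _) (𝟙 H) η[H]
  rw [toUnit_unique (toUnit (𝟙_ (Over S))) (𝟙 _)]
  exact IsPullback.of_vert_isIso ⟨by simp⟩

end K530.TrivTorus
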