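import Groth.Agent.AbVar.K530.GenProper
import Groth.Agent.AbVar.K530.ConstGrp
import Groth.Agent.AbVar.K530.TrivTorus
import Groth.Agent.AbVar.K530.OpenSub
import Groth.Agent.Books.AntiAffine
import Groth.Agent.Sga3.H830.CommAux
import Groth.Agent.Sga7.H758.EndRing

/-!
# The neutral component of the Albanese scheme of a proper variety is proper
-/

set_option autoImplicit false
universe u
open CategoryTheory MonoidalCategory CartesianMonoidalCategory MonObj GrpObj AlgebraicGeometry Limits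

namespace K530.AlbProper

open Groth.Agent Groth.Agent.Books.AlgPts Groth.Agent.Books.AlgPtsGrp
open Groth.Agent.Books.AlgPtsGen Groth.Agent.Books.AlgPtsSmooth

section general

variable {S : Scheme.{u}}

theorem isOpenImmersion_lift_one (D C : Over S) [MonObj C] [IsOpenImmersion (η[C] : 𝟙_ (Over S) ⟶ C).left] :
    IsOpenImmersion (lift (𝟙 D) (1 : D ⟶ C)).left := by
  have h : IsPullback (lift (𝟙 D) (1 : D ⟶ C)) (toUnit D) (snd D C) η[C] := by
    refine IsPullback.of_isLimit' ⟨by rw [lift_snd, Hom.one_def]⟩ ?_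
    refine PullbackCone.IsLimit.mk _ (fun s => s.fst ≫ fst _ _) (fun s => ?_) (fun s => toUnit_unique _ _)
      (fun s m h1 h2 => ?_)
    · ext1
      · simp
      · rw [Category.assoc, lift_snd, comp_one, s.condition, toUnit_unique s.snd (toUnit _), Hom.one_def]
    · rw [← h1, Category.assoc, lift_fst, Category.comp_id]
  have h2 := h.map (Over.forget _)
  exact MorphismProperty.of_isPullback (P := @IsOpenImmersion) h2.flip ‹_›

theorem mono_of_isOpenImmersion {X Y : Over S} (f : X ⟶ Y) [IsOpenImmersion f.left] : Mono f :=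
  (Over.forget _).mono_of_mono_map (inferInstanceAs (Mono f.left))

theorem mono_of_isClosedImmersion {X Y : Over S} (f : X ⟶ Y) [IsClosedImmersion f.left] : Mono f :=
  (Over.forget _).mono_of_mono_map (inferInstanceAs (Mono f.left))

/-- A morphism from a connected group to a constant group which maps `1` to `1` is trivial. -/
theorem eq_one_of_connected {k : Type u} [Field k] {A0 : Over (Spec (CommRingCat.of k))} [GrpObj A0]
    [ConnectedSpace A0.left] {M : Type u} [CommGroup M] (p : A0 ⟶ ConstGrp.cst (Spec (CommRingCat.of k)) M)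
    (hp : (1 : 𝟙_ (Over (Spec (CommRingCat.of k))) ⟶ A0) ≫ p = 1) : p = 1 := by
  apply ConstGrp.fn_injective
  rw [ConstGrp.fn_one]
  have h1 : ConstGrp.fn ((1 : 𝟙_ (Over (Spec (CommRingCat.of k))) ⟶ A0) ≫ p) = 1 := by rw [hp, ConstGrp.fn_one]
  ext z
  have h2 := (ConstGrp.fn p).isLocallyConstant.apply_eq_of_isPreconnected isPreconnected_univ
    (Set.mem_univ z) (Set.mem_univ (pt (1 : 𝟙_ (Over (Spec (CommRingCat.of k))) ⟶ A0)))
  exact h2.trans (DFunLike.congr_fun h1 (IsLocalRing.closedPoint k))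

end general

variable {k : Type u} [Field k] [IsAlgClosed k]

theorem main (X : Over (Spec (CommRingCat.of k))) [IsIntegral X.left] [IsProper X.hom]
    (A : Over (Spec (CommRingCat.of k))) [GrpObj A] [IsCommMonObj A] [IsSeparated A.hom] [LocallyOfFiniteType A.hom]
    (A0 : Over (Spec (CommRingCat.of k))) [GrpObj A0] (e₀ : A0 ⟶ A) [IsMonHom e₀] [IsOpenImmersion e₀.left]
    [ConnectedSpace ↥A0.left]
    (u : X ⟶ A)
    (huniv : ∀ (G : Over (Spec (CommRingCat.of k))) [GrpObj G] [IsCommMonObj G] [IsSeparated G.hom] [LocallyOfFiniteType G.hom]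
      (G0 : Over (Spec (CommRingCat.of k))) [GrpObj G0] (e : G0 ⟶ G) [IsMonHom e] [IsOpenImmersion e.left]
      [ConnectedSpace ↥G0.left]
      (T : Over (Spec (CommRingCat.of k))) [GrpObj T] (i : T ⟶ G0) [IsMonHom i] [IsClosedImmersion i.left]
      (_ : Red.IsTorus T)
      (B : Over (Spec (CommRingCat.of k))) [GrpObj B] [IsProper B.hom] [Smooth B.hom] [ConnectedSpace ↥B.left]
      (q : G0 ⟶ B) [IsMonHom q] [Surjective q.left] [Flat q.left] (_ : AlgGrp.IsKernel i q)
      (φ : X ⟶ G), ∃! h : A ⟶ G, IsMonHom h ∧ u ≫ h = φ)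
    (huniq : ∃! h : A ⟶ A, IsMonHom h ∧ u ≫ h = u) :
    IsProper A0.hom := by
  have hX : IsVar X := ⟨inferInstance, inferInstance, inferInstance, inferInstance⟩
  have hlA0 : LocallyOfFiniteType A0.hom := by
    rw [← Over.w e₀]; infer_instance
  have hsA0 : IsSeparated A0.hom := by
    rw [← Over.w e₀]; infer_instance
  obtain ⟨x₀, -⟩ := exists_pt_mem (X := X) (U := Set.univ) Set.univ_nonempty isClosed_univ.isLocallyClosed
  set a₀ := x₀ ≫ u with ha₀
  set v : X ⟶ A := u * (toUnit X ≫ a₀)⁻¹ with hv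
  have hvx : x₀ ≫ v = 1 := by
    rw [hv, MonObj.comp_mul, GrpObj.comp_inv, ← Category.assoc x₀ (toUnit X), toUnit_unique (x₀ ≫ toUnit X) (𝟙 _),
      Category.id_comp, mul_inv_cancel]
  obtain ⟨v₀, hv₀⟩ := OpenSub.exists_factor e₀ v x₀ hvx
  have hm₀ : Mono e₀ := mono_of_isOpenImmersion e₀
  have hv₀x : x₀ ≫ v₀ = 1 := by
    rw [← cancel_mono e₀, Category.assoc, hv₀, hvx, one_comp]
  obtain ⟨D, _, i, N, s, v', hi, hic, hD, hDsm, -, -, hv', hDp⟩ := GenSub.exists_sub_of_map hX v₀ x₀ hv₀x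
  have hDp := hDp inferInstance
  have := hD.isIntegral
  have hmi : Mono i := mono_of_isClosedImmersion i
  have hcA0 : IsCommMonObj A0 := Sga3.H830.CommAux.isCommMonObj_of_mono e₀
  have hcD : IsCommMonObj D := Sga3.H830.CommAux.isCommMonObj_of_mono i
  -- the large group
  let M := ULift.{u} (Multiplicative ℤ)
  let C := ConstGrp.cst (Spec (CommRingCat.of k)) M
  have hη : IsOpenImmersion (η[C] : 𝟙_ (Over (Spec (CommRingCat.of k))) ⟶ C).left := by
    have h1 : (η[C] : 𝟙_ (Over (Spec (CommRingCat.of k))) ⟶ C) = ConstGrp.sec _ (1 : M) := by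
      rw [ConstGrp.sec_one, one_eq_one]
    rw [h1]
    exact (inferInstance : IsOpenImmersion (ConstGrp.inj (Spec (CommRingCat.of k)) (1 : M)))
  have hC : LocallyOfFiniteType C.hom := ConstGrp.locallyOfFiniteType_cst _ _
  have hG : LocallyOfFiniteType (D ⊗ C).hom := by
    rw [show (D ⊗ C).hom = pullback.fst D.hom C.hom ≫ D.hom from Over.tensorObj_hom D C]; infer_instance
  have hGs : IsSeparated (D ⊗ C).hom := Books.AntiAffine.isSeparated_hom _
  have hG' : IsSeparated D.hom := inferInstance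
  have he : IsOpenImmersion (lift (𝟙 D) (1 : D ⟶ C)).left := isOpenImmersion_lift_one D C
  have hem : IsMonHom (lift (𝟙 D) (1 : D ⟶ C)) := by
    have : IsMonHom (1 : D ⟶ C) := Sga7.H758.EndRing.isMonHom_one
    exact Sga7.H758.EndRing.isMonHom_of_mul _ fun a b => by
      ext1
      · simp [MonObj.mul_comp]
      · simp [MonObj.mul_comp]
  have := TrivTorus.isKernel_unit D
  have hs1 : Surjective (𝟙 D : D ⟶ D).left := (inferInstance : Surjective (𝟙 D.left))
  have hf1 : Flat (𝟙 D : D ⟶ D).left := (inferInstance : Flat (𝟙 D.left))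
  let m₁ : M := ULift.up (Multiplicative.ofAdd 1)
  let φ : X ⟶ D ⊗ C := lift v' (toUnit X ≫ ConstGrp.sec _ m₁)
  obtain ⟨h, ⟨hh, huh⟩, -⟩ := huniv (D ⊗ C) D (lift (𝟙 D) (1 : D ⟶ C)) (𝟙_ _) η[D] (TrivTorus.isTorus_unit _) D
    (𝟙 D) this φ
  let ρ : M →* (𝟙_ (Over (Spec (CommRingCat.of k))) ⟶ A) :=
    (zpowersHom _ a₀).comp (MulEquiv.ulift (α := Multiplicative ℤ)).toMonoidHom
  have hρ : ρ m₁ = a₀ := by
    change a₀ ^ (1 : ℤ) = a₀
    rw [zpow_one]
  have hdesc : IsMonHom (ConstGrp.desc (fun m => ρ m)) := ConstGrp.isMonHom_desc ρ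
  have hfst : IsMonHom (fst D C) := inferInstance
  have hsnd : IsMonHom (snd D C) := inferInstance
  let g : D ⊗ C ⟶ A := (fst D C ≫ i ≫ e₀) * (snd D C ≫ ConstGrp.desc (fun m => ρ m))
  have hg : IsMonHom g := Sga7.H758.EndRing.isMonHom_mul _ _
  have hφg : φ ≫ g = u := by
    change φ ≫ ((fst D C ≫ i ≫ e₀) * (snd D C ≫ ConstGrp.desc (fun m => ρ m))) = u
    rw [MonObj.comp_mul, lift_fst_assoc, lift_snd_assoc, Category.assoc, ConstGrp.sec_desc, hρ, ← Category.assoc,
      hv', hv₀, hv, inv_mul_cancel_right]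
  have hhg : h ≫ g = 𝟙 A := by
    refine huniq.unique ⟨inferInstance, ?_⟩ ⟨inferInstance, Category.comp_id _⟩
    rw [← Category.assoc, huh, hφg]
  have h1 : (1 : 𝟙_ (Over (Spec (CommRingCat.of k))) ⟶ A0) ≫ (e₀ ≫ h ≫ snd D C) = 1 := by
    rw [one_comp]
  have h2 : e₀ ≫ h ≫ snd D C = 1 := eq_one_of_connected _ h1
  have h3 : (e₀ ≫ h ≫ fst D C) ≫ i = 𝟙 A0 := by
    rw [← cancel_mono e₀, Category.id_comp]
    have h4 : e₀ ≫ h ≫ g = e₀ := by rw [hhg, Category.comp_id]
    have h5 : h ≫ g = (h ≫ fst D C ≫ i ≫ e₀) * (h ≫ snd D C ≫ ConstGrp.desc (fun m => ρ m)) := MonObj.comp_mul _ _ _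
    have h6 : e₀ ≫ h ≫ snd D C ≫ ConstGrp.desc (fun m => ρ m) = 1 := by
      have := congrArg (fun t => t ≫ ConstGrp.desc (fun m => ρ m)) h2
      simp only [Category.assoc] at this
      rw [this, one_comp]
    rw [h5, MonObj.comp_mul, h6, _root_.mul_one] at h4
    simpa only [Category.assoc] using h4
  have h7 : IsSplitEpi i := IsSplitEpi.mk' ⟨e₀ ≫ h ≫ fst D C, h3⟩
  have h8 : IsIso i := isIso_of_mono_of_isSplitEpi i
  have h9 : A0.hom = (inv i).left ≫ D.hom := (Over.w (inv i)).symm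
  have h10 : IsIso (inv i).left := (inferInstance : IsIso ((Over.forget _).map (inv i)))
  rw [h9]
  infer_instance

end K530.AlbProper
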