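import Groth.Agent.AbVar.K530.Univ
import Groth.Agent.AbVar.K530.ConstGrp
import Groth.Agent.AbVar.K530.OpenSub
import Groth.Agent.AbVar.K530.AlbProper
import Groth.Agent.S15958
import Groth.Agent.SGA3.K209.WordNorm

/-!
# The Albanese scheme of a variety
-/

set_option autoImplicit false
universe u
open CategoryTheory MonoidalCategory CartesianMonoidalCategory MonObj GrpObj AlgebraicGeometry Limits Opposite

namespace K530.AlbLarge

open Groth.Agent Groth.Agent.Books.AlgPts Groth.Agent.Books.AlgPtsGen K530.ConstKer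
open K530.RigidGrp K530.DegBd K530.GenMap K530.LemB

variable {k : Type u} [Field k] [IsAlgClosed k]

/-- Semiabelian groups are good. -/
theorem good_of_semiabelian (G : Over (Spec (CommRingCat.of k))) [GrpObj G] [IsCommMonObj G] [IsSeparated G.hom]
    [LocallyOfFiniteType G.hom] [ConnectedSpace ↥G.left]
    (T : Over (Spec (CommRingCat.of k))) [GrpObj T] (i : T ⟶ G) [IsMonHom i] [IsClosedImmersion i.left]
    (hT : Red.IsTorus T)
    (B : Over (Spec (CommRingCat.of k))) [GrpObj B] [IsProper B.hom] [Smooth B.hom] [ConnectedSpace ↥B.left]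
    (q : G ⟶ B) [IsMonHom q] [Surjective q.left] [Flat q.left] (hker : AlgGrp.IsKernel i q) : Good G := by
  have hqc : QuasiCompact G.hom := K209.WordNorm.quasiCompact_of_connected G
  have hT' : Smooth T.hom := Sga3B.TorusAlgClosed.smooth_of_isTorus hT
  have hB : IsLocallyNoetherian B.left := LocallyOfFiniteType.isLocallyNoetherian B.hom
  have hql : LocallyOfFiniteType q.left := by
    have : LocallyOfFiniteType (q.left ≫ B.hom) := by rw [Over.w]; infer_instance
    exact locallyOfFiniteType_of_comp q.left B.hom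
  have hqp : LocallyOfFinitePresentation q.left := inferInstance
  have hqs : Smooth q.left := S15958.smooth_of_isKernel i q hker
  have hGs : Smooth G.hom := by
    rw [← Over.w q]; infer_instance
  have hGi : IsIntegral G.left := K247.SmoothGI.isIntegral_of_smooth G.hom
  refine ⟨inferInstance, ⟨hGi, inferInstance, inferInstance, hqc⟩, hGs, ?_⟩
  exact (S14585.result k G).1 ⟨T, inferInstance, i, B, inferInstance, q, inferInstance, inferInstance, hT,
    inferInstance, inferInstance, inferInstance, hker, inferInstance, inferInstance, inferInstance⟩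

/-- **The Albanese scheme**, from the finiteness of étale cohomology. -/
theorem main (h3505 : FinH1.Fin3505.{u}) (X : Over (Spec (CommRingCat.of k))) [IsIntegral X.left] [IsSeparated X.hom]
    [QuasiCompact X.hom] [LocallyOfFiniteType X.hom] :
    ∃ (A : Over (Spec (CommRingCat.of k))) (_ : GrpObj A) (_ : IsCommMonObj A)
      (A0 : Over (Spec (CommRingCat.of k))) (_ : GrpObj A0) (e₀ : A0 ⟶ A) (_ : IsMonHom e₀)
      (T₀ : Over (Spec (CommRingCat.of k))) (_ : GrpObj T₀) (i₀ : T₀ ⟶ A0) (_ : IsMonHom i₀)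
      (B₀ : Over (Spec (CommRingCat.of k))) (_ : GrpObj B₀) (q₀ : A0 ⟶ B₀) (_ : IsMonHom q₀)
      (u : X ⟶ A),
      IsSeparated A.hom ∧ LocallyOfFiniteType A.hom ∧
      IsOpenImmersion e₀.left ∧ ConnectedSpace ↥A0.left ∧ IsClosedImmersion i₀.left ∧ Red.IsTorus T₀ ∧
      IsProper B₀.hom ∧ Smooth B₀.hom ∧ ConnectedSpace ↥B₀.left ∧
      Surjective q₀.left ∧ Flat q₀.left ∧ AlgGrp.IsKernel i₀ q₀ ∧
      ∀ (G : Over (Spec (CommRingCat.of k))) [GrpObj G] [IsCommMonObj G] [IsSeparated G.hom] [LocallyOfFiniteType G.hom]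
      (G0 : Over (Spec (CommRingCat.of k))) [GrpObj G0] (e : G0 ⟶ G) [IsMonHom e] [IsOpenImmersion e.left]
      [ConnectedSpace ↥G0.left]
      (T : Over (Spec (CommRingCat.of k))) [GrpObj T] (i : T ⟶ G0) [IsMonHom i] [IsClosedImmersion i.left]
      (_ : Red.IsTorus T)
      (B : Over (Spec (CommRingCat.of k))) [GrpObj B] [IsProper B.hom] [Smooth B.hom] [ConnectedSpace ↥B.left]
      (q : G0 ⟶ B) [IsMonHom q] [Surjective q.left] [Flat q.left] (_ : AlgGrp.IsKernel i q)
      (φ : X ⟶ G), ∃! h : A ⟶ G, IsMonHom h ∧ u ≫ h = φ := by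
  have hX : IsVar X := ⟨inferInstance, inferInstance, inferInstance, inferInstance⟩
  obtain ⟨x₀, D, _, v', hD, hv0, hgen, huniv⟩ := Univ.exists_universal h3505 hX
  have := hD.var.isIntegral
  have := hD.var.lft
  have := hD.var.sep
  have := hD.var.qc
  have := hD.smooth
  have hDc := hD.comm
  obtain ⟨T₀, _, i₀, B₀, _, q₀, hi₀, hi₀c, hT₀, hq₀, hq₀s, hq₀f, hker₀, hB₀p, hB₀s, hB₀c⟩ :=
    (S14585.result k D).2 hD.rigid
  -- the large group
  let M := ULift.{u} (Multiplicative ℤ)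
  let C := ConstGrp.cst (Spec (CommRingCat.of k)) M
  have hη : IsOpenImmersion (η[C] : 𝟙_ (Over (Spec (CommRingCat.of k))) ⟶ C).left := by
    have h1 : (η[C] : 𝟙_ (Over (Spec (CommRingCat.of k))) ⟶ C) = ConstGrp.sec _ (1 : M) := by
      rw [ConstGrp.sec_one, one_eq_one]
    rw [h1]
    exact (inferInstance : IsOpenImmersion (ConstGrp.inj (Spec (CommRingCat.of k)) (1 : M)))
  have hC : LocallyOfFiniteType C.hom := ConstGrp.locallyOfFiniteType_cst _ _
  have hG : LocallyOfFiniteType (D ⊗ C).hom := by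
    rw [show (D ⊗ C).hom = pullback.fst D.hom C.hom ≫ D.hom from Over.tensorObj_hom D C]; infer_instance
  have hGs : IsSeparated (D ⊗ C).hom := Books.AntiAffine.isSeparated_hom _
  have he : IsOpenImmersion (lift (𝟙 D) (1 : D ⟶ C)).left := AlbProper.isOpenImmersion_lift_one D C
  have hem : IsMonHom (lift (𝟙 D) (1 : D ⟶ C)) := by
    have : IsMonHom (1 : D ⟶ C) := Sga7.H758.EndRing.isMonHom_one
    exact Sga7.H758.EndRing.isMonHom_of_mul _ fun a b => by
      ext1
      · simp [MonObj.mul_comp]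
      · simp [MonObj.mul_comp]
  let m₁ : M := ULift.up (Multiplicative.ofAdd 1)
  let u : X ⟶ D ⊗ C := lift v' (toUnit X ≫ ConstGrp.sec _ m₁)
  refine ⟨D ⊗ C, inferInstance, inferInstance, D, inferInstance, lift (𝟙 D) (1 : D ⟶ C), hem, T₀, inferInstance, i₀,
    hi₀, B₀, inferInstance, q₀, hq₀, u, hGs, hG, he, inferInstance, hi₀c, hT₀, hB₀p, hB₀s, hB₀c, hq₀s, hq₀f, hker₀, ?_⟩
  intro G _ _ _ _ G0 _ e _ _ _ T _ i _ _ hT B _ _ _ _ q _ _ _ hker φ
  have hlG0 : LocallyOfFiniteType G0.hom := by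
    rw [← Over.w e]; infer_instance
  have hsG0 : IsSeparated G0.hom := by
    rw [← Over.w e]; infer_instance
  have hme : Mono e := AlbProper.mono_of_isOpenImmersion e
  have hcG0 : IsCommMonObj G0 := Sga3.H830.CommAux.isCommMonObj_of_mono e
  have hgood : Good G0 := good_of_semiabelian G0 T i hT B q hker
  set a₀ := x₀ ≫ φ with ha₀
  set v : X ⟶ G := φ * (toUnit X ≫ a₀)⁻¹ with hv
  have hvx : x₀ ≫ v = 1 := by
    rw [hv, MonObj.comp_mul, GrpObj.comp_inv, ← Category.assoc x₀ (toUnit X), toUnit_unique (x₀ ≫ toUnit X) (𝟙 _),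
      Category.id_comp, mul_inv_cancel]
  obtain ⟨v₀, hv₀⟩ := OpenSub.exists_factor e v x₀ hvx
  have hv₀x : x₀ ≫ v₀ = 1 := by
    rw [← cancel_mono e, Category.assoc, hv₀, hvx, one_comp]
  obtain ⟨h₀, hh₀, hvh⟩ := huniv G0 v₀ hgood hv₀x
  let ρ : M →* (𝟙_ (Over (Spec (CommRingCat.of k))) ⟶ G) :=
    (zpowersHom _ a₀).comp (MulEquiv.ulift (α := Multiplicative ℤ)).toMonoidHom
  have hρ : ρ m₁ = a₀ := by
    change a₀ ^ (1 : ℤ) = a₀
    rw [zpow_one]
  have hdesc : IsMonHom (ConstGrp.desc (fun m => ρ m)) := ConstGrp.isMonHom_desc ρ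
  have hfst : IsMonHom (fst D C) := inferInstance
  have hsnd : IsMonHom (snd D C) := inferInstance
  let g : D ⊗ C ⟶ G := (fst D C ≫ h₀ ≫ e) * (snd D C ≫ ConstGrp.desc (fun m => ρ m))
  have hg : IsMonHom g := Sga7.H758.EndRing.isMonHom_mul _ _
  refine ⟨g, ⟨hg, ?_⟩, ?_⟩
  · change u ≫ ((fst D C ≫ h₀ ≫ e) * (snd D C ≫ ConstGrp.desc (fun m => ρ m))) = φ
    rw [MonObj.comp_mul, lift_fst_assoc, lift_snd_assoc, Category.assoc, ConstGrp.sec_desc, hρ, ← Category.assoc v',
      hvh, hv₀, hv, inv_mul_cancel_right]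
  · rintro h ⟨hh, huh⟩
    let h1 : D ⟶ G := lift (𝟙 D) (1 : D ⟶ C) ≫ h
    let h2 : C ⟶ G := lift (1 : C ⟶ D) (𝟙 C) ≫ h
    have hl2 : IsMonHom (lift (1 : C ⟶ D) (𝟙 C)) := by
      have : IsMonHom (1 : C ⟶ D) := Sga7.H758.EndRing.isMonHom_one
      exact Sga7.H758.EndRing.isMonHom_of_mul _ fun a b => by
        ext1
        · simp [MonObj.mul_comp]
        · simp [MonObj.mul_comp]
    have hh1 : IsMonHom h1 := inferInstance
    have hh2 : IsMonHom h2 := inferInstance
    have hsplit : ∀ {Y : Over (Spec (CommRingCat.of k))} (x : Y ⟶ D) (y : Y ⟶ C),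
        lift x y ≫ h = (x ≫ h1) * (y ≫ h2) := by
      intro Y x y
      have e1 : lift x y = (x ≫ lift (𝟙 D) (1 : D ⟶ C)) * (y ≫ lift (1 : C ⟶ D) (𝟙 C)) := by
        ext1
        · simp [MonObj.mul_comp]
        · simp [MonObj.mul_comp]
      rw [e1, MonObj.mul_comp, Category.assoc, Category.assoc]
    have hu : (v' ≫ h1) * (toUnit X ≫ ConstGrp.sec _ m₁ ≫ h2) = φ := by
      rw [← huh]
      change _ = lift v' (toUnit X ≫ ConstGrp.sec _ m₁) ≫ h
      rw [hsplit, Category.assoc]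
    have ha : ConstGrp.sec _ m₁ ≫ h2 = a₀ := by
      rw [ha₀, ← hu, MonObj.comp_mul, ← Category.assoc x₀ v' h1, hv0, one_comp, _root_.one_mul,
        ← Category.assoc x₀ (toUnit X), toUnit_unique (x₀ ≫ toUnit X) (𝟙 _), Category.id_comp]
    have hv1 : v' ≫ h1 = v := by
      rw [hv, ← hu, ha, mul_inv_cancel_right]
    have e1 : h1 = h₀ ≫ e := by
      refine hgen.hom_ext h1 (h₀ ≫ e) ?_
      rw [hv1, ← Category.assoc, hvh, hv₀]
    have hpow : ∀ m : M, ConstGrp.sec (Spec (CommRingCat.of k)) m ≫ h2 = ρ m := by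
      let σ : M →* (𝟙_ (Over (Spec (CommRingCat.of k))) ⟶ G) :=
        { toFun := fun m => ConstGrp.sec (Spec (CommRingCat.of k)) m ≫ h2
          map_one' := by rw [ConstGrp.sec_one, one_comp]
          map_mul' := fun a b => by rw [ConstGrp.sec_mul, MonObj.mul_comp] }
      have hσ : σ.comp (MulEquiv.ulift (α := Multiplicative ℤ)).symm.toMonoidHom =
          ρ.comp (MulEquiv.ulift (α := Multiplicative ℤ)).symm.toMonoidHom := by
        refine MonoidHom.ext_mint ?_
        change σ m₁ = ρ m₁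
        rw [hρ]
        exact ha
      intro m
      exact DFunLike.congr_fun hσ m.down
    have e2 : h2 = ConstGrp.desc (fun m => ρ m) := by
      apply Over.OverMorphism.ext
      refine ConstGrp.hom_ext fun m => ?_
      have h3 := congrArg CommaMorphism.left (hpow m)
      exact h3.trans (ConstGrp.inj_descLeft _ m).symm
    have e3 : h = lift (fst D C) (snd D C) ≫ h := by rw [lift_fst_snd, Category.id_comp]
    rw [e3, hsplit, e1, e2]

end K530.AlbLarge
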