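import Groth.Agent.AbVar.K530.Cocyc
import Mathlib.FieldTheory.Finiteness
import Mathlib.LinearAlgebra.Basis.VectorSpace
import Mathlib.Algebra.Module.ZMod
import Mathlib.Algebra.Field.ZMod
import Mathlib.LinearAlgebra.FiniteDimensional.Basic
import Mathlib.GroupTheory.SpecificGroups.Cyclic.Basic

/-!
# Characters of the kernel whose cocycle is a coboundary
-/

set_option autoImplicit false
universe u v
open CategoryTheory MonoidalCategory CartesianMonoidalCategory MonObj GrpObj AlgebraicGeometry Limits Opposite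

namespace K530.Char

open Groth.Agent Groth.Agent.Books.AlgPts K530.ConstGrp K530.ConstKer K530.EtH1 Groth.Agent.Sga4B.ConstLC K530.Cocyc

theorem card_hom_aux {V : Type u} [AddCommGroup V] [Finite V] (l : ℕ) [Fact l.Prime] [Module (ZMod l) V] :
    Nat.card (V →ₗ[ZMod l] ZMod l) = Nat.card V := by
  have hmf : Module.Finite (ZMod l) V := Module.Finite.of_finite
  let b := Module.finBasis (ZMod l) V
  rw [← Nat.card_congr (b.constr (ZMod l) (M' := ZMod l)).toEquiv]
  exact Nat.card_congr b.equivFun.toEquiv.symm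

/-- The dual of a finite group killed by `l` has the same order. -/
theorem card_hom {V : Type u} [AddCommGroup V] [Finite V] (l : ℕ) [Fact l.Prime] (h : ∀ x : V, l • x = 0) :
    Finite (V →+ ULift.{v} (ZMod l)) ∧ Nat.card (V →+ ULift.{v} (ZMod l)) = Nat.card V := by
  let m : Module (ZMod l) V := AddCommGroup.zmodModule h
  let e1 : (V →+ ULift.{v} (ZMod l)) ≃ (V →+ ZMod l) :=
    { toFun := fun f => (AddEquiv.ulift (α := ZMod l)).toAddMonoidHom.comp f
      invFun := fun f => (AddEquiv.ulift (α := ZMod l)).symm.toAddMonoidHom.comp f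
      left_inv := fun f => by ext; rfl
      right_inv := fun f => by ext; rfl }
  let e2 : (V →+ ZMod l) ≃ (V →ₗ[ZMod l] ZMod l) :=
    { toFun := fun f => AddMonoidHom.toZModLinearMap l f
      invFun := fun f => f.toAddMonoidHom
      left_inv := fun f => by ext; rfl
      right_inv := fun f => by ext; rfl }
  have hf : Finite (V →+ ZMod l) :=
    Finite.of_injective (fun f : V →+ ZMod l => (f : V → ZMod l)) DFunLike.coe_injective
  refine ⟨Finite.of_equiv _ e1.symm, ?_⟩
  rw [Nat.card_congr (e1.trans e2)]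
  exact @card_hom_aux V _ _ l _ m

/-- A non-zero homomorphism to a group of prime order is surjective. -/
theorem surjective_of_ne_zero {V : Type u} [AddCommGroup V] (l : ℕ) [Fact l.Prime] (e : V →+ ULift.{v} (ZMod l))
    (he : e ≠ 0) : Function.Surjective e := by
  have hc : Nat.card (ULift.{v} (ZMod l)) = l := by
    rw [Nat.card_congr Equiv.ulift, Nat.card_zmod]
  have : Fact (Nat.card (ULift.{v} (ZMod l))).Prime := by rw [hc]; infer_instance
  rcases e.range.eq_bot_or_eq_top_of_prime_card with h | h
  · exact absurd (AddMonoidHom.range_eq_bot_iff.1 h) he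
  · exact AddMonoidHom.range_eq_top.1 h

variable {k : Type u} [Field k] [IsAlgClosed k]
  {U G H N : Over (Spec (CommRingCat.of k))} [GrpObj G] [GrpObj H] [GrpObj N] [IsCommMonObj G] [IsCommMonObj N]
  [Etale N.hom] {p : G ⟶ H} [IsMonHom p] {n : N ⟶ G} [IsMonHom n] (hk : AlgGrp.IsKernel n p) {v : U ⟶ H}

/-- Cocycles as a homomorphism. -/
noncomputable def ccHom (A : Type (u + 1)) [AddCommGroup A] :
    (Additive (Pts N) →+ A) →+ LocallyConstant (pullback (prj p v).left (prj p v).left : Scheme.{u}) A :=
  AddMonoidHom.mk' (fun e => cc hk (v := v) e) (fun e e' => by ext z; rfl)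

/-- If the kernel has more points than `H¹(U, ℤ/l)`, some non-zero character has trivial cocycle. -/
theorem exists_char [Etale p.left] [Surjective p.left] (l : ℕ) [Fact l.Prime] [Finite (Pts N)]
    (hl : ∀ γ : Pts N, γ ^ l = 1)
    [Finite (EtCoh.H U.left (LC U.left (ULift.{u + 1} (ZMod l))) 1)]
    (hE : Nat.card (EtCoh.H U.left (LC U.left (ULift.{u + 1} (ZMod l))) 1) < Nat.card (Pts N)) :
    ∃ e : Additive (Pts N) →+ ULift.{u + 1} (ZMod l), e ≠ 0 ∧ ∃ b : LocallyConstant (Tor p v).left
      (ULift.{u + 1} (ZMod l)), ∀ z : (pullback (prj p v).left (prj p v).left : Scheme.{u}),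
        e (Additive.ofMul (F hk z)) =
          b (pullback.snd (prj p v).left (prj p v).left z) - b (pullback.fst (prj p v).left (prj p v).left z) := by
  have hfin : Finite (Additive (Pts N)) := inferInstanceAs (Finite (Pts N))
  obtain ⟨h1, h2⟩ := card_hom.{u, u + 1} (V := Additive (Pts N)) l (fun x => hl x.toMul)
  have h3 : Nat.card (Additive (Pts N)) = Nat.card (Pts N) := rfl
  obtain ⟨e, he, b, hb⟩ := exists_coboundary (π := (prj p v).left) (A := ULift.{u + 1} (ZMod l))
    (ccHom hk (ULift.{u + 1} (ZMod l))) (fun e => isCocycle hk e) (by rw [h2, h3]; exact hE)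
  exact ⟨e, he, b, hb⟩

end K530.Char
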