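import Groth.Agent.AbVar.K530.ConstGrp
import Groth.Agent.Books.AlgPts
import Mathlib.AlgebraicGeometry.Morphisms.FlatMono
import Mathlib.AlgebraicGeometry.Morphisms.QuasiFinite
import Mathlib.RingTheory.Etale.Field
import Mathlib.RingTheory.Unramified.LocalStructure

/-!
# Étale group schemes over an algebraically closed field are constant
-/

set_option autoImplicit false
universe u
open CategoryTheory MonoidalCategory CartesianMonoidalCategory MonObj GrpObj AlgebraicGeometry Limits Opposite

namespace K530.ConstKer

open Groth.Agent.Books.AlgPts K530.ConstGrp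

theorem locallyQuasiFinite_of_etale {X Y : Scheme.{u}} (f : X ⟶ Y) [Etale f] : LocallyQuasiFinite f where
  quasiFinite_appLE {U} hU {V} hV e := by
    have h := HasRingHomProperty.appLE @Etale f ‹_› ⟨U, hU⟩ ⟨V, hV⟩ e
    algebraize [(f.appLE U V e).hom]
    change Algebra.QuasiFinite Γ(Y, U) Γ(X, V)
    infer_instance

theorem discreteTopology (k : Type u) [Field k] (U : Scheme.{u}) (φ : U ⟶ Spec (CommRingCat.of k))
    [LocallyQuasiFinite φ] : DiscreteTopology U := by
  have h := φ.isDiscrete_preimage_singleton (default : Spec (CommRingCat.of k))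
  have h2 : φ ⁻¹' {(default : Spec (CommRingCat.of k))} = Set.univ := by
    ext x
    simp [Subsingleton.elim (φ x) default]
  rw [h2] at h
  exact isDiscrete_univ_iff.mp h

variable {k : Type u} [Field k] {N : Over (Spec (CommRingCat.of k))}

/-- Rational points of an étale scheme are open. -/
theorem isOpenImmersion_pt [Etale N.hom] (g : 𝟙_ (Over (Spec (CommRingCat.of k))) ⟶ N) : IsOpenImmersion g.left := by
  have h1 : g.left ≫ N.hom = 𝟙 _ := Over.w g
  have h2 : Etale (g.left ≫ N.hom) := by
    rw [h1]
    infer_instance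
  have h3 : Etale g.left := Etale.of_comp g.left N.hom
  have h4 : Mono g.left := mono_of_mono_fac h1
  exact IsOpenImmersion.of_flat_of_mono g.left

/-- The closed point. -/
noncomputable def o (k : Type u) [Field k] : (𝟙_ (Over (Spec (CommRingCat.of k)))).left := IsLocalRing.closedPoint k

theorem eq_o (a : (𝟙_ (Over (Spec (CommRingCat.of k)))).left) : a = o k := by
  have hs : Subsingleton (Spec (CommRingCat.of k)) := inferInstanceAs (Subsingleton (PrimeSpectrum k))
  exact Subsingleton.elim (α := Spec (CommRingCat.of k)) _ _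

variable [IsAlgClosed k]

theorem surjective_desc [Etale N.hom] :
    Function.Surjective (desc (fun g : 𝟙_ (Over (Spec (CommRingCat.of k))) ⟶ N => g)).left := by
  intro y
  have := locallyQuasiFinite_of_etale N.hom
  have := discreteTopology k N.left N.hom
  obtain ⟨g, hg⟩ := exists_pt y (isClosed_discrete _)
  refine ⟨inj (Spec (CommRingCat.of k)) g (o k), ?_⟩
  rw [← hg]
  exact congrArg (fun t : Spec (CommRingCat.of k) ⟶ N.left => t (o k))
    (inj_descLeft (fun g : 𝟙_ (Over (Spec (CommRingCat.of k))) ⟶ N => g) g)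

open scoped Function in
theorem isIso_desc [Etale N.hom] :
    IsIso (desc (fun g : 𝟙_ (Over (Spec (CommRingCat.of k))) ⟶ N => g)) := by
  have h0 : ∀ g : 𝟙_ (Over (Spec (CommRingCat.of k))) ⟶ N, IsOpenImmersion g.left := isOpenImmersion_pt
  have h1 : IsOpenImmersion (descLeft (fun g : 𝟙_ (Over (Spec (CommRingCat.of k))) ⟶ N => g)) := by
    refine isOpenImmersion_sigmaDesc (g := fun _ : 𝟙_ (Over (Spec (CommRingCat.of k))) ⟶ N =>
      (Spec (CommRingCat.of k))) (X := N.left) (fun g => g.left) ?_
    intro g h hgh
    rw [Function.onFun, Set.disjoint_left]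
    rintro _ ⟨a, rfl⟩ ⟨b, hb⟩
    apply hgh
    rw [eq_o a, eq_o b] at hb
    exact pt_injective hb.symm
  have h2 : Surjective (descLeft (fun g : 𝟙_ (Over (Spec (CommRingCat.of k))) ⟶ N => g)) := ⟨surjective_desc⟩
  have h3 : IsIso (descLeft (fun g : 𝟙_ (Over (Spec (CommRingCat.of k))) ⟶ N => g)) :=
    (isIso_iff_isOpenImmersion_and_epi_base _).2 ⟨h1, (TopCat.epi_iff_surjective _).2 h2.surj⟩
  have : IsIso ((Over.forget _).map (desc (fun g : 𝟙_ (Over (Spec (CommRingCat.of k))) ⟶ N => g))) := h3
  exact isIso_of_reflects_iso _ (Over.forget _)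

section group

variable [GrpObj N] [IsCommMonObj N]

/-- The group of rational points. -/
abbrev Pts (N : Over (Spec (CommRingCat.of k))) [GrpObj N] : Type u := 𝟙_ (Over (Spec (CommRingCat.of k))) ⟶ N

/-- The comparison isomorphism of an étale commutative group with the constant group of its points. -/
noncomputable def cmp (N : Over (Spec (CommRingCat.of k))) [GrpObj N] : cst (Spec (CommRingCat.of k)) (Pts N) ⟶ N :=
  desc (fun g : Pts N => g)

omit [IsAlgClosed k] in
theorem isMonHom_cmp : IsMonHom (cmp N) := isMonHom_desc (MonoidHom.id (Pts N))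

instance isIso_cmp [Etale N.hom] : IsIso (cmp N) := isIso_desc

/-- The locally constant function attached to a point of an étale group. -/
noncomputable def fnN [Etale N.hom] {T : Over (Spec (CommRingCat.of k))} (x : T ⟶ N) : LocallyConstant T.left (Pts N) :=
  fn (x ≫ CategoryTheory.inv (cmp N))

theorem fnN_mul [Etale N.hom] {T : Over (Spec (CommRingCat.of k))} (x y : T ⟶ N) :
    fnN (x * y) = fnN x * fnN y := by
  have h1 : IsMonHom (asIso (cmp N)).hom := isMonHom_cmp
  have h2 : IsMonHom (asIso (cmp N)).inv := inferInstance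
  have h3 : IsMonHom (CategoryTheory.inv (cmp N)) := h2
  unfold fnN
  rw [MonObj.mul_comp, fn_mul]

omit [IsCommMonObj N] in
theorem fnN_comp [Etale N.hom] {T T' : Over (Spec (CommRingCat.of k))} (g : T' ⟶ T) (x : T ⟶ N) :
    fnN (g ≫ x) = LocallyConstant.comap ⟨g.left, g.left.continuous⟩ (fnN x) := by
  unfold fnN
  rw [Category.assoc, fn_comp]

omit [IsCommMonObj N] in
theorem fnN_injective [Etale N.hom] {T : Over (Spec (CommRingCat.of k))} :
    Function.Injective (fnN : (T ⟶ N) → LocallyConstant T.left (Pts N)) := by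
  intro x y h
  have := fn_injective h
  rwa [cancel_mono] at this

omit [IsCommMonObj N] in
theorem fnN_const [Etale N.hom] {T : Over (Spec (CommRingCat.of k))} (g : Pts N) :
    fnN (toUnit T ≫ g) = LocallyConstant.const T.left g := by
  unfold fnN
  rw [← fn_sec, Category.assoc]
  congr 2
  rw [IsIso.comp_inv_eq]
  exact (sec_desc (fun g : Pts N => g) g).symm

end group

end K530.ConstKer
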