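import Groth.Agent.AbVar.K530.EtH1
import Groth.Agent.AbVar.K530.ConstKer

/-!
# The torsor of divisions of a morphism to a group: cocycles attached to characters of the kernel

`p : G ⟶ H` an étale surjective homomorphism with kernel `n : N ⟶ G`, `v : U ⟶ H`, `P = U ×_H G`.
-/

set_option autoImplicit false
universe u
open CategoryTheory MonoidalCategory CartesianMonoidalCategory MonObj GrpObj AlgebraicGeometry Limits Opposite

namespace K530.Cocyc

open Groth.Agent Groth.Agent.Books.AlgPts K530.ConstGrp K530.ConstKer K530.EtH1 Groth.Agent.Sga4B.ConstLC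

section basic

variable {k : Type u} [Field k] {U G H : Over (Spec (CommRingCat.of k))} (p : G ⟶ H) (v : U ⟶ H)

/-- The torsor. -/
noncomputable abbrev Tor : Over (Spec (CommRingCat.of k)) := pullback v p

/-- Its projection to the base. -/
noncomputable abbrev prj : Tor p v ⟶ U := pullback.fst v p

/-- Its projection to the group. -/
noncomputable abbrev coor : Tor p v ⟶ G := pullback.snd v p

theorem isPullback_left : IsPullback (prj p v).left (coor p v).left v.left p.left :=
  (IsPullback.of_hasPullback v p).map (Over.forget _)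

instance etale_prj [Etale p.left] : Etale (prj p v).left :=
  MorphismProperty.of_isPullback (P := @Etale) (isPullback_left p v).flip ‹_›

instance surjective_prj [Surjective p.left] : Surjective (prj p v).left :=
  MorphismProperty.of_isPullback (P := @Surjective) (isPullback_left p v).flip ‹_›

variable {p v}

theorem snd_hom : pullback.snd (prj p v).left (prj p v).left ≫ (Tor p v).hom =
    pullback.fst (prj p v).left (prj p v).left ≫ (Tor p v).hom := by
  rw [← Over.w (prj p v), ← Category.assoc, ← pullback.condition, Category.assoc]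

variable (p v)

/-- The self product of the torsor over the base. -/
noncomputable abbrev Sq : Over (Spec (CommRingCat.of k)) :=
  Over.mk (pullback.fst (prj p v).left (prj p v).left ≫ (Tor p v).hom)

/-- The projections. -/
noncomputable def sq1 : Sq p v ⟶ Tor p v := Over.homMk (pullback.fst _ _) rfl

/-- The projections. -/
noncomputable def sq2 : Sq p v ⟶ Tor p v := Over.homMk (pullback.snd _ _) snd_hom

variable {p v}

theorem sq_cond : sq1 p v ≫ prj p v = sq2 p v ≫ prj p v := by
  apply Over.OverMorphism.ext
  exact pullback.condition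

end basic

section group

variable {k : Type u} [Field k]
  {U G H N : Over (Spec (CommRingCat.of k))} [GrpObj G] [GrpObj H] {p : G ⟶ H} [IsMonHom p]
  {n : N ⟶ G} (hk : AlgGrp.IsKernel n p) {v : U ⟶ H}

omit [GrpObj G] [IsMonHom p] in
include hk in
theorem ext_ker {T : Over (Spec (CommRingCat.of k))} {x y : T ⟶ N} (h : x ≫ n = y ≫ n) : x = y :=
  IsPullback.hom_ext hk h (toUnit_unique _ _)

theorem quot_comp {T : Over (Spec (CommRingCat.of k))} {x y : T ⟶ Tor p v} (h : x ≫ prj p v = y ≫ prj p v) :
    ((y ≫ coor p v) * (x ≫ coor p v)⁻¹) ≫ p = 1 := by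
  rw [MonObj.mul_comp, GrpObj.inv_comp, Category.assoc, Category.assoc]
  have h1 : coor p v ≫ p = prj p v ≫ v := pullback.condition.symm
  rw [h1, ← Category.assoc, ← h, Category.assoc, mul_inv_cancel]

/-- The difference of two points of the torsor. -/
noncomputable def dif {T : Over (Spec (CommRingCat.of k))} (x y : T ⟶ Tor p v) (h : x ≫ prj p v = y ≫ prj p v) :
    T ⟶ N :=
  IsPullback.lift hk ((y ≫ coor p v) * (x ≫ coor p v)⁻¹) (toUnit T) ((quot_comp h).trans Hom.one_def)

theorem dif_comp {T : Over (Spec (CommRingCat.of k))} (x y : T ⟶ Tor p v) (h : x ≫ prj p v = y ≫ prj p v) :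
    dif hk x y h ≫ n = (y ≫ coor p v) * (x ≫ coor p v)⁻¹ := IsPullback.lift_fst _ _ _ _

theorem comp_dif {T T' : Over (Spec (CommRingCat.of k))} (t : T' ⟶ T) (x y : T ⟶ Tor p v)
    (h : x ≫ prj p v = y ≫ prj p v) :
    t ≫ dif hk x y h = dif hk (t ≫ x) (t ≫ y) (by rw [Category.assoc, h, Category.assoc]) := by
  apply ext_ker hk
  rw [Category.assoc, dif_comp, dif_comp, MonObj.comp_mul, GrpObj.comp_inv]
  simp only [Category.assoc]

theorem dif_mul [IsCommMonObj G] [GrpObj N] [IsMonHom n] {T : Over (Spec (CommRingCat.of k))} (x y z : T ⟶ Tor p v)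
    (h : x ≫ prj p v = y ≫ prj p v) (h' : y ≫ prj p v = z ≫ prj p v) :
    dif hk x z (h.trans h') = dif hk x y h * dif hk y z h' := by
  apply ext_ker hk
  rw [MonObj.mul_comp, dif_comp, dif_comp, dif_comp]
  rw [_root_.mul_comm (y ≫ coor p v * (x ≫ coor p v)⁻¹), _root_.mul_assoc, inv_mul_cancel_left]

variable [IsAlgClosed k] [GrpObj N] [Etale N.hom]

/-- The difference function. -/
noncomputable def F : LocallyConstant (pullback (prj p v).left (prj p v).left : Scheme.{u}) (Pts N) :=
  fnN (dif hk (sq1 p v) (sq2 p v) sq_cond)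

theorem F_lift {T : Over (Spec (CommRingCat.of k))} (x y : T ⟶ Tor p v) (h : x ≫ prj p v = y ≫ prj p v)
    (h' : x.left ≫ (prj p v).left = y.left ≫ (prj p v).left) (t : T.left) :
    F hk (pullback.lift x.left y.left h' t) = fnN (dif hk x y h) t := by
  let s : T ⟶ Sq p v := Over.homMk (pullback.lift x.left y.left h') (by
    change pullback.lift x.left y.left h' ≫ pullback.fst _ _ ≫ _ = _
    rw [pullback.lift_fst_assoc, Over.w])
  have h1 : s ≫ sq1 p v = x := by
    apply Over.OverMorphism.ext
    exact pullback.lift_fst _ _ _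
  have h2 : s ≫ sq2 p v = y := by
    apply Over.OverMorphism.ext
    exact pullback.lift_snd _ _ _
  have h3 : dif hk x y h = s ≫ dif hk (sq1 p v) (sq2 p v) sq_cond := by
    rw [comp_dif]
    congr 1
    · exact h1.symm
    · exact h2.symm
  rw [h3, fnN_comp]
  rfl

/-- The cocycle attached to a character. -/
noncomputable def cc {A : Type (u + 1)} [AddCommGroup A] (e : Additive (Pts N) → A) :
    LocallyConstant (pullback (prj p v).left (prj p v).left : Scheme.{u}) A :=
  (F hk).map (fun γ => e (Additive.ofMul γ))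

theorem isCocycle [IsCommMonObj G] [IsCommMonObj N] [IsMonHom n] {A : Type (u + 1)} [AddCommGroup A]
    (e : Additive (Pts N) →+ A) : IsCocycle (prj p v).left A (cc hk e) := by
  intro V x y z hxy hyz t
  let T : Over (Spec (CommRingCat.of k)) := Over.mk (x ≫ (Tor p v).hom)
  let x' : T ⟶ Tor p v := Over.homMk x rfl
  let y' : T ⟶ Tor p v := Over.homMk y (by
    change y ≫ (Tor p v).hom = x ≫ (Tor p v).hom
    rw [← Over.w (prj p v), ← Category.assoc, ← hxy, Category.assoc])
  let z' : T ⟶ Tor p v := Over.homMk z (by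
    change z ≫ (Tor p v).hom = x ≫ (Tor p v).hom
    rw [← Over.w (prj p v), ← Category.assoc, ← hyz, ← hxy, Category.assoc])
  have h1 : x' ≫ prj p v = y' ≫ prj p v := by
    apply Over.OverMorphism.ext
    exact hxy
  have h2 : y' ≫ prj p v = z' ≫ prj p v := by
    apply Over.OverMorphism.ext
    exact hyz
  have e1 : F hk (pullback.lift x z (hxy.trans hyz) t) = fnN (dif hk x' z' (h1.trans h2)) t :=
    F_lift hk x' z' (h1.trans h2) (hxy.trans hyz) t
  have e2 : F hk (pullback.lift x y hxy t) = fnN (dif hk x' y' h1) t := F_lift hk x' y' h1 hxy t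
  have e3 : F hk (pullback.lift y z hyz t) = fnN (dif hk y' z' h2) t := F_lift hk y' z' h2 hyz t
  change e (Additive.ofMul (F hk (pullback.lift x z (hxy.trans hyz) t))) =
    e (Additive.ofMul (F hk (pullback.lift x y hxy t))) +
      e (Additive.ofMul (F hk (pullback.lift y z hyz t)))
  rw [e1, e2, e3, ← map_add, dif_mul hk x' y' z' h1 h2, fnN_mul]
  rfl

end group

end K530.Cocyc
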