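import Groth.Agent.AbVar.K530.GenMap
import Groth.Agent.AbVar.K505.RatConst

/-!
# Groups receiving only constant maps from the affine line
-/

set_option autoImplicit false
universe u
open CategoryTheory MonoidalCategory CartesianMonoidalCategory MonObj GrpObj AlgebraicGeometry Limits

namespace K530.RigidGrp

open Groth.Agent Groth.Agent.Books.AlgPts Groth.Agent.Books.AlgPtsGrp
open Groth.Agent.Books.AlgPtsGen Groth.Agent.Books.AlgPtsSmooth

variable {k : Type u} [Field k]

/-- The affine line over `k`. -/
noncomputable abbrev line (k : Type u) [Field k] : Over (Spec (CommRingCat.of k)) :=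
  Over.mk (𝔸(PUnit.{u + 1}; Spec (CommRingCat.of k)) ↘ Spec (CommRingCat.of k))

/-- Every morphism from the affine line is constant. -/
def Rigid (G : Over (Spec (CommRingCat.of k))) : Prop :=
  ∀ f : line k ⟶ G, ∃ g : 𝟙_ (Over (Spec (CommRingCat.of k))) ⟶ G, f = toUnit _ ≫ g

/-- A rational point of the line. -/
noncomputable def org (k : Type u) [Field k] : 𝟙_ (Over (Spec (CommRingCat.of k))) ⟶ line k := K505.RatConst.pt 0

theorem const_eq {G : Over (Spec (CommRingCat.of k))} {f : line k ⟶ G} {g : 𝟙_ (Over (Spec (CommRingCat.of k))) ⟶ G}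
    (h : f = toUnit _ ≫ g) : g = org k ≫ f := by
  rw [h, ← Category.assoc, toUnit_unique (org k ≫ toUnit _) (𝟙 _), Category.id_comp]

theorem Rigid.of_mono {D G : Over (Spec (CommRingCat.of k))} (hG : Rigid G) (i : D ⟶ G) [Mono i] : Rigid D := by
  intro f
  obtain ⟨g, hg⟩ := hG (f ≫ i)
  have h1 := const_eq hg
  refine ⟨org k ≫ f, ?_⟩
  rw [← cancel_mono i, hg, h1]
  simp only [Category.assoc]

theorem Rigid.tensor {G H : Over (Spec (CommRingCat.of k))} (hG : Rigid G) (hH : Rigid H) : Rigid (G ⊗ H) := by
  intro f
  obtain ⟨g, hg⟩ := hG (f ≫ fst G H)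
  obtain ⟨h, hh⟩ := hH (f ≫ snd G H)
  refine ⟨lift g h, ?_⟩
  ext1
  · rw [hg, Category.assoc, lift_fst]
  · rw [hh, Category.assoc, lift_snd]

instance connected_line : ConnectedSpace (line k).left := by
  have h1 : GeometricallyIntegral (line k).hom := by dsimp; infer_instance
  have h2 : IsIntegral (line k).left := GeometricallyIntegral.isIntegral_of_subsingleton (line k).hom
  infer_instance

instance reduced_line : IsReduced (line k).left := by
  have h1 : GeometricallyIntegral (line k).hom := by dsimp; infer_instance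
  have h2 : IsIntegral (line k).left := GeometricallyIntegral.isIntegral_of_subsingleton (line k).hom
  infer_instance

theorem isClosedImmersion_pt {G : Over (Spec (CommRingCat.of k))} [IsSeparated G.hom]
    (g : 𝟙_ (Over (Spec (CommRingCat.of k))) ⟶ G) : IsClosedImmersion g.left := by
  have h1 : IsClosedImmersion (g.left ≫ G.hom) := by
    rw [Over.w g]
    exact (inferInstance : IsClosedImmersion (𝟙 (Spec (CommRingCat.of k))))
  exact IsClosedImmersion.of_comp g.left G.hom

/-- Rigidity passes to the source of a finite morphism. -/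
theorem Rigid.of_isFinite {G H : Over (Spec (CommRingCat.of k))} (hH : Rigid H) [IsSeparated G.hom] (π : G ⟶ H)
    [IsFinite π.left] : Rigid G := by
  intro f
  obtain ⟨h, hh⟩ := hH (f ≫ π)
  set g := org k ≫ f with hg
  refine ⟨g, ?_⟩
  have hcl := isClosedImmersion_pt g
  let y₀ : H.left := h.left (IsLocalRing.closedPoint k)
  have hd := π.left.isDiscrete_preimage_singleton y₀
  have h1 : ∀ z, f.left z ∈ π.left ⁻¹' {y₀} := by
    intro z
    have h2 : (f ≫ π).left z = (toUnit (line k) ≫ h).left z := by rw [hh]
    rw [Over.comp_left, Over.comp_left, Scheme.Hom.comp_apply, Scheme.Hom.comp_apply] at h2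
    change π.left (f.left z) = y₀
    rw [h2]
    have hs : Subsingleton (Spec (CommRingCat.of k)) := inferInstanceAs (Subsingleton (PrimeSpectrum k))
    exact congrArg _ (Subsingleton.elim (α := Spec (CommRingCat.of k)) _ _)
  have h3 : (Set.range f.left).Subsingleton := by
    have h4 : _root_.IsPreconnected (Set.range f.left) := isPreconnected_range f.left.continuous
    have := hd.to_subtype
    have h5 : Set.range f.left ⊆ π.left ⁻¹' {y₀} := by
      rintro _ ⟨z, rfl⟩
      exact h1 z
    have h6 : (π.left ⁻¹' {y₀}).InjOn (id : G.left → G.left) := fun a _ b _ h => h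
    have h7 : IsTotallyDisconnected (π.left ⁻¹' {y₀}) := by
      have : TotallyDisconnectedSpace (π.left ⁻¹' {y₀}) := inferInstance
      rw [← Subtype.range_coe (s := π.left ⁻¹' {y₀}), ← Set.image_univ]
      exact (Topology.IsEmbedding.subtypeVal.isTotallyDisconnected_image (s := Set.univ)).2
        (isTotallyDisconnected_of_totallyDisconnectedSpace _)
    exact h7 _ h5 h4
  obtain ⟨t, ht⟩ := exists_lift g f (by
    intro y hy
    refine ⟨IsLocalRing.closedPoint k, h3 ?_ hy⟩
    change pt g ∈ _
    rw [hg, pt_comp]
    exact ⟨_, rfl⟩)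
  rw [← ht, toUnit_unique t (toUnit _)]

end K530.RigidGrp
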