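import Groth.Agent.AbVar.K530.FinHom
import Groth.Agent.AbVar.K530.Rigid

/-!
# Degrees of isogenies through which a generating morphism lifts; saturated morphisms
-/

set_option autoImplicit false
universe u
open CategoryTheory MonoidalCategory CartesianMonoidalCategory MonObj GrpObj AlgebraicGeometry Limits

namespace K530.DegBd

open Groth.Agent Groth.Agent.Books.AlgPtsGen K505.FrobDeg K505.FF K530.GenMap K530.RigidGrp

variable {k : Type u} [Field k]

/-- Commutative smooth connected groups of finite type without maps from the affine line. -/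
structure Good (G : Over (Spec (CommRingCat.of k))) [GrpObj G] : Prop where
  comm : IsCommMonObj G
  var : IsVar G
  smooth : Smooth G.hom
  rigid : Rigid G

theorem deg_algebraMap (K L : Type*) [Field K] [Field L] [Algebra K L] : deg (algebraMap K L) = Module.finrank K L :=
  deg_eq_finrank (algebraMap K L) (RingEquiv.refl K) (fun _ => rfl)

theorem exists_max (P : ℕ → Prop) (D : ℕ) (h1 : ∃ n, P n) (h2 : ∀ n, P n → n ≤ D) :
    ∃ n, P n ∧ ∀ m, P m → m ≤ n := by
  have hfin : {n | P n}.Finite := (Set.finite_le_nat D).subset h2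
  obtain ⟨n, hn, hmax⟩ := Set.exists_max_image {n | P n} id hfin h1
  exact ⟨n, hn, hmax⟩

variable [IsAlgClosed k]

/-- The multisection bound for the degree of isogenies through which a generating morphism lifts. -/
theorem exists_bound (X A : Over (Spec (CommRingCat.of k))) [GrpObj A] (hX : IsVar X) [IsIntegral A.left]
    [IsSeparated A.hom] [LocallyOfFiniteType A.hom] (f : X ⟶ A) (hf : Gen f) :
    ∃ D : ℕ, ∀ (A' : Over (Spec (CommRingCat.of k))) [GrpObj A'] [IsIntegral A'.left] (f' : X ⟶ A') (u : A' ⟶ A)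
      [IsMonHom u] [IsFinite u.left] [IsDominant u.left] (_ : f' ≫ u = f)
      (φ : A.left.functionField →+* A'.left.functionField) (_ : IsFF u.left φ), deg φ ≠ 0 ∧ deg φ ≤ D := by
  obtain ⟨n, hn⟩ := hf
  have hT := isVar_T (hX.tensor hX) n
  have hint := hT.isIntegral
  have hlft := hT.lft
  have hqp := hT.qc
  let s : (T (X ⊗ X) n).left ⟶ A.left := (c (df f) n).left
  have hqc : QuasiCompact s := by
    have : QuasiCompact (s ≫ A.hom) := by
      change QuasiCompact ((c (df f) n).left ≫ A.hom)
      rw [Over.w]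
      exact hqp
    exact QuasiCompact.of_comp s A.hom
  have hss : Surjective s := hn
  have hsd : IsDominant s := inferInstance
  have hsl : LocallyOfFiniteType s := by
    have : LocallyOfFiniteType (s ≫ A.hom) := by
      change LocallyOfFiniteType ((c (df f) n).left ≫ A.hom)
      rw [Over.w]
      exact hlft
    exact locallyOfFiniteType_of_comp s A.hom
  let j := A.left.fromSpecStalk (genericPoint A.left)
  have hne : Nonempty ↥(pullback s j) := by
    obtain ⟨i, hi⟩ := Sga3.H780.AlmostCompl.exists_generic s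
    exact ⟨(pullback.lift ((T (X ⊗ X) n).left.fromSpecStalk (genericPoint _)) i hi.symm)
      (IsLocalRing.closedPoint _)⟩
  obtain ⟨K', _, _, hfin, q, hq⟩ := Fga.HenselDVR.exists_finite_point (K := A.left.functionField) (pullback.snd s j)
  let x : Spec (CommRingCat.of K') ⟶ (T (X ⊗ X) n).left := q ≫ pullback.fst s j
  have hx : x ≫ s = Spec.map (CommRingCat.ofHom (algebraMap A.left.functionField K')) ≫ j := by
    rw [Category.assoc, pullback.condition, ← Category.assoc, hq]
  refine ⟨Module.finrank A.left.functionField K', ?_⟩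
  intro A' _ _ f' u _ _ _ e φ hφ
  let x' : Spec (CommRingCat.of K') ⟶ A'.left := x ≫ (c (df f') n).left
  have hx' : x' ≫ u.left = Spec.map (CommRingCat.ofHom (algebraMap A.left.functionField K')) ≫ j := by
    rw [← hx, Category.assoc, ← Over.comp_left, word_comp, e]
  have hz : x' (IsLocalRing.closedPoint K') = genericPoint A'.left := by
    apply eq_genericPoint u.left
    refine (congrArg (fun t : Spec (CommRingCat.of K') ⟶ A.left => t (IsLocalRing.closedPoint K')) hx').trans ?_
    change j ((Spec.map (CommRingCat.ofHom (algebraMap A.left.functionField K'))) (IsLocalRing.closedPoint K')) = _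
    have hsub : Subsingleton (Spec A.left.functionField) :=
      inferInstanceAs (Subsingleton (PrimeSpectrum A.left.functionField))
    rw [Subsingleton.elim ((Spec.map (CommRingCat.ofHom (algebraMap A.left.functionField K')))
      (IsLocalRing.closedPoint K')) (IsLocalRing.closedPoint A.left.functionField)]
    exact Scheme.fromSpecStalk_closedPoint
  obtain ⟨φ', hφ'⟩ := exists_factor_stalk x' (genericPoint A'.left) hz
  have hcomp : φ'.hom.comp φ = algebraMap A.left.functionField K' := by
    have h1 : Spec.map (CommRingCat.ofHom φ ≫ φ') =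
        Spec.map (CommRingCat.ofHom (algebraMap A.left.functionField K')) := by
      have hjm : Mono j := inferInstanceAs (Mono (A.left.fromSpecStalk (genericPoint A.left)))
      rw [← cancel_mono j, Spec.map_comp, Category.assoc]
      unfold IsFF at hφ
      rw [hφ, ← Category.assoc, hφ', hx']
    have h2 := Spec.map_injective h1
    exact congrArg CommRingCat.Hom.hom h2
  have hdeg : deg φ * deg φ'.hom = Module.finrank A.left.functionField K' := by
    rw [← deg_comp, hcomp, deg_algebraMap]
  have hpos : 0 < Module.finrank A.left.functionField K' := Module.finrank_pos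
  constructor
  · intro h0
    rw [h0, zero_mul] at hdeg
    omega
  · rw [← hdeg]
    apply Nat.le_mul_of_pos_right
    apply Nat.pos_of_ne_zero
    intro h0
    rw [h0, mul_zero] at hdeg
    omega

/-- A morphism to a good group is saturated if it does not lift through non-trivial isogenies. -/
def Sat {X G : Over (Spec (CommRingCat.of k))} [GrpObj G] (x₀ : 𝟙_ (Over (Spec (CommRingCat.of k))) ⟶ X)
    (v : X ⟶ G) : Prop :=
  ∀ (G' : Over (Spec (CommRingCat.of k))) [GrpObj G'] (v' : X ⟶ G') (π : G' ⟶ G) [IsMonHom π] [IsFinite π.left]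
    [Surjective π.left], Good G' → x₀ ≫ v' = 1 → v' ≫ π = v → IsIso π

/-- Among the lifts of a generating pointed morphism along isogenies with a given property there is a maximal one. -/
theorem exists_sat_rel {X G : Over (Spec (CommRingCat.of k))} [GrpObj G] (hX : IsVar X) (hG : Good G)
    (x₀ : 𝟙_ (Over (Spec (CommRingCat.of k))) ⟶ X) (v : X ⟶ G) (h₀ : x₀ ≫ v = 1) (hv : Gen v)
    (R : ∀ (G' : Over (Spec (CommRingCat.of k))) [GrpObj G'], (X ⟶ G') → Prop) (hR : R G v) :
    ∃ (G' : Over (Spec (CommRingCat.of k))) (_ : GrpObj G') (v' : X ⟶ G') (π : G' ⟶ G), IsMonHom π ∧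
      IsFinite π.left ∧ Surjective π.left ∧ Good G' ∧ x₀ ≫ v' = 1 ∧ v' ≫ π = v ∧ R G' v' ∧
      ∀ (G'' : Over (Spec (CommRingCat.of k))) [GrpObj G''] (v'' : X ⟶ G'') (π' : G'' ⟶ G') [IsMonHom π']
        [IsFinite π'.left] [Surjective π'.left], Good G'' → x₀ ≫ v'' = 1 → v'' ≫ π' = v' → R G'' v'' → IsIso π' := by
  have := hG.var.isIntegral
  have := hG.var.lft
  have := hG.var.sep
  obtain ⟨D, hD⟩ := exists_bound X G hX v hv
  let P : ℕ → Prop := fun m => ∃ (A : Over (Spec (CommRingCat.of k))) (_ : GrpObj A) (f : X ⟶ A)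
    (_ : IsIntegral A.left) (π : A ⟶ G)
    (φ : G.left.functionField →+* A.left.functionField),
    Good A ∧ x₀ ≫ f = 1 ∧ IsMonHom π ∧ IsFinite π.left ∧ Surjective π.left ∧ f ≫ π = v ∧ IsFF π.left φ ∧
    deg φ = m ∧ R A f
  have hb : ∀ m, P m → m ≠ 0 ∧ m ≤ D := by
    rintro m ⟨A, _, f, _, π, φ, h1, h2, h3, h4, h5, h6, h7, h8, -⟩
    rw [← h8]
    exact hD A f π h6 φ h7
  have hid : P 1 := by
    refine ⟨G, inferInstance, v, inferInstance, 𝟙 G, RingHom.id _, hG, h₀, inferInstance,
      (inferInstance : IsFinite (𝟙 G.left)), (inferInstance : Surjective (𝟙 G.left)), Category.comp_id _, ?_,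
      deg_id _, hR⟩
    unfold IsFF
    have h1 : Spec.map (CommRingCat.ofHom (RingHom.id G.left.functionField)) = 𝟙 (Spec G.left.functionField) :=
      Spec.map_id _
    exact (congrArg (· ≫ G.left.fromSpecStalk (genericPoint G.left)) h1).trans
      ((Category.id_comp _).trans (Category.comp_id _).symm)
  obtain ⟨m₀, ⟨A, _, f, _, π, φ, h1, h2, h3, h4, h5, h6, h7, h8, hr⟩, hmax⟩ := exists_max P D ⟨1, hid⟩
    (fun m hm => (hb m hm).2)
  refine ⟨A, inferInstance, f, π, h3, h4, h5, h1, h2, h6, hr, ?_⟩
  intro A' _ f' π' _ _ _ hA' hf' hfπ hR'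
  have := hA'.var.isIntegral
  obtain ⟨ψ, hψ⟩ := exists_isFF π'.left
  have h9 : P (deg (ψ.comp φ)) := by
    refine ⟨A', inferInstance, f', inferInstance, π' ≫ π, ψ.comp φ, hA', hf', inferInstance, ?_, ?_, ?_, ?_, rfl,
      hR'⟩
    · rw [Over.comp_left]; infer_instance
    · rw [Over.comp_left]; infer_instance
    · rw [← Category.assoc, hfπ, h6]
    · rw [Over.comp_left]
      exact hψ.comp h7
  have h10 := hb _ h9
  have h11 := hmax _ h9
  have h12 := hb m₀ ⟨A, inferInstance, f, inferInstance, π, φ, h1, h2, h3, h4, h5, h6, h7, h8, hr⟩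
  rw [deg_comp, h8] at h10 h11
  have h13 : deg ψ = 1 := by
    have h14 : deg ψ ≠ 0 := fun h => h10.1 (by rw [h, mul_zero])
    have h15 : 0 < m₀ := Nat.pos_of_ne_zero h12.1
    have h16 : m₀ * deg ψ ≤ m₀ * 1 := by rw [_root_.mul_one]; exact h11
    have h17 := Nat.le_of_mul_le_mul_left h16 h15
    omega
  have := h1.smooth
  have h18 : IsIso π'.left := isIso_of_deg (isNormalScheme A.hom) π'.left ψ hψ h13
  have : IsIso ((Over.forget _).map π') := h18
  exact isIso_of_reflects_iso π' (Over.forget _)

/-- Every generating pointed morphism lifts to a saturated one along an isogeny. -/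
theorem exists_sat {X G : Over (Spec (CommRingCat.of k))} [GrpObj G] (hX : IsVar X) (hG : Good G)
    (x₀ : 𝟙_ (Over (Spec (CommRingCat.of k))) ⟶ X) (v : X ⟶ G) (h₀ : x₀ ≫ v = 1) (hv : Gen v) :
    ∃ (G' : Over (Spec (CommRingCat.of k))) (_ : GrpObj G') (v' : X ⟶ G') (π : G' ⟶ G), IsMonHom π ∧
      IsFinite π.left ∧ Surjective π.left ∧ Good G' ∧ x₀ ≫ v' = 1 ∧ v' ≫ π = v ∧ Sat x₀ v' := by
  obtain ⟨G', _, v', π, h1, h2, h3, h4, h5, h6, -, h7⟩ := exists_sat_rel hX hG x₀ v h₀ hv (fun _ _ _ => True) trivial
  exact ⟨G', inferInstance, v', π, h1, h2, h3, h4, h5, h6, fun G'' _ v'' π' _ _ _ a b c => h7 G'' v'' π' a b c trivial⟩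

end K530.DegBd
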