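import Groth.Agent.Sga4B.ConstLC
import Groth.Agent.Etrest.ConstBasic
import Groth.Prelude.Def_PBC

/-!
# Finiteness of `H¹(U, ℤ/l)` for the sheaf of locally constant functions
-/

set_option autoImplicit false
universe u
open CategoryTheory CategoryTheory.Limits AlgebraicGeometry Opposite

namespace K530.FinH1

open Groth.Agent Groth.Agent.Sga4B.ConstLC

/-- The statement of S3505. -/
def Fin3505 : Prop := ∀ (k : Type u) [Field k] [IsSepClosed k] (X : Scheme.{u})
    (a : X ⟶ Spec (CommRingCat.of k)) [Smooth a] [LocallyOfFiniteType a] [QuasiCompact a]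
    (F : EtCoh.Ab X) (_ : EtCoh.IsFiniteLocallyConstant F)
    (_ : EtPBC.IsTorsionInvertibleOn (Spec (CommRingCat.of k)) F) (q : ℕ),
    Finite (EtCoh.H X F q)

theorem isFLC (X : Scheme.{u}) (M : Type) [AddCommGroup M] [Finite M] :
    EtCoh.IsFiniteLocallyConstant (LC X (ULift.{u + 1} M)) :=
  Etrest.ConstBasic.isFiniteLocallyConstant_of_iso (constIso X M)
    (Etrest.ConstBasic.isFiniteLocallyConstant_const X M)

theorem isTorsionInvertibleOn (S X : Scheme.{u}) (l : ℕ) (hl : IsUnit (l : Γ(S, ⊤))) (A : Type (u + 1))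
    [AddCommGroup A] (hA : ∀ a : A, l • a = 0) : EtPBC.IsTorsionInvertibleOn S (LC X A) := by
  intro U s x
  refine ⟨U, 𝟙 U, l, ⟨x, rfl⟩, hl, ?_⟩
  refine LocallyConstant.ext (X := U.left) (Y := A) fun z => ?_
  exact hA _

theorem isUnit_natCast (k : Type u) [Field k] (l : ℕ) (hl : (l : k) ≠ 0) :
    IsUnit (l : Γ(Spec (CommRingCat.of k), ⊤)) := by
  have h1 : IsUnit (l : k) := isUnit_iff_ne_zero.2 hl
  have h2 := h1.map (Scheme.ΓSpecIso (CommRingCat.of k)).inv.hom
  rwa [map_natCast] at h2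

theorem finite_H1 (h : Fin3505.{u}) (k : Type u) [Field k] [IsSepClosed k] (X : Scheme.{u})
    (a : X ⟶ Spec (CommRingCat.of k)) [Smooth a] [QuasiCompact a] (l : ℕ) [NeZero l] (hl : (l : k) ≠ 0) (q : ℕ) :
    Finite (EtCoh.H X (LC X (ULift.{u + 1} (ZMod l))) q) :=
  h k X a _ (isFLC X (ZMod l)) (isTorsionInvertibleOn _ X l (isUnit_natCast k l hl) _ (fun a => by
    ext
    rw [ULift.smul_down, nsmul_eq_mul, CharP.cast_eq_zero, zero_mul]
    rfl)) q

end K530.FinH1
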