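import Groth.Agent.AbVar.K530.TorsCount
import Groth.Agent.AbVar.K530.FinH1

/-!
# The dimension of good groups generated by a variety is bounded
-/

set_option autoImplicit false
universe u
open CategoryTheory MonoidalCategory CartesianMonoidalCategory MonObj GrpObj AlgebraicGeometry Limits Opposite

namespace K530.DimBd

open Groth.Agent Groth.Agent.Books.AlgPts Groth.Agent.Books.AlgPtsGen K530.ConstKer
open K530.RigidGrp K530.DegBd K530.GenMap K530.LemB Groth.Agent.Sga4B.ConstLC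

variable {k : Type u} [Field k] [IsAlgClosed k]

theorem dim_bound {U : Over (Spec (CommRingCat.of k))} (hU : IsVar U) (x₀ : 𝟙_ (Over (Spec (CommRingCat.of k))) ⟶ U)
    (l : ℕ) [Fact l.Prime] (hl : (l : k) ≠ 0)
    [Finite (EtCoh.H U.left (LC U.left (ULift.{u + 1} (ZMod l))) 1)]
    (G : Over (Spec (CommRingCat.of k))) [GrpObj G] (hG : Good G) (v : U ⟶ G) (h₀ : x₀ ≫ v = 1) (hv : Gen v) (d : ℕ)
    (hd : topologicalKrullDim G.left = d) :
    d ≤ Nat.card (EtCoh.H U.left (LC U.left (ULift.{u + 1} (ZMod l))) 1) := by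
  obtain ⟨G', _, v', π, h1, h2, h3, h4, h5, h6, h7⟩ := exists_sat hU hG x₀ v h₀ hv
  have := hG.var.lft
  have := h4.var.lft
  have hd' : topologicalKrullDim G'.left = d := by rw [FinHom.dim_eq_of_isFinite G' G π, hd]
  have hc := h4.comm
  obtain ⟨N, _, _, n, hn, hnm, hk, hN1, hN2, hN3⟩ := exists_kernel G' l h4.var hl
  have hl1 : 1 < l := (Fact.out : l.Prime).one_lt
  have h8 := TorsCount.pow_le_card G' h4 l (by omega) hl N n hk d hd'
  have h9 := LemB.card_le G' l hU h4 x₀ v' h5 h7 hl N n hk hN3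
  exact (Nat.lt_pow_self hl1).le.trans (h8.trans h9)

omit [IsAlgClosed k] in
theorem exists_prime : ∃ l : ℕ, l.Prime ∧ (l : k) ≠ 0 := by
  by_cases h : (2 : k) = 0
  · refine ⟨3, Nat.prime_three, ?_⟩
    have h1 : ((3 : ℕ) : k) = 2 + 1 := by norm_num
    rw [h1, h, zero_add]
    exact one_ne_zero
  · exact ⟨2, Nat.prime_two, by exact_mod_cast h⟩

/-- The smooth locus of a variety. -/
theorem exists_smooth_open {X : Over (Spec (CommRingCat.of k))} (hX : IsVar X) :
    ∃ (U : Over (Spec (CommRingCat.of k))) (j : U ⟶ X), IsOpenImmersion j.left ∧ IsDominant j.left ∧ IsVar U ∧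
      Smooth U.hom := by
  have := hX.isIntegral
  have := hX.lft
  have := hX.sep
  have := hX.qc
  have hd := X.hom.dense_smoothLocus_of_perfectField
  let V : X.left.Opens := X.hom.smoothLocus
  have hne : Nonempty V.toScheme := hd.nonempty.to_subtype
  let U : Over (Spec (CommRingCat.of k)) := Over.mk (V.ι ≫ X.hom)
  let j : U ⟶ X := Over.homMk V.ι rfl
  have hN : IsLocallyNoetherian X.left := LocallyOfFiniteType.isLocallyNoetherian X.hom
  have hint : IsIntegral U.left := (inferInstance : IsIntegral V.toScheme)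
  have hqc : QuasiCompact V.ι := inferInstance
  have hsm : Smooth (V.ι ≫ X.hom) := by
    rw [← Scheme.Hom.smoothLocus_eq_top_iff, ← Scheme.Hom.preimage_smoothLocus_eq]
    ext x
    simp only [Scheme.Hom.coe_preimage, Set.mem_preimage, SetLike.mem_coe, TopologicalSpace.Opens.coe_top,
      Set.mem_univ, iff_true]
    exact x.2
  refine ⟨U, j, inferInstanceAs (IsOpenImmersion V.ι), ?_, ⟨hint, ?_, ?_, ?_⟩, hsm⟩
  · refine ⟨?_⟩
    change Dense (Set.range V.ι)
    rw [Scheme.Opens.range_ι]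
    exact hd
  · exact inferInstanceAs (LocallyOfFiniteType (V.ι ≫ X.hom))
  · exact inferInstanceAs (IsSeparated (V.ι ≫ X.hom))
  · exact inferInstanceAs (QuasiCompact (V.ι ≫ X.hom))

/-- **Boundedness.** -/
theorem exists_dim_bound (h3505 : FinH1.Fin3505.{u}) {X : Over (Spec (CommRingCat.of k))} (hX : IsVar X) :
    ∃ (x₀ : 𝟙_ (Over (Spec (CommRingCat.of k))) ⟶ X) (D : ℕ), ∀ (G : Over (Spec (CommRingCat.of k))) [GrpObj G]
      (v : X ⟶ G), Good G → x₀ ≫ v = 1 → Gen v → ∀ d : ℕ, topologicalKrullDim G.left = d → d ≤ D := by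
  obtain ⟨U, j, h1, h2, h3, h4⟩ := exists_smooth_open hX
  obtain ⟨l, hlp, hl⟩ := exists_prime (k := k)
  have : Fact l.Prime := ⟨hlp⟩
  have := h3.isIntegral
  have := h3.lft
  have := h3.qc
  have : NeZero l := ⟨hlp.ne_zero⟩
  obtain ⟨x₀, -⟩ := exists_pt_mem (X := U) (U := Set.univ) Set.univ_nonempty isClosed_univ.isLocallyClosed
  have hfin := FinH1.finite_H1 h3505 k U.left U.hom l hl 1
  refine ⟨x₀ ≫ j, Nat.card (EtCoh.H U.left (LC U.left (ULift.{u + 1} (ZMod l))) 1), ?_⟩
  intro G _ v hG h0 hv d hd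
  have := hG.var.isIntegral
  have := hG.var.lft
  have := hG.var.sep
  rw [Category.assoc] at h0
  exact dim_bound h3 x₀ l hl G hG (j ≫ v) h0 (hv.restrict hX h3 j x₀ h0) d hd

end K530.DimBd
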