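import Groth.Agent.Sga4B.ConstLC
import Groth.Agent.CurvesA.BdMap

/-!
# Locally constant cocycles of an étale covering and `H¹`

If `H¹(X, A)` is finite (`A` the sheaf of locally constant `A`-valued functions), a group of locally constant
`1`-cocycles of an étale covering `P → X` with more elements contains a non-zero coboundary.
-/

set_option autoImplicit false
universe u

open CategoryTheory CategoryTheory.Limits AlgebraicGeometry Opposite

namespace K530.EtH1

open Groth.Agent Groth.Agent.Sga4B.ConstLC Groth.Agent.CurvesA.BdMap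

/-- Restriction of sections. -/
noncomputable abbrev res {X : Scheme.{u}} (F : EtCoh.Ab X) {V U : X.Etale} (g : V ⟶ U) :
    EtCoh.sect F U →+ EtCoh.sect F V := (F.obj.map g.op).hom

theorem res_comp {X : Scheme.{u}} (F : EtCoh.Ab X) {W V U : X.Etale} (g : W ⟶ V) (h : V ⟶ U)
    (s : EtCoh.sect F U) : res F g (res F h s) = res F (g ≫ h) s := by
  change _ = (F.obj.map (g ≫ h).op).hom s
  rw [op_comp, F.obj.map_comp]
  rfl

theorem res_nat {X : Scheme.{u}} {F G : EtCoh.Ab X} (φ : F ⟶ G) {V U : X.Etale} (g : V ⟶ U) (s : EtCoh.sect F U) :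
    res G g ((φ.hom.app (op U)).hom s) = (φ.hom.app (op V)).hom (res F g s) :=
  (ConcreteCategory.congr_hom (φ.hom.naturality g.op) s).symm

/-- Gluing along a single covering. -/
theorem exists_glue {X : Scheme.{u}} (F : EtCoh.Ab X) {U W : X.Etale} (f : U ⟶ W)
    (hcov : ∀ w : W.left, ∃ u : U.left, f.left u = w) (s : EtCoh.sect F U)
    (hs : ∀ (Z : X.Etale) (a b : Z ⟶ U), a ≫ f = b ≫ f → res F a s = res F b s) :
    ∃! t : EtCoh.sect F W, res F f t = s := by
  have hsh : Presieve.IsSheaf X.smallEtaleTopology (F.obj ⋙ forget AddCommGrpCat.{u + 1}) :=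
    (isSheaf_iff_isSheaf_of_type _ _).1
      ((Presheaf.isSheaf_iff_isSheaf_forget _ _ (forget AddCommGrpCat.{u + 1})).1 F.property)
  have hmem : Sieve.ofArrows (fun _ : Unit => U) (fun _ => f) ∈ X.smallEtaleTopology W := by
    rw [mem_smallEtale_iff]
    intro w
    obtain ⟨u, hu⟩ := hcov w
    exact ⟨U, f, u, Sieve.ofArrows_mk _ _ (), hu⟩
  have h1 := (Presieve.isSheafFor_iff_generate (P := F.obj ⋙ forget _)
    (Presieve.ofArrows (fun _ : Unit => U) (fun _ => f))).2 (hsh _ hmem)
  rw [Presieve.isSheafFor_arrows_iff] at h1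
  obtain ⟨a, ha, hu⟩ := h1 (fun _ => s) (fun i j Z gi gj hij => hs Z gi gj hij)
  exact ⟨a, ha (), fun b hb => hu b (fun _ => hb)⟩

/-- Sections of a short exact sequence are exact in the middle. -/
theorem exists_of_g_eq_zero {X : Scheme.{u}} {S : ShortComplex (EtCoh.Ab X)} (hS : S.ShortExact) (U : X.Etale)
    (t : EtCoh.sect S.X₂ U) (h : (S.g.hom.app (op U)).hom t = 0) :
    ∃ s : EtCoh.sect S.X₁ U, (S.f.hom.app (op U)).hom s = t := by
  let Γ : EtCoh.Ab X ⥤ AddCommGrpCat.{u + 1} :=
    sheafToPresheaf X.smallEtaleTopology AddCommGrpCat.{u + 1} ⋙ (evaluation _ _).obj (op U)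
  have hadd : Γ.PreservesZeroMorphisms := ⟨fun _ _ => rfl⟩
  have : PreservesFiniteLimits Γ := by
    dsimp only [Γ]
    infer_instance
  have hmono : Mono S.f := hS.mono_f
  have h1 : (S.map Γ).Exact := hS.exact.map_of_mono_of_preservesKernel Γ hmono inferInstance
  have h2 := (ShortComplex.ab_exact_iff _).1 h1
  exact h2 t h

section cocycle

variable {X P : Scheme.{u}} (π : P ⟶ X) [Etale π] [Surjective π] (A : Type (u + 1)) [AddCommGroup A]

/-- `P` as an object of the small étale site. -/
noncomputable abbrev pobj : X.Etale := Scheme.Etale.mk π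

/-- The structure map. -/
noncomputable abbrev toTop : pobj π ⟶ EtCoh.top X := (topIsTerminal X).from (pobj π)

theorem toTop_surj (w : (EtCoh.top X).left) : ∃ u : (pobj π).left, (toTop π).left u = w := by
  obtain ⟨u, hu⟩ := Surjective.surj (f := π) w
  refine ⟨u, ?_⟩
  have h : (toTop π).left ≫ 𝟙 X = π := MorphismProperty.Over.w (toTop π)
  have h2 : (toTop π).left = π := (Category.comp_id _).symm.trans h
  rw [h2]
  exact hu

instance mono_LCres : Mono (LCres π A) := by
  have h1 : Mono (LCres π A).hom := by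
    have : ∀ V, Mono ((LCres π A).hom.app V) := by
      intro V
      refine ConcreteCategory.mono_of_injective _ ?_
      intro a b hab
      have hs : Surjective (pullback.fst V.unop.hom π) := inferInstance
      refine LocallyConstant.ext (f := (a : LocallyConstant V.unop.left A)) (g := b) fun v => ?_
      obtain ⟨z, rfl⟩ := hs.surj v
      exact DFunLike.congr_fun (F := LocallyConstant ((EtCoh.bc π).obj V.unop).left A) hab z
    exact NatTrans.mono_of_mono_app _
  exact Sheaf.Hom.mono_of_presheaf_mono _ _ _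

/-- `1`-cocycles. -/
def IsCocycle (c : LocallyConstant (pullback π π : Scheme.{u}) A) : Prop :=
  ∀ (V : Scheme.{u}) (x y z : V ⟶ P) (hxy : x ≫ π = y ≫ π) (hyz : y ≫ π = z ≫ π) (v : V),
    c (pullback.lift x z (hxy.trans hyz) v) = c (pullback.lift x y hxy v) + c (pullback.lift y z hyz v)

theorem IsCocycle.aux {π : P ⟶ X} {A : Type (u + 1)} [AddCommGroup A]
    {c : LocallyConstant (pullback π π : Scheme.{u}) A} (hc : IsCocycle π A c) {Z : Scheme.{u}} (ζ : Z ⟶ X) (a b : Z ⟶ P)
    (ha : a ≫ π = ζ) (hb : b ≫ π = ζ) (z : (pullback ζ π : Scheme.{u})) :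
    c (pullback.lift a b (ha.trans hb.symm) (pullback.fst ζ π z)) =
      c (pullback.lift (pullback.fst ζ π ≫ a) (pullback.snd ζ π) (by rw [Category.assoc, ha, pullback.condition]) z) -
      c (pullback.lift (pullback.fst ζ π ≫ b) (pullback.snd ζ π) (by rw [Category.assoc, hb, pullback.condition]) z) := by
  have h1 := hc _ (pullback.fst ζ π ≫ a) (pullback.fst ζ π ≫ b) (pullback.snd ζ π)
    (by rw [Category.assoc, Category.assoc, ha, hb]) (by rw [Category.assoc, hb, pullback.condition]) z
  have h2 : pullback.fst ζ π ≫ pullback.lift a b (ha.trans hb.symm) = pullback.lift (pullback.fst ζ π ≫ a)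
      (pullback.fst ζ π ≫ b) (by rw [Category.assoc, Category.assoc, ha, hb]) := by
    apply pullback.hom_ext
    · rw [Category.assoc, pullback.lift_fst, pullback.lift_fst]
    · rw [Category.assoc, pullback.lift_snd, pullback.lift_snd]
  rw [h1, add_sub_cancel_right, ← Scheme.Hom.comp_apply, h2]

/-- The short exact sequence `0 → A_X → π_* A_P → Q → 0`. -/
noncomputable abbrev seq : ShortComplex (EtCoh.Ab X) :=
  ShortComplex.mk (LCres π A) (cokernel.π (LCres π A)) (cokernel.condition _)

omit [Etale π] in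
theorem seq_exact : (seq π A).ShortExact where
  exact := ShortComplex.exact_cokernel _
  mono_f := mono_LCres π A
  epi_g := inferInstanceAs (Epi (cokernel.π (LCres π A)))

variable {π A}

/-- A cocycle as a section of `π_* A_P` over `P`. -/
noncomputable def csec (c : LocallyConstant (pullback π π : Scheme.{u}) A) : EtCoh.sect (seq π A).X₂ (pobj π) := c

omit [Surjective π] in
theorem res_csec (c : LocallyConstant (pullback π π : Scheme.{u}) A) (Z : X.Etale) (a : Z ⟶ pobj π)
    (w : pullback.fst Z.hom π ≫ (a.left : Z.left ⟶ P) ≫ π = pullback.snd Z.hom π ≫ π) :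
    (res (seq π A).X₂ a (csec c)) = (LocallyConstant.comap (cmap (pullback.lift
      (f := π) (g := π) (pullback.fst Z.hom π ≫ (a.left : Z.left ⟶ P)) (pullback.snd Z.hom π) w)) c :
        LocallyConstant (pullback Z.hom π : Scheme.{u}) A) := by
  rfl

omit [Etale π] [Surjective π] in
theorem res_f (Z : X.Etale) (d : LocallyConstant Z.left A) :
    ((seq π A).f.hom.app (op Z)).hom (show EtCoh.sect (seq π A).X₁ Z from d) =
      (LocallyConstant.comap (cmap (pullback.fst Z.hom π)) d : LocallyConstant (pullback Z.hom π : Scheme.{u}) A) := rfl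

omit [Surjective π] in
theorem compat {c : LocallyConstant (pullback π π : Scheme.{u}) A} (hc : IsCocycle π A c) (Z : X.Etale)
    (a b : Z ⟶ pobj π) :
    res (seq π A).X₃ a (((seq π A).g.hom.app (op (pobj π))).hom (csec c)) =
      res (seq π A).X₃ b (((seq π A).g.hom.app (op (pobj π))).hom (csec c)) := by
  rw [res_nat, res_nat, ← sub_eq_zero, ← map_sub]
  have ha : (a.left : Z.left ⟶ P) ≫ π = Z.hom := MorphismProperty.Over.w a
  have hb : (b.left : Z.left ⟶ P) ≫ π = Z.hom := MorphismProperty.Over.w b
  let d : LocallyConstant Z.left A := LocallyConstant.comap (cmap (pullback.lift a.left b.left (ha.trans hb.symm))) c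
  have key : ((seq π A).f.hom.app (op Z)).hom (show EtCoh.sect (seq π A).X₁ Z from d) =
      res (seq π A).X₂ a (csec c) - res (seq π A).X₂ b (csec c) :=
    LocallyConstant.ext (X := (pullback Z.hom π : Scheme.{u})) (Y := A) fun z => hc.aux Z.hom a.left b.left ha hb z
  rw [← key]
  exact congrArg (fun (φ : (seq π A).X₁ ⟶ (seq π A).X₃) => (φ.hom.app (op Z)).hom
    (show EtCoh.sect (seq π A).X₁ Z from d)) (seq π A).zero

omit [Etale π] [Surjective π] in
theorem IsCocycle.diag {c : LocallyConstant (pullback π π : Scheme.{u}) A} (hc : IsCocycle π A c) (p : P) :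
    c (pullback.lift (𝟙 P) (𝟙 P) rfl p) = 0 := by
  have h := hc P (𝟙 P) (𝟙 P) (𝟙 P) rfl rfl p
  exact left_eq_add.mp h

/-- The section of the quotient sheaf over `X` attached to a cocycle. -/
noncomputable def tsec {c : LocallyConstant (pullback π π : Scheme.{u}) A} (hc : IsCocycle π A c) :
    EtCoh.sect (seq π A).X₃ (EtCoh.top X) :=
  (exists_glue (seq π A).X₃ (toTop π) (toTop_surj π) (((seq π A).g.hom.app (op (pobj π))).hom (csec c))
    (fun Z a b _ => compat hc Z a b)).choose

theorem res_tsec {c : LocallyConstant (pullback π π : Scheme.{u}) A} (hc : IsCocycle π A c) :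
    res (seq π A).X₃ (toTop π) (tsec hc) = ((seq π A).g.hom.app (op (pobj π))).hom (csec c) :=
  (exists_glue (seq π A).X₃ (toTop π) (toTop_surj π) (((seq π A).g.hom.app (op (pobj π))).hom (csec c))
    (fun Z a b _ => compat hc Z a b)).choose_spec.1

theorem eq_tsec {c : LocallyConstant (pullback π π : Scheme.{u}) A} (hc : IsCocycle π A c)
    (t : EtCoh.sect (seq π A).X₃ (EtCoh.top X))
    (ht : res (seq π A).X₃ (toTop π) t = ((seq π A).g.hom.app (op (pobj π))).hom (csec c)) : t = tsec hc :=
  (exists_glue (seq π A).X₃ (toTop π) (toTop_surj π) (((seq π A).g.hom.app (op (pobj π))).hom (csec c))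
    (fun Z a b _ => compat hc Z a b)).choose_spec.2 t ht

theorem tsec_add {c c' : LocallyConstant (pullback π π : Scheme.{u}) A} (hc : IsCocycle π A c)
    (hc' : IsCocycle π A c') (hcc : IsCocycle π A (c + c')) : tsec hcc = tsec hc + tsec hc' := by
  symm
  apply eq_tsec
  rw [map_add, res_tsec, res_tsec, ← map_add]
  rfl

theorem aux2 {X P : Scheme.{u}} (π τ : P ⟶ X) (hτ : τ = π) (g : pullback π π ⟶ pullback (𝟙 X) π)
    (h1 : g ≫ pullback.fst (𝟙 X) π = pullback.fst π π ≫ τ) (h2 : g ≫ pullback.snd (𝟙 X) π = pullback.snd π π)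
    (w : π ≫ 𝟙 X = 𝟙 P ≫ π) :
    g = pullback.snd π π ≫ pullback.lift (f := 𝟙 X) (g := π) π (𝟙 P) w := by
  subst hτ
  apply pullback.hom_ext
  · rw [h1, Category.assoc, pullback.lift_fst, pullback.condition]
  · rw [h2, Category.assoc, pullback.lift_snd, Category.comp_id]

/-- If the class of a cocycle in `H¹` vanishes, it is a coboundary. -/
theorem exists_of_bd_eq_zero {c : LocallyConstant (pullback π π : Scheme.{u}) A} (hc : IsCocycle π A c)
    (h : bd (seq_exact π A) (tsec hc) = 0) :
    ∃ b : LocallyConstant P A, ∀ z : (pullback π π : Scheme.{u}),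
      c z = b (pullback.snd π π z) - b (pullback.fst π π z) := by
  obtain ⟨t, ht⟩ := (bd_eq_zero_iff (seq_exact π A) _).1 h
  have ht1 : (res (seq π A).X₃ (toTop π)) (((seq π A).g.hom.app (op (EtCoh.top X))).hom t) =
      ((seq π A).g.hom.app (op (pobj π))).hom (csec c) := by rw [ht, res_tsec]
  rw [res_nat] at ht1
  obtain ⟨d, hd⟩ := exists_of_g_eq_zero (seq_exact π A) (pobj π) (csec c - res (seq π A).X₂ (toTop π) t) (by
    rw [map_sub, ht1, sub_self])
  have w : π ≫ 𝟙 X = 𝟙 P ≫ π := by rw [Category.comp_id, Category.id_comp]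
  let t' : LocallyConstant (pullback (𝟙 X) π : Scheme.{u}) A := t
  let d' : LocallyConstant P A := d
  let b : LocallyConstant P A := LocallyConstant.comap (cmap (pullback.lift (f := 𝟙 X) (g := π) π (𝟙 P) w)) t'
  have hleft : (toTop π).left = π := by
    have h : (toTop π).left ≫ 𝟙 X = π := MorphismProperty.Over.w (toTop π)
    exact (Category.comp_id _).symm.trans h
  have key : ∀ z : (pullback π π : Scheme.{u}), d' (pullback.fst π π z) = c z - b (pullback.snd π π z) := by
    intro z
    have h1 := DFunLike.congr_fun (F := LocallyConstant (pullback π π : Scheme.{u}) A) hd z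
    refine h1.trans ?_
    change c z - t' (((EtCoh.bc π).map (toTop π)).left z) = c z - t' (pullback.lift (f := 𝟙 X) (g := π) π (𝟙 P) w
      (pullback.snd π π z))
    rw [← Scheme.Hom.comp_apply]
    have h2 : ((EtCoh.bc π).map (toTop π)).left = pullback.snd π π ≫ pullback.lift (f := 𝟙 X) (g := π) π (𝟙 P) w := by
      exact aux2 π (toTop π).left hleft _ (pullback.lift_fst _ _ _) (pullback.lift_snd _ _ _) w
    rw [← h2]
    rfl
  have hdb : ∀ p : P, d' p = - b p := by
    intro p
    have h1 := key (pullback.lift (𝟙 P) (𝟙 P) rfl p)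
    rw [hc.diag, zero_sub, ← Scheme.Hom.comp_apply, ← Scheme.Hom.comp_apply, pullback.lift_fst, pullback.lift_snd] at h1
    exact h1
  refine ⟨b, fun z => ?_⟩
  have h1 := key z
  rw [hdb] at h1
  rw [sub_eq_add_neg, h1]
  abel

/-- **Counting cocycles.** A group of locally constant cocycles with more elements than `H¹(X, A)` contains a
non-zero element whose cocycle is a coboundary. -/
theorem exists_coboundary {E : Type*} [AddCommGroup E] (c : E →+ LocallyConstant (pullback π π : Scheme.{u}) A)
    (hc : ∀ e, IsCocycle π A (c e)) [Finite E] [Finite (EtCoh.H X (LC X A) 1)]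
    (hE : Nat.card (EtCoh.H X (LC X A) 1) < Nat.card E) :
    ∃ e : E, e ≠ 0 ∧ ∃ b : LocallyConstant P A, ∀ z : (pullback π π : Scheme.{u}),
      c e z = b (pullback.snd π π z) - b (pullback.fst π π z) := by
  let τ : E →+ EtCoh.H X (LC X A) 1 := AddMonoidHom.mk' (fun e => bd (seq_exact π A) (tsec (hc e))) (fun e e' => by
    rw [← map_add]
    congr 1
    have h := hc (e + e')
    have h2 : IsCocycle π A (c e + c e') := by rw [← map_add]; exact h
    rw [← tsec_add (hc e) (hc e') h2]
    congr 1
    exact map_add c e e')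
  have hni : ¬ Function.Injective τ := fun hi => absurd (Nat.card_le_card_of_injective τ hi) (not_le.2 hE)
  rw [injective_iff_map_eq_zero] at hni
  push Not at hni
  obtain ⟨e, he, hne⟩ := hni
  exact ⟨e, hne, exists_of_bd_eq_zero (hc e) he⟩

end cocycle

end K530.EtH1
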