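import Groth.Agent.AbVar.K505.FF
import Groth.Agent.AbVar.K530.ConstKer

/-!
# Finite homomorphisms and dimension
-/

set_option autoImplicit false
universe u
open CategoryTheory MonoidalCategory CartesianMonoidalCategory MonObj GrpObj AlgebraicGeometry Limits

namespace K530.FinHom

open Groth.Agent K505.FF

variable {k : Type u} [Field k]

/-- A surjective homomorphism between groups of the same dimension is finite. -/
theorem isFinite_of_dim (G H : Over (Spec (CommRingCat.of k))) [GrpObj G] [GrpObj H] [LocallyOfFiniteType G.hom]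
    [QuasiCompact G.hom] [LocallyOfFiniteType H.hom]
    (u : G ⟶ H) [IsMonHom u] [QuasiCompact u.left] [Surjective u.left] (d : ℕ) (hG : topologicalKrullDim G.left = d)
    (hH : topologicalKrullDim H.left = d) : IsFinite u.left := by
  rw [S3037.result k G H u]
  obtain ⟨-, h2⟩ := S3016.result k G H u
  have hlu : LocallyOfFiniteType u.left := by
    have : LocallyOfFiniteType (u.left ≫ H.hom) := by rw [Over.w]; infer_instance
    exact locallyOfFiniteType_of_comp u.left H.hom
  let N := Limits.pullback u.left (η[H] : 𝟙_ (Over (Spec (CommRingCat.of k))) ⟶ H).left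
  let q : N ⟶ Spec (CommRingCat.of k) := pullback.snd _ _
  have hr : topologicalKrullDim (Set.range u.left.base) = d := by
    rw [← hH]
    have h3 : Set.range u.left.base = Set.univ := Set.range_eq_univ.2 u.left.surjective
    rw [h3]
    exact IsHomeomorph.topologicalKrullDim_eq _ (Homeomorph.Set.univ H.left).isHomeomorph
  rw [hG, hr] at h2
  have h3 : topologicalKrullDim N ≤ 0 := by
    by_contra hcon
    push Not at hcon
    have h4 : (1 : WithBot ℕ∞) ≤ topologicalKrullDim N := one_le_of_pos _ hcon
    have h5 : (d : WithBot ℕ∞) + 1 ≤ d := by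
      calc (d : WithBot ℕ∞) + 1 ≤ d + topologicalKrullDim N := by gcongr
        _ = d := h2.symm
    have h6 : d + 1 ≤ d := by exact_mod_cast h5
    omega
  let _ : N.Over (Spec (CommRingCat.of k)) := ⟨q⟩
  have hN1 : LocallyOfFiniteType (N ↘ Spec (CommRingCat.of k)) := inferInstanceAs (LocallyOfFiniteType q)
  have hN2 : QuasiCompact (N ↘ Spec (CommRingCat.of k)) := inferInstanceAs (QuasiCompact q)
  have h7 : IsFinite q := (S1529.result k N h3).2
  exact ConstKer.discreteTopology k N q

/-- A finite surjective homomorphism preserves the dimension. -/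
theorem dim_eq_of_isFinite (G H : Over (Spec (CommRingCat.of k))) [GrpObj G] [GrpObj H] [LocallyOfFiniteType G.hom]
    [LocallyOfFiniteType H.hom] (u : G ⟶ H) [IsMonHom u] [IsFinite u.left] [Surjective u.left] :
    topologicalKrullDim G.left = topologicalKrullDim H.left := by
  obtain ⟨-, h2⟩ := S3016.result k G H u
  let N := Limits.pullback u.left (η[H] : 𝟙_ (Over (Spec (CommRingCat.of k))) ⟶ H).left
  let q : N ⟶ Spec (CommRingCat.of k) := pullback.snd _ _
  have hr : topologicalKrullDim (Set.range u.left.base) = topologicalKrullDim H.left := by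
    have h3 : Set.range u.left.base = Set.univ := Set.range_eq_univ.2 u.left.surjective
    rw [h3]
    exact IsHomeomorph.topologicalKrullDim_eq _ (Homeomorph.Set.univ H.left).isHomeomorph
  have hN : Nonempty N := by
    obtain ⟨x, -⟩ := Scheme.Pullback.exists_preimage_pullback (f := u.left)
      (g := (η[H] : 𝟙_ (Over (Spec (CommRingCat.of k))) ⟶ H).left)
      (u.left.surjective ((η[H] : 𝟙_ (Over (Spec (CommRingCat.of k))) ⟶ H).left (ConstKer.o k))).choose
      (ConstKer.o k)
      (u.left.surjective ((η[H] : 𝟙_ (Over (Spec (CommRingCat.of k))) ⟶ H).left (ConstKer.o k))).choose_spec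
    exact ⟨x⟩
  have hd : DiscreteTopology N := ConstKer.discreteTopology k N q
  have h3 : topologicalKrullDim N = 0 := by
    have h4 : Nonempty (TopologicalSpace.IrreducibleCloseds N) := by
      obtain ⟨x⟩ := hN
      exact ⟨⟨closure {x}, isIrreducible_singleton.closure, isClosed_closure⟩⟩
    exact le_antisymm (topologicalKrullDim_zero_of_discreteTopology N) Order.krullDim_nonneg
  rw [h2, hr, h3, add_zero]

/-- The dimension does not increase along surjective homomorphisms. -/
theorem dim_le (G H : Over (Spec (CommRingCat.of k))) [GrpObj G] [GrpObj H] [LocallyOfFiniteType G.hom]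
    [LocallyOfFiniteType H.hom] (u : G ⟶ H) [IsMonHom u] [QuasiCompact u.left] [Surjective u.left] :
    topologicalKrullDim H.left ≤ topologicalKrullDim G.left := by
  obtain ⟨-, h2⟩ := S3016.result k G H u
  let N := Limits.pullback u.left (η[H] : 𝟙_ (Over (Spec (CommRingCat.of k))) ⟶ H).left
  have hr : topologicalKrullDim (Set.range u.left.base) = topologicalKrullDim H.left := by
    have h3 : Set.range u.left.base = Set.univ := Set.range_eq_univ.2 u.left.surjective
    rw [h3]
    exact IsHomeomorph.topologicalKrullDim_eq _ (Homeomorph.Set.univ H.left).isHomeomorph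
  have hN : Nonempty N := by
    obtain ⟨x, -⟩ := Scheme.Pullback.exists_preimage_pullback (f := u.left)
      (g := (η[H] : 𝟙_ (Over (Spec (CommRingCat.of k))) ⟶ H).left)
      (u.left.surjective ((η[H] : 𝟙_ (Over (Spec (CommRingCat.of k))) ⟶ H).left (ConstKer.o k))).choose
      (ConstKer.o k)
      (u.left.surjective ((η[H] : 𝟙_ (Over (Spec (CommRingCat.of k))) ⟶ H).left (ConstKer.o k))).choose_spec
    exact ⟨x⟩
  have hN' : Nonempty (TopologicalSpace.IrreducibleCloseds N) := by
    obtain ⟨x⟩ := hN
    exact ⟨⟨closure {x}, isIrreducible_singleton.closure, isClosed_closure⟩⟩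
  have h0 : (0 : WithBot ℕ∞) ≤ topologicalKrullDim N := Order.krullDim_nonneg
  rw [h2, hr]
  calc topologicalKrullDim H.left = topologicalKrullDim H.left + 0 := (add_zero _).symm
    _ ≤ _ := by gcongr

end K530.FinHom
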