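import Groth.Agent.AbVar.K530.GenProper
import Groth.Agent.AbVar.K530.OpenSub

/-!
# Generating morphisms from a variety to a group

`Gen v`: every point of the group is a word in differences of values of `v`.
-/

set_option autoImplicit false
universe u
open CategoryTheory MonoidalCategory CartesianMonoidalCategory MonObj GrpObj AlgebraicGeometry Limits

namespace K530.GenMap

open Groth.Agent Groth.Agent.Books.AlgPts Groth.Agent.Books.AlgPtsGrp
open Groth.Agent.Books.AlgPtsGen Groth.Agent.Books.AlgPtsSmooth K530.GenSub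

variable {k : Type u} [Field k] {X Y G H : Over (Spec (CommRingCat.of k))} [GrpObj G] [GrpObj H]

/-- The difference morphism `(x, y) ↦ v(x) v(y)⁻¹`. -/
noncomputable def df (v : X ⟶ G) : X ⊗ X ⟶ G := (fst X X ≫ v) * (snd X X ≫ v)⁻¹

/-- The morphism `v` generates `G`. -/
def Gen (v : X ⟶ G) : Prop := ∃ N, Surjective (c (df v) N).left

theorem df_comp (v : X ⟶ G) (h : G ⟶ H) [IsMonHom h] : df v ≫ h = df (v ≫ h) := by
  unfold df
  rw [MonObj.mul_comp, GrpObj.inv_comp, Category.assoc, Category.assoc]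

theorem c_comp (f : X ⟶ G) (h : G ⟶ H) [IsMonHom h] : ∀ n, c f n ≫ h = c (f ≫ h) n
  | 0 => MonObj.one_comp h
  | n + 1 => by
    change ((fst (T X n) X ≫ c f n) * (snd (T X n) X ≫ f)) ≫ h =
      (fst (T X n) X ≫ c (f ≫ h) n) * (snd (T X n) X ≫ f ≫ h)
    rw [MonObj.mul_comp, Category.assoc, c_comp f h n, Category.assoc]

theorem word_comp (v : X ⟶ G) (h : G ⟶ H) [IsMonHom h] (n : ℕ) : c (df v) n ≫ h = c (df (v ≫ h)) n := by
  rw [c_comp, df_comp]

theorem Gen.comp {v : X ⟶ G} (hv : Gen v) (h : G ⟶ H) [IsMonHom h] [Surjective h.left] : Gen (v ≫ h) := by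
  obtain ⟨N, hN⟩ := hv
  refine ⟨N, ?_⟩
  rw [← word_comp]
  change Surjective ((c (df v) N).left ≫ h.left)
  infer_instance

theorem Gen.surjective {w : X ⟶ H} (hw : Gen w) (h : G ⟶ H) [IsMonHom h] (v : X ⟶ G) (e : v ≫ h = w) :
    Surjective h.left := by
  obtain ⟨N, hN⟩ := hw
  rw [← e, ← word_comp] at hN
  have h1 : Surjective ((c (df v) N).left ≫ h.left) := hN
  exact Surjective.of_comp (c (df v) N).left h.left

theorem Gen.hom_ext {v : X ⟶ G} (hv : Gen v) [IsReduced G.left] [IsSeparated H.hom] (h₁ h₂ : G ⟶ H)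
    [IsMonHom h₁] [IsMonHom h₂] (e : v ≫ h₁ = v ≫ h₂) : h₁ = h₂ := by
  obtain ⟨N, hN⟩ := hv
  ext1
  refine ext_of_isDominant_of_isSeparated H.hom (by rw [Over.w, Over.w]) (c (df v) N).left ?_
  rw [← Over.comp_left, ← Over.comp_left, word_comp, word_comp, e]

omit [GrpObj G] in
theorem isIso_of_closed {D : Over (Spec (CommRingCat.of k))} (i : D ⟶ G) [IsClosedImmersion i.left]
    [Surjective i.left] [IsReduced G.left] : IsIso i := by
  have h1 : IsIso i.left := isIso_of_isClosedImmersion_of_surjective i.left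
  have : IsIso ((Over.forget _).map i) := h1
  exact isIso_of_reflects_iso i (Over.forget _)

theorem Gen.isIso {D : Over (Spec (CommRingCat.of k))} [GrpObj D] {v : X ⟶ G} (hv : Gen v) (i : D ⟶ G) [IsMonHom i]
    [IsClosedImmersion i.left] [IsReduced G.left] (v' : X ⟶ D) (e : v' ≫ i = v) : IsIso i := by
  have := hv.surjective i v' e
  exact isIso_of_closed i

variable [IsAlgClosed k]

/-- The closed subgroup generated by a pointed morphism. -/
theorem exists_gen [LocallyOfFiniteType G.hom] [IsSeparated G.hom] (hX : IsVar X) (v : X ⟶ G)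
    (x₀ : 𝟙_ (Over (Spec (CommRingCat.of k))) ⟶ X) (h₀ : x₀ ≫ v = 1) :
    ∃ (D : Over (Spec (CommRingCat.of k))) (_ : GrpObj D) (i : D ⟶ G) (v' : X ⟶ D),
      IsMonHom i ∧ IsClosedImmersion i.left ∧ IsVar D ∧ Smooth D.hom ∧ v' ≫ i = v ∧ x₀ ≫ v' = 1 ∧ Gen v' := by
  obtain ⟨D, _, i, N, s, v', hi, hic, hD, hDsm, hs, hsurj, hv', -⟩ := exists_sub_of_map hX v x₀ h₀
  have hm : Mono i := mono_of_isClosedImmersion i
  refine ⟨D, inferInstance, i, v', hi, hic, hD, hDsm, hv', ?_, N, ?_⟩
  · rw [← cancel_mono i, Category.assoc, hv', h₀, one_comp]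
  · have h1 : c (df v') N = s := by
      rw [← cancel_mono i, word_comp, hv', hs]
      rfl
    rw [h1]
    exact hsurj

/-- Generation is inherited by dense open subschemes. -/
theorem Gen.restrict [LocallyOfFiniteType G.hom] [IsSeparated G.hom] [IsReduced G.left] (hX : IsVar X) (hY : IsVar Y)
    {v : X ⟶ G} (hv : Gen v) (j : Y ⟶ X) [IsDominant j.left] (y₀ : 𝟙_ (Over (Spec (CommRingCat.of k))) ⟶ Y)
    (h₀ : y₀ ≫ j ≫ v = 1) : Gen (j ≫ v) := by
  obtain ⟨D, _, i, w, hi, hic, hD, hDsm, hw, hw0, hg⟩ := exists_gen hY (j ≫ v) y₀ h₀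
  have := hX.isIntegral
  obtain ⟨v', hv'⟩ := exists_lift i v (by
    have h1 : Set.range j.left ⊆ v.left ⁻¹' (Set.range i.left) := by
      rintro _ ⟨z, rfl⟩
      refine ⟨w.left z, ?_⟩
      have h2 : w.left ≫ i.left = j.left ≫ v.left := by
        rw [← Over.comp_left, hw, Over.comp_left]
      rw [← Scheme.Hom.comp_apply, h2, Scheme.Hom.comp_apply]
    have h3 : IsClosed (v.left ⁻¹' (Set.range i.left)) :=
      i.left.isClosedEmbedding.isClosed_range.preimage v.left.continuous
    have h4 : v.left ⁻¹' (Set.range i.left) = Set.univ := by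
      refine Set.eq_univ_of_univ_subset ?_
      rw [← j.left.denseRange.closure_range]
      exact closure_minimal h1 h3
    rintro _ ⟨z, rfl⟩
    have : z ∈ v.left ⁻¹' (Set.range i.left) := by rw [h4]; trivial
    exact this)
  have h5 := hv.isIso i v' hv'
  rw [← hw]
  have h6 : IsIso i.left := (inferInstance : IsIso ((Over.forget _).map i))
  have : Surjective i.left := inferInstance
  exact hg.comp i

end K530.GenMap
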