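import Groth.Agent.AbVar.K530.GenSub

/-!
# The closed subgroup generated by a pointed variety; it is proper if the variety is
-/

set_option autoImplicit false
universe u
open CategoryTheory MonoidalCategory CartesianMonoidalCategory MonObj GrpObj AlgebraicGeometry Limits

namespace K530.GenSub

open Groth.Agent Groth.Agent.Books.AlgPts Groth.Agent.Books.AlgPtsGrp
open Groth.Agent.Books.AlgPtsGen Groth.Agent.Books.AlgPtsSmooth
open scoped Pointwise

variable {k : Type u} [Field k]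

theorem isProper_tensor {X Y : Over (Spec (CommRingCat.of k))} (hX : IsProper X.hom) (hY : IsProper Y.hom) :
    IsProper (X ⊗ Y).hom := by
  have e : (X ⊗ Y).hom = pullback.fst X.hom Y.hom ≫ X.hom := Over.tensorObj_hom X Y
  rw [e]; infer_instance

theorem isProper_T {X : Over (Spec (CommRingCat.of k))} (hX : IsProper X.hom) : ∀ n, IsProper (T X n).hom
  | 0 => (inferInstance : IsProper (𝟙 (Spec (CommRingCat.of k))))
  | n + 1 => isProper_tensor (isProper_T hX n) hX

variable [IsAlgClosed k] {X G : Over (Spec (CommRingCat.of k))} [GrpObj G]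

/-- The closed subgroup generated by a pointed morphism from a variety. -/
theorem exists_sub_of_map [LocallyOfFiniteType G.hom] [IsSeparated G.hom] (hX : IsVar X) (v : X ⟶ G)
    (x₀ : 𝟙_ (Over (Spec (CommRingCat.of k))) ⟶ X) (h₀ : x₀ ≫ v = 1) :
    ∃ (D : Over (Spec (CommRingCat.of k))) (_ : GrpObj D) (i : D ⟶ G) (N : ℕ) (s : T (X ⊗ X) N ⟶ D) (v' : X ⟶ D),
      IsMonHom i ∧ IsClosedImmersion i.left ∧ IsVar D ∧ Smooth D.hom ∧
      s ≫ i = c ((fst X X ≫ v) * (snd X X ≫ v)⁻¹) N ∧ Surjective s.left ∧ v' ≫ i = v ∧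
      (IsProper X.hom → IsProper D.hom) := by
  have hf : ∀ (T' : Over (Spec (CommRingCat.of k))) (x y : T' ⟶ X),
      lift x y ≫ ((fst X X ≫ v) * (snd X X ≫ v)⁻¹) = (x ≫ v) * (y ≫ v)⁻¹ := by
    intro T' x y
    rw [MonObj.comp_mul, GrpObj.comp_inv, lift_fst_assoc, lift_snd_assoc]
  set f : X ⊗ X ⟶ G := (fst X X ≫ v) * (snd X X ≫ v)⁻¹ with hfdef
  have hvals : ∀ g, g ∈ vals f ↔ ∃ x y : 𝟙_ (Over (Spec (CommRingCat.of k))) ⟶ X, (x ≫ v) * (y ≫ v)⁻¹ = g := by
    intro g
    constructor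
    · rintro ⟨z, rfl⟩
      refine ⟨z ≫ fst _ _, z ≫ snd _ _, ?_⟩
      rw [← hf]
      congr 1
      ext1 <;> simp
    · rintro ⟨x, y, rfl⟩
      exact ⟨lift x y, hf _ x y⟩
  have h1 : 1 ∈ vals f := (hvals 1).2 ⟨x₀, x₀, by rw [mul_inv_cancel]⟩
  have hinv : (vals f)⁻¹ = vals f := by
    ext g
    rw [Set.mem_inv, hvals, hvals]
    constructor
    · rintro ⟨x, y, h⟩
      exact ⟨y, x, by rw [← inv_inj, ← h, _root_.mul_inv_rev, _root_.inv_inv]⟩
    · rintro ⟨x, y, rfl⟩
      exact ⟨y, x, by rw [_root_.mul_inv_rev, _root_.inv_inv]⟩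
  obtain ⟨D, _, i, N, s, hmon, hi, hD, hsm, hs, hsurj, hr⟩ := exists_subgroup_scheme (hX.tensor hX) f h1 hinv
  have := hX.isIntegral
  have := hX.lft
  obtain ⟨v', hv'⟩ := exists_lift i v (by
    refine range_subset_of_forall_pt v i.left.isClosedEmbedding.isClosed_range fun x => ?_
    have h2 : x ≫ v ∈ vals f := (hvals _).2 ⟨x, x₀, by rw [h₀, _root_.inv_one, _root_.mul_one]⟩
    have h3 : x ≫ v ∈ (Subgroup.closure (vals f) : Set (𝟙_ (Over (Spec (CommRingCat.of k))) ⟶ G)) :=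
      Subgroup.subset_closure h2
    rw [← hr] at h3
    obtain ⟨d, hd⟩ := h3
    rw [← hd, pt_comp]
    exact ⟨_, rfl⟩)
  refine ⟨D, inferInstance, i, N, s, v', hmon, hi, hD, hsm, hs, hsurj, hv', fun hXp => ?_⟩
  have hTp : IsProper (T (X ⊗ X) N).hom := isProper_T (isProper_tensor hXp hXp) N
  have := hD.lft
  have := hD.sep
  have := hD.qc
  have h4 : UniversallyClosed (s.left ≫ D.hom) := by
    rw [Over.w]; infer_instance
  have h5 : UniversallyClosed D.hom := UniversallyClosed.of_comp_surjective s.left D.hom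
  exact { }

end K530.GenSub
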