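import Groth.Agent.AbVar.K530.ConstKer
import Groth.Agent.Sga3.H830.AlgGrpAb

/-!
# Constant subgroups of an étale commutative group
-/

set_option autoImplicit false
universe u
open CategoryTheory MonoidalCategory CartesianMonoidalCategory MonObj GrpObj AlgebraicGeometry Limits Opposite

namespace K530.SubCst

open Groth.Agent.Books.AlgPts K530.ConstGrp K530.ConstKer

theorem compactSpace_cst (S : Scheme.{u}) [CompactSpace S] (M : Type u) [Finite M] : CompactSpace (cst S M).left := by
  let e := sigmaMk (fun _ : M => S)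
  have h1 : CompactSpace (Σ _ : M, S) := inferInstance
  exact e.compactSpace

variable {k : Type u} [Field k]

theorem isAlg_cst (M : Type u) [Finite M] :
    Groth.Agent.Sga3.H830.AlgGrpAb.IsAlg (cst (Spec (CommRingCat.of k)) M) := by
  refine ⟨locallyOfFiniteType_cst _ _, ?_⟩
  have : CompactSpace (Spec (CommRingCat.of k)) := inferInstance
  have h1 := compactSpace_cst (Spec (CommRingCat.of k)) M
  exact (quasiCompact_iff_compactSpace (cst (Spec (CommRingCat.of k)) M).hom).2 h1

variable [IsAlgClosed k] {N : Over (Spec (CommRingCat.of k))} [GrpObj N] [IsCommMonObj N] (K : Subgroup (Pts N))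

/-- The inclusion of a constant subgroup. -/
noncomputable def kap : cst (Spec (CommRingCat.of k)) K ⟶ N := desc (fun γ : K => (γ : Pts N))

omit [IsAlgClosed k] in
theorem isMonHom_kap : IsMonHom (kap K) := isMonHom_desc K.subtype

variable [Etale N.hom]

theorem fnN_kap {T : Over (Spec (CommRingCat.of k))} (x : T ⟶ cst (Spec (CommRingCat.of k)) K) (t : T.left) :
    fnN (x ≫ kap K) t = (fn x t : Pts N) := by
  let V := part (fn x) (fn x t)
  have h1 := opnι_comp x V (fn x t) (fun s hs => hs)
  have h2 : fnN (opnι T V ≫ x ≫ kap K) ⟨t, rfl⟩ = fnN (x ≫ kap K) t := by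
    rw [fnN_comp]; rfl
  rw [← h2, ← Category.assoc, h1, Category.assoc]
  have h3 : sec (Spec (CommRingCat.of k)) (fn x t) ≫ kap K = ((fn x t : K) : Pts N) := sec_desc _ _
  rw [h3, fnN_const]
  rfl

theorem mono_kap : Mono (kap K) := by
  refine ⟨fun {T} x y h => ?_⟩
  apply fn_injective
  ext1 t
  apply Subtype.ext
  rw [← fnN_kap, ← fnN_kap, h]

theorem exists_kap {T : Over (Spec (CommRingCat.of k))} (x : T ⟶ N) (h : ∀ t, fnN x t ∈ K) :
    ∃ z : T ⟶ cst (Spec (CommRingCat.of k)) K, z ≫ kap K = x := by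
  let c : LocallyConstant T.left K := ⟨fun t => ⟨fnN x t, h t⟩,
    IsLocallyConstant.desc _ (Subtype.val : K → Pts N) (fnN x).isLocallyConstant Subtype.val_injective⟩
  obtain ⟨z, hz⟩ := fn_surjective c
  refine ⟨z, ?_⟩
  apply fnN_injective
  ext1 t
  rw [fnN_kap, hz]
  rfl

end K530.SubCst
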