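import Groth.Agent.AbVar.K530.Char
import Groth.Agent.AbVar.K530.SubCst
import Groth.Agent.AbVar.K530.DegBd
import Groth.Agent.AbVar.K523.KerSq
import Groth.Agent.Sga3.H830.AlgGrpAbMain
import Groth.Agent.Sga3.H830.CommAux
import Groth.Agent.Books.AntiAffine
import Groth.Agent.FlatB.GeomRed

/-!
# A character of the kernel with trivial cocycle gives an isogeny through which the morphism lifts
-/

set_option autoImplicit false
universe u
open CategoryTheory MonoidalCategory CartesianMonoidalCategory MonObj GrpObj AlgebraicGeometry Limits Opposite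

namespace K530.Isog

open Groth.Agent Groth.Agent.Books.AlgPts Groth.Agent.Books.AlgPtsGen K530.ConstGrp K530.ConstKer K530.Cocyc
open K530.SubCst K530.RigidGrp Groth.Agent.Sga3.H830.AlgGrpAb Groth.Agent.Sga3.H830.CommAux K523.KerSq

variable {k : Type u} [Field k]

section fin

variable {Q H : Over (Spec (CommRingCat.of k))} [GrpObj Q] [GrpObj H]

theorem isFinite_of_finite_fiber [LocallyOfFiniteType Q.hom] [LocallyOfFiniteType H.hom] [IsSeparated H.hom]
    (π : Q ⟶ H) [IsMonHom π] [QuasiCompact π.left]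
    (hf : (π.left ⁻¹' {(η[H] : 𝟙_ (Over (Spec (CommRingCat.of k))) ⟶ H).left (o k)}).Finite) : IsFinite π.left := by
  rw [Groth.Agent.S3037.result k Q H π]
  have h1 : LocallyOfFiniteType (π.left ≫ H.hom) := by
    rw [Over.w π]; infer_instance
  have h2 : LocallyOfFiniteType π.left := locallyOfFiniteType_of_comp π.left H.hom
  have hc : IsClosedImmersion (η[H] : 𝟙_ (Over (Spec (CommRingCat.of k))) ⟶ H).left := isClosedImmersion_pt _
  have h3 : JacobsonSpace ↥(𝟙_ (Over (Spec (CommRingCat.of k)))).left := by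
    change JacobsonSpace (PrimeSpectrum k)
    infer_instance
  have h4 : JacobsonSpace ↥(pullback π.left (η[H] : 𝟙_ (Over (Spec (CommRingCat.of k))) ⟶ H).left) :=
    LocallyOfFiniteType.jacobsonSpace (pullback.snd π.left
      (η[H] : 𝟙_ (Over (Spec (CommRingCat.of k))) ⟶ H).left)
  have h5 : Finite ↥(pullback π.left (η[H] : 𝟙_ (Over (Spec (CommRingCat.of k))) ⟶ H).left) := by
    have := hf.to_subtype
    refine Finite.of_injective (fun z : ↥(pullback π.left (η[H] : 𝟙_ (Over (Spec (CommRingCat.of k))) ⟶ H).left) =>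
      (⟨pullback.fst π.left (η[H] : 𝟙_ (Over (Spec (CommRingCat.of k))) ⟶ H).left z, ?_⟩ :
        (π.left ⁻¹' {(η[H] : 𝟙_ (Over (Spec (CommRingCat.of k))) ⟶ H).left (o k)} : Set _))) ?_
    · rw [Set.mem_preimage, ← Scheme.Hom.comp_apply, pullback.condition, Scheme.Hom.comp_apply]
      rw [eq_o (pullback.snd π.left (η[H] : 𝟙_ (Over (Spec (CommRingCat.of k))) ⟶ H).left z)]
      rfl
    · intro a b hab
      exact (pullback.fst π.left (η[H] : 𝟙_ (Over (Spec (CommRingCat.of k))) ⟶ H).left).isClosedEmbedding.injective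
        (congrArg Subtype.val hab)
  exact JacobsonSpace.discreteTopology (Set.toFinite _)

/-- If the composite of a surjective morphism with a homomorphism is finite, so is the homomorphism. -/
theorem isFinite_of_comp {G : Over (Spec (CommRingCat.of k))} [LocallyOfFiniteType Q.hom] [LocallyOfFiniteType H.hom]
    [IsSeparated H.hom] (q : G ⟶ Q) [Surjective q.left] (π : Q ⟶ H) [IsMonHom π] [QuasiCompact π.left] (p : G ⟶ H)
    [IsFinite p.left] (h : q ≫ π = p) : IsFinite π.left := by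
  refine isFinite_of_finite_fiber π ?_
  have h1 := p.left.finite_preimage_singleton ((η[H] : 𝟙_ (Over (Spec (CommRingCat.of k))) ⟶ H).left (o k))
  refine (h1.image q.left).subset ?_
  intro y hy
  obtain ⟨x, rfl⟩ := q.left.surjective y
  refine ⟨x, ?_, rfl⟩
  rw [Set.mem_preimage, ← h, Over.comp_left, Scheme.Hom.comp_apply]
  exact hy

end fin

theorem isVar_of_surjective {G Q : Over (Spec (CommRingCat.of k))} (hG : IsVar G) (q : G ⟶ Q) [Flat q.left]
    [Surjective q.left] (h1 : LocallyOfFiniteType Q.hom) (h2 : QuasiCompact Q.hom) (h3 : IsSeparated Q.hom) :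
    IsVar Q := by
  have := hG.isIntegral
  have h4 : IsReduced Q.left := FlatB.GeomRed.isReduced_of_flat_of_surjective q.left
  have h5 : IrreducibleSpace Q.left := by
    have h5 : IsIrreducible (Set.univ : Set Q.left) := by
      rw [← Set.range_eq_univ.2 q.left.surjective, ← Set.image_univ]
      exact (IrreducibleSpace.isIrreducible_univ _).image _ q.left.continuous.continuousOn
    exact (irreducibleSpace_def _).mpr h5
  exact ⟨isIntegral_of_irreducibleSpace_of_isReduced _, h1, h3, h2⟩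

variable [IsAlgClosed k] {U G H N : Over (Spec (CommRingCat.of k))} [GrpObj G] [GrpObj H] [GrpObj N]
  [IsCommMonObj G] [IsCommMonObj N] [Etale N.hom]

omit [IsCommMonObj G] [IsCommMonObj N] in
theorem hb_dif {p : G ⟶ H} [IsMonHom p] {n : N ⟶ G} (hk : AlgGrp.IsKernel n p) (v : U ⟶ H)
    {A : Type (u + 1)} [AddCommGroup A] (e : Additive (Pts N) → A) (b : LocallyConstant (Tor p v).left A)
    (hb : ∀ z : (pullback (prj p v).left (prj p v).left : Scheme.{u}), e (Additive.ofMul (F hk z)) =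
      b (pullback.snd (prj p v).left (prj p v).left z) - b (pullback.fst (prj p v).left (prj p v).left z))
    {T : Over (Spec (CommRingCat.of k))} (x y : T ⟶ Tor p v) (h : x ≫ prj p v = y ≫ prj p v) (t : T.left) :
    e (Additive.ofMul (fnN (dif hk x y h) t)) = b (y.left t) - b (x.left t) := by
  have h' : x.left ≫ (prj p v).left = y.left ≫ (prj p v).left := congrArg Over.Hom.left h
  rw [← F_lift hk x y h h' t, hb]
  have h1 : pullback.snd (prj p v).left (prj p v).left (pullback.lift x.left y.left h' t) = y.left t := by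
    rw [← Scheme.Hom.comp_apply, pullback.lift_snd]
  have h2 : pullback.fst (prj p v).left (prj p v).left (pullback.lift x.left y.left h' t) = x.left t := by
    rw [← Scheme.Hom.comp_apply, pullback.lift_fst]
  rw [h1, h2]

omit [IsCommMonObj G] [IsCommMonObj N] in
/-- Rational points of the part of the torsor where `b = 0`. -/
theorem exists_zero_pt {p : G ⟶ H} [IsMonHom p] {n : N ⟶ G} [IsMonHom n] (hk : AlgGrp.IsKernel n p) (v : U ⟶ H)
    [LocallyOfFiniteType G.hom] [LocallyOfFiniteType H.hom] [Surjective p.left] {A : Type (u + 1)} [AddCommGroup A]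
    (e : Additive (Pts N) →+ A) (he : Function.Surjective e)
    (b : LocallyConstant (Tor p v).left A)
    (hb : ∀ z : (pullback (prj p v).left (prj p v).left : Scheme.{u}), e (Additive.ofMul (F hk z)) =
      b (pullback.snd (prj p v).left (prj p v).left z) - b (pullback.fst (prj p v).left (prj p v).left z))
    (x : 𝟙_ (Over (Spec (CommRingCat.of k))) ⟶ U) :
    ∃ y : 𝟙_ (Over (Spec (CommRingCat.of k))) ⟶ Tor p v, y ≫ prj p v = x ∧ b (y.left (o k)) = 0 := by
  obtain ⟨g₀, hg₀⟩ := exists_comp_eq_of_pt_mem_range p (x ≫ v) (p.left.surjective _)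
  let p₀ : 𝟙_ (Over (Spec (CommRingCat.of k))) ⟶ Tor p v := pullback.lift x g₀ hg₀.symm
  obtain ⟨γ', hγ⟩ := he (- b (p₀.left (o k)))
  obtain ⟨γ, rfl⟩ : ∃ γ : Pts N, Additive.ofMul γ = γ' := ⟨γ'.toMul, rfl⟩
  have hnp : n ≫ p = 1 := by
    rw [hk.w, Hom.one_def]
  have h1 : ((γ ≫ n) * g₀) ≫ p = x ≫ v := by
    rw [MonObj.mul_comp, Category.assoc, hnp, comp_one, _root_.one_mul, hg₀]
  let p₁ : 𝟙_ (Over (Spec (CommRingCat.of k))) ⟶ Tor p v := pullback.lift x ((γ ≫ n) * g₀) h1.symm
  have h2 : p₀ ≫ prj p v = p₁ ≫ prj p v := by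
    rw [pullback.lift_fst, pullback.lift_fst]
  have h3 : dif hk p₀ p₁ h2 = γ := by
    apply ext_ker hk
    rw [dif_comp, pullback.lift_snd, pullback.lift_snd, mul_inv_cancel_right]
  have h5 : fnN γ (o k) = γ := by
    have h6 := fnN_const (T := 𝟙_ (Over (Spec (CommRingCat.of k)))) γ
    rw [toUnit_unique (toUnit (𝟙_ (Over (Spec (CommRingCat.of k))))) (𝟙 _), Category.id_comp] at h6
    rw [h6]
    rfl
  have h7 := hb_dif hk v e b hb p₀ p₁ h2 (o k)
  rw [h3, h5, hγ] at h7
  refine ⟨p₁, pullback.lift_fst _ _ _, ?_⟩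
  have h8 : b (p₁.left (o k)) = (b (p₁.left (o k)) - b (p₀.left (o k))) + b (p₀.left (o k)) := by abel
  rw [h8, ← h7, neg_add_cancel]

/-- The kernel of a character. -/
def kerChar {A : Type (u + 1)} [AddCommGroup A] (e : Additive (Pts N) →+ A) : Subgroup (Pts N) where
  carrier := {γ | e (Additive.ofMul γ) = 0}
  mul_mem' {a b} ha hb := by
    change e (Additive.ofMul a + Additive.ofMul b) = 0
    rw [map_add, show e (Additive.ofMul a) = 0 from ha, show e (Additive.ofMul b) = 0 from hb, add_zero]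
  one_mem' := map_zero e
  inv_mem' {a} ha := by
    change e (- Additive.ofMul a) = 0
    rw [map_neg, show e (Additive.ofMul a) = 0 from ha, neg_zero]

/-- **Main construction.** -/
theorem exists_isog {p : G ⟶ H} [IsMonHom p] {n : N ⟶ G} [IsMonHom n] (hk : AlgGrp.IsKernel n p) (v : U ⟶ H)
    (hG : IsVar G) (hH : IsVar H) [LocallyOfFiniteType U.hom] [Etale p.left] [Surjective p.left] [IsFinite p.left]
    [Finite (Pts N)] (x₀ : 𝟙_ (Over (Spec (CommRingCat.of k))) ⟶ U) (h₀ : x₀ ≫ v = 1)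
    {A : Type (u + 1)} [AddCommGroup A] [Nontrivial A] (e : Additive (Pts N) →+ A) (he : Function.Surjective e)
    (b : LocallyConstant (Tor p v).left A)
    (hb : ∀ z : (pullback (prj p v).left (prj p v).left : Scheme.{u}), e (Additive.ofMul (F hk z)) =
      b (pullback.snd (prj p v).left (prj p v).left z) - b (pullback.fst (prj p v).left (prj p v).left z)) :
    ∃ (Q : Over (Spec (CommRingCat.of k))) (_ : GrpObj Q) (π : Q ⟶ H) (v' : U ⟶ Q), IsMonHom π ∧
      IsFinite π.left ∧ Surjective π.left ∧ IsCommMonObj Q ∧ IsVar Q ∧ x₀ ≫ v' = 1 ∧ v' ≫ π = v ∧ ¬ IsIso π := by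
  have := hG.isIntegral
  have := hG.lft
  have := hG.sep
  have := hG.qc
  have := hH.isIntegral
  have := hH.lft
  have := hH.sep
  have := hH.qc
  have hnp : n ≫ p = 1 := by
    rw [hk.w, Hom.one_def]
  have hnm : Mono n := ⟨fun a b h => ext_ker hk h⟩
  let K := kerChar e
  have hκm := mono_kap K
  have hκh := isMonHom_kap K
  let κ : cst (Spec (CommRingCat.of k)) K ⟶ G := kap K ≫ n
  have hκ1 : Mono κ := mono_comp _ _
  have hκ2 : IsMonHom κ := inferInstance
  obtain ⟨Q, _, q, hq, hqf, hkq, hQ⟩ := exists_quotient (isAlg_cst K) (⟨inferInstance, inferInstance⟩ : IsAlg G) κ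
  have hep := Groth.Agent.Sga3.H830.AlgGrpAbMain.epi_tensor q hqf
  obtain ⟨hq1, hq2, hq3⟩ := hqf
  have hQc : IsCommMonObj Q := isCommMonObj_of_epi q
  have hQs : IsSeparated Q.hom := Books.AntiAffine.isSeparated_hom Q
  have hQl := hQ.1
  have hQq := hQ.2
  have hQv : IsVar Q := isVar_of_surjective hG q hQ.1 hQ.2 hQs
  obtain ⟨π, hπ, hqπ⟩ := K523.KerSq.exists_desc_hom κ q hkq p (by
    rw [Category.assoc, hnp, comp_one])
  have hπs : Surjective π.left := by
    have h1 : Surjective (q.left ≫ π.left) := by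
      rw [← Over.comp_left, hqπ]; infer_instance
    exact Surjective.of_comp q.left π.left
  have hπq : QuasiCompact π.left := quasiCompact_left hQ ⟨inferInstance, inferInstance⟩ π
  have hπf : IsFinite π.left := isFinite_of_comp q π p hqπ
  -- the part of the torsor where `b = 0`
  let V₀ : (Tor p v).left.Opens := ⟨b ⁻¹' {0}, b.isLocallyConstant.isOpen_fiber 0⟩
  let P₀ := opn (Tor p v) V₀
  let j₀ : P₀ ⟶ Tor p v := opnι (Tor p v) V₀
  have hj₀ : IsOpenImmersion j₀.left := inferInstanceAs (IsOpenImmersion V₀.ι)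
  let π₀ : P₀ ⟶ U := j₀ ≫ prj p v
  have hπ₀e : Etale π₀.left := by
    rw [Over.comp_left]; infer_instance
  have hπ₀s : Surjective π₀.left := by
    refine ⟨fun z => ?_⟩
    by_contra hz
    have ho : IsOpen (Set.range π₀.left) := π₀.left.isOpenMap.isOpen_range
    obtain ⟨x, hx⟩ := exists_pt_mem (X := U) (U := (Set.range π₀.left)ᶜ) ⟨z, hz⟩ ho.isClosed_compl.isLocallyClosed
    obtain ⟨y, hy1, hy2⟩ := exists_zero_pt hk v e he b hb x
    obtain ⟨y', hy'⟩ := OpenSub.exists_lift_open j₀ y (by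
      rintro _ ⟨a, rfl⟩
      rw [eq_o a]
      exact ⟨⟨y.left (o k), hy2⟩, rfl⟩)
    apply hx
    refine ⟨pt y', ?_⟩
    rw [← pt_comp, ← Category.assoc, hy', hy1]
  have hbj : ∀ (T : Over (Spec (CommRingCat.of k))) (x : T ⟶ P₀) (t : T.left), b ((x ≫ j₀).left t) = 0 := by
    intro T x t
    have h1 : (x ≫ j₀).left t = j₀.left (x.left t) := by
      rw [Over.comp_left, Scheme.Hom.comp_apply]
    rw [h1]
    exact (x.left t).2
  obtain ⟨w, hw⟩ := Groth.Agent.Sga3C.QuotProps.exists_desc π₀ (j₀ ≫ coor p v ≫ q) (by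
    intro T x y hxy
    have h1 : (x ≫ j₀) ≫ prj p v = (y ≫ j₀) ≫ prj p v := by
      rw [Category.assoc, Category.assoc]; exact hxy
    have h2 : ∀ t, fnN (dif hk (x ≫ j₀) (y ≫ j₀) h1) t ∈ K := by
      intro t
      change e (Additive.ofMul (fnN (dif hk (x ≫ j₀) (y ≫ j₀) h1) t)) = 0
      rw [hb_dif hk v e b hb (x ≫ j₀) (y ≫ j₀) h1 t, hbj, hbj, sub_zero]
    obtain ⟨z, hz⟩ := exists_kap K _ h2
    have h3 : (((y ≫ j₀) ≫ coor p v) * ((x ≫ j₀) ≫ coor p v)⁻¹) ≫ q = 1 := by
      rw [← dif_comp hk (x ≫ j₀) (y ≫ j₀) h1, ← hz]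
      have h4 : κ ≫ q = 1 := by rw [hkq.w, Hom.one_def]
      have h5 : (z ≫ kap K) ≫ n = z ≫ κ := by simp only [κ, Category.assoc]
      rw [h5, Category.assoc, h4, comp_one]
    rw [MonObj.mul_comp, GrpObj.inv_comp] at h3
    have h4 := mul_inv_eq_one.1 h3
    simp only [Category.assoc] at h4 ⊢
    exact h4.symm)
  have hepi : Epi π₀ := Groth.Agent.Sga3C.QuotProps.epi_of_flat_surjective π₀
  have hwπ : w ≫ π = v := by
    rw [← cancel_epi π₀, ← Category.assoc, hw, Category.assoc, Category.assoc, hqπ]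
    have h1 : coor p v ≫ p = prj p v ≫ v := pullback.condition.symm
    rw [h1]
    simp only [π₀, Category.assoc]
  refine ⟨Q, inferInstance, π, w * (toUnit U ≫ x₀ ≫ w)⁻¹, hπ, hπf, hπs, hQc, hQv, ?_, ?_, ?_⟩
  · rw [MonObj.comp_mul, GrpObj.comp_inv, ← Category.assoc x₀ (toUnit U), toUnit_unique (x₀ ≫ toUnit U) (𝟙 _),
      Category.id_comp, mul_inv_cancel]
  · rw [MonObj.mul_comp, GrpObj.inv_comp, Category.assoc, Category.assoc, hwπ, h₀, comp_one, _root_.inv_one,
      _root_.mul_one]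
  · intro hiso
    obtain ⟨a, ha⟩ := exists_ne (0 : A)
    obtain ⟨γ', hγ'⟩ := he a
    obtain ⟨γ, rfl⟩ : ∃ γ : Pts N, Additive.ofMul γ = γ' := ⟨γ'.toMul, rfl⟩
    have h1 : (γ ≫ n) ≫ q = 1 := by
      rw [← cancel_mono π, Category.assoc, Category.assoc, hqπ, hnp, comp_one, one_comp]
    obtain ⟨z, hz⟩ := exists_lift_ker hkq (γ ≫ n) h1
    have h2 : z ≫ kap K = γ := by
      rw [← cancel_mono n, Category.assoc]
      exact hz
    have h5 : fnN γ (o k) = γ := by
      have h6 := fnN_const (T := 𝟙_ (Over (Spec (CommRingCat.of k)))) γ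
      rw [toUnit_unique (toUnit (𝟙_ (Over (Spec (CommRingCat.of k))))) (𝟙 _), Category.id_comp] at h6
      rw [h6]
      rfl
    have h6 := fnN_kap K z (o k)
    rw [h2, h5] at h6
    have h7 : γ ∈ K := by
      rw [h6]
      exact (fn z (o k)).2
    exact ha (hγ'.symm.trans h7)

end K530.Isog
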