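import Groth.Agent.AbVar.K530.Isog
import Groth.Agent.Sga3B.KerGrp
import Groth.Agent.Sga7.H758.EndRing
import Groth.Agent.Sga3.H792.PowFlat
import Groth.Agent.Books.AlgPtsSmooth

/-!
# The number of `l`-torsion points of a group receiving a saturated morphism is at most `#H¹(U, ℤ/l)`
-/

set_option autoImplicit false
universe u
open CategoryTheory MonoidalCategory CartesianMonoidalCategory MonObj GrpObj AlgebraicGeometry Limits Opposite

namespace K530.LemB

open Groth.Agent Groth.Agent.Books.AlgPts Groth.Agent.Books.AlgPtsGen K530.ConstGrp K530.ConstKer K530.Cocyc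
open K530.SubCst K530.RigidGrp K530.DegBd K530.GenMap Groth.Agent.Sga4B.ConstLC

variable {k : Type u} [Field k] [IsAlgClosed k] (G : Over (Spec (CommRingCat.of k))) [GrpObj G] [IsCommMonObj G]
  (l : ℕ)

/-- Multiplication by `l`. -/
noncomputable abbrev pw : G ⟶ G := 𝟙 G ^ l

instance isMonHom_pw : IsMonHom (pw G l) := Sga7.H758.EndRing.isMonHom_pow _ _

omit [IsAlgClosed k] in
theorem etale_pw [LocallyOfFiniteType G.hom] (hl : (l : k) ≠ 0) : Etale (pw G l).left := by
  have h := Sga3.H792.PowFlat.etale_zpow_comm G (d := (l : ℤ)) (by exact_mod_cast hl)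
  rwa [zpow_natCast] at h

omit [IsAlgClosed k] [IsCommMonObj G] in
theorem quasiCompact_pw (hG : IsVar G) : QuasiCompact (pw G l).left :=
  Sga3.H830.AlgGrpAb.quasiCompact_left ⟨hG.lft, hG.qc⟩ ⟨hG.lft, hG.qc⟩ _

theorem surjective_pw (hG : IsVar G) (hl : (l : k) ≠ 0) : Surjective (pw G l).left := by
  have := hG.isIntegral
  have := hG.lft
  have := etale_pw G l hl
  have := quasiCompact_pw G l hG
  obtain ⟨h1, -⟩ := S3016.result k G G (pw G l)
  have h2 : IsOpen (Set.range (pw G l).left) := (pw G l).left.isOpenMap.isOpen_range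
  have h3 : IsClopen (Set.range (pw G l).left) := ⟨h1, h2⟩
  have h4 : (Set.range (pw G l).left).Nonempty := ⟨(pw G l).left (Classical.arbitrary G.left), ⟨_, rfl⟩⟩
  have h5 := h3.eq_univ h4
  exact ⟨Set.range_eq_univ.1 h5⟩

theorem isFinite_pw (hG : IsVar G) (hl : (l : k) ≠ 0) : IsFinite (pw G l).left := by
  have := hG.lft
  have := etale_pw G l hl
  have := quasiCompact_pw G l hG
  rw [S3037.result k G G (pw G l)]
  have h1 : Etale (pullback.snd (pw G l).left (η[G] : 𝟙_ (Over (Spec (CommRingCat.of k))) ⟶ G).left) := inferInstance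
  have h2 := locallyQuasiFinite_of_etale
    (pullback.snd (pw G l).left (η[G] : 𝟙_ (Over (Spec (CommRingCat.of k))) ⟶ G).left)
  exact discreteTopology k _ (pullback.snd (pw G l).left (η[G] : 𝟙_ (Over (Spec (CommRingCat.of k))) ⟶ G).left)

/-- The kernel of multiplication by `l`. -/
theorem exists_kernel (hG : IsVar G) (hl : (l : k) ≠ 0) :
    ∃ (N : Over (Spec (CommRingCat.of k))) (_ : GrpObj N) (_ : IsCommMonObj N) (n : N ⟶ G), IsMonHom n ∧ Mono n ∧
      AlgGrp.IsKernel n (pw G l) ∧ Etale N.hom ∧ Finite (Pts N) ∧ (∀ γ : Pts N, γ ^ l = 1) := by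
  have := hG.lft
  have := hG.sep
  have := etale_pw G l hl
  have := isFinite_pw G l hG hl
  let N := Sga3B.KerGrp.kerObj (pw G l)
  let n : N ⟶ G := Sga3B.KerGrp.kerι (pw G l)
  obtain ⟨_, hn⟩ := Sga3B.KerGrp.exists_grpObj (pw G l)
  have hm : Mono n := inferInstance
  have hc : IsCommMonObj N := Sga3.H830.CommAux.isCommMonObj_of_mono n
  have hk : AlgGrp.IsKernel n (pw G l) := Sga3B.KerGrp.isPullback_ker (pw G l)
  have he : Etale N.hom := (inferInstance : Etale (pullback.snd (pw G l).left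
    (η[G] : 𝟙_ (Over (Spec (CommRingCat.of k))) ⟶ G).left))
  have hf : IsFinite N.hom := (inferInstance : IsFinite (pullback.snd (pw G l).left
    (η[G] : 𝟙_ (Over (Spec (CommRingCat.of k))) ⟶ G).left))
  have hfin : Finite N.left := by
    have h1 := N.hom.finite_preimage_singleton (o k)
    have h2 : N.hom ⁻¹' {o k} = Set.univ := by
      ext x
      simp only [Set.mem_preimage, Set.mem_singleton_iff, Set.mem_univ, iff_true]
      exact eq_o _
    rw [h2] at h1
    exact Set.finite_univ_iff.1 h1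
  refine ⟨N, inferInstance, hc, n, hn, hm, hk, he, ?_, ?_⟩
  · exact Finite.of_injective (fun γ : Pts N => pt γ) (fun a b h => pt_injective h)
  · intro γ
    rw [← cancel_mono n, one_comp]
    have h1 : (γ ^ l) ≫ n = (γ ≫ n) ^ l := by
      exact map_pow (⟨⟨fun x : Pts N => x ≫ n, MonObj.one_comp n⟩, fun a b => MonObj.mul_comp a b n⟩ : Pts N →* Pts G) γ l
    have h2 : (γ ≫ n) ^ l = (γ ≫ n) ≫ pw G l := by
      have : ∀ m : ℕ, (γ ≫ n) ^ m = (γ ≫ n) ≫ (𝟙 G ^ m) := by
        intro m
        induction m with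
        | zero => rw [pow_zero, pow_zero, comp_one]
        | succ m ih => rw [pow_succ, pow_succ, MonObj.comp_mul, ih, Category.comp_id]
      exact this l
    rw [h1, h2, Category.assoc, hk.w, ← Category.assoc, ← toUnit_unique (toUnit _) (γ ≫ toUnit N), Hom.one_def]

/-- **Lemma B.** -/
theorem card_le {U : Over (Spec (CommRingCat.of k))} (hU : IsVar U) (hG : Good G)
    (x₀ : 𝟙_ (Over (Spec (CommRingCat.of k))) ⟶ U) (v : U ⟶ G) (h₀ : x₀ ≫ v = 1) (hs : Sat x₀ v)
    [Fact l.Prime] (hl : (l : k) ≠ 0) (N : Over (Spec (CommRingCat.of k))) [GrpObj N] [IsCommMonObj N] (n : N ⟶ G)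
    [IsMonHom n] (hk : AlgGrp.IsKernel n (pw G l)) [Etale N.hom] [Finite (Pts N)] (hN : ∀ γ : Pts N, γ ^ l = 1)
    [Finite (EtCoh.H U.left (LC U.left (ULift.{u + 1} (ZMod l))) 1)] :
    Nat.card (Pts N) ≤ Nat.card (EtCoh.H U.left (LC U.left (ULift.{u + 1} (ZMod l))) 1) := by
  by_contra hcon
  push Not at hcon
  have := hU.lft
  have := hG.var.lft
  have := etale_pw G l hl
  have := surjective_pw G l hG.var hl
  have := isFinite_pw G l hG.var hl
  obtain ⟨e, he, b, hb⟩ := Char.exists_char (p := pw G l) hk (v := v) l hN hcon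
  have hsurj := Char.surjective_of_ne_zero l e he
  obtain ⟨Q, _, π, v', h1, h2, h3, h4, h5, h6, h7, h8⟩ := Isog.exists_isog hk v hG.var hG.var x₀ h₀ e hsurj b hb
  have := h5.isIntegral
  have := h5.lft
  have := h5.sep
  have hsm : Smooth Q.hom := Books.AlgPtsSmooth.smooth_of_isReduced Q
  exact h8 (hs Q v' π ⟨h4, h5, hsm, hG.rigid.of_isFinite π⟩ h6 h7)

end K530.LemB
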