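import Groth.Agent.AbVar.K525.Unimod
import Mathlib.RingTheory.LocalProperties.Basic
import Mathlib.Algebra.Module.LocalizedModule.IsLocalization
import Mathlib.RingTheory.Ideal.GoingUp
import Mathlib.RingTheory.Localization.AtPrime.Basic

/-!
# Modules over a Gorenstein order with small endomorphism ring
-/

set_option autoImplicit false

namespace K530.MinOrd

open K525.Unimod

variable {R : Type*} [CommRing R] {M : Type*} [AddCommGroup M] [Module R M]

section Loc

/-- A criterion for local freeness of rank one. -/
theorem loc_of (P : Ideal R) [P.IsPrime] (f : M →ₗ[R] R) (m : M) (hm : f m ∉ P)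
    (r : R) (hr : ∀ x, f x • m = r • x) :
    Nonempty (LocalizedModule P.primeCompl M ≃ₗ[Localization.AtPrime P] Localization.AtPrime P) := by
  set S := P.primeCompl with hS
  let fP : LocalizedModule S M →ₗ[Localization S] Localization S :=
    IsLocalizedModule.mapExtendScalars S (LocalizedModule.mkLinearMap S M) (Algebra.linearMap R (Localization S))
      (Localization S) f
  have hfP : ∀ x : M, fP (LocalizedModule.mkLinearMap S M x) = algebraMap R (Localization S) (f x) := fun x => by
    exact IsLocalizedModule.map_apply S (LocalizedModule.mkLinearMap S M) (Algebra.linearMap R (Localization S)) f x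
  have ha : IsUnit (algebraMap R (Localization S) (f m)) := IsLocalization.map_units _ (⟨f m, hm⟩ : S)
  have har : algebraMap R (Localization S) (f m) = algebraMap R (Localization S) r := by
    have h1 : f m * f m = r * f m := by
      have := congrArg f (hr m)
      rwa [map_smul, map_smul, smul_eq_mul, smul_eq_mul] at this
    have h2 := congrArg (algebraMap R (Localization S)) h1
    rw [map_mul, map_mul] at h2
    exact ha.mul_right_cancel h2
  let g : Localization S →ₗ[Localization S] LocalizedModule S M :=
    LinearMap.toSpanSingleton (Localization S) (LocalizedModule S M) (LocalizedModule.mkLinearMap S M m)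
  have hg : ∀ t, g t = t • LocalizedModule.mkLinearMap S M m := fun t => rfl
  refine ⟨(LinearEquiv.ofBijective g ⟨?_, ?_⟩).symm⟩
  · rw [← LinearMap.ker_eq_bot, LinearMap.ker_eq_bot']
    intro t ht
    have h1 := congrArg fP ht
    rw [hg, map_smul, hfP, map_zero, smul_eq_mul] at h1
    exact (ha.mul_left_eq_zero).1 h1
  · intro y
    obtain ⟨⟨x, s⟩, hxs⟩ := IsLocalizedModule.surj S (LocalizedModule.mkLinearMap S M) y
    have hs : IsUnit (algebraMap R (Localization S) (s : R)) := IsLocalization.map_units _ s
    obtain ⟨u, hu⟩ := hs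
    obtain ⟨v, hv⟩ := ha
    refine ⟨(↑(u⁻¹) : Localization S) * ((↑(v⁻¹) : Localization S) * algebraMap R (Localization S) (f x)), ?_⟩
    rw [hg, mul_smul, mul_smul]
    have h2 : algebraMap R (Localization S) (f x) • LocalizedModule.mkLinearMap S M m =
        (v : Localization S) • ((u : Localization S) • y) := by
      rw [algebraMap_smul, ← map_smul, hr, map_smul, hv, har, hu, algebraMap_smul, algebraMap_smul]
      congr 1
      exact hxs.symm
    rw [h2, smul_smul (↑(v⁻¹) : Localization S), Units.inv_mul, one_smul, smul_smul, Units.inv_mul, one_smul]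

/-- Endomorphisms of a module which is locally free of rank one. -/
theorem end_of_locFree [Module.Finite R M]
    (h : ∀ (P : Ideal R) (_ : P.IsPrime),
      Nonempty (LocalizedModule P.primeCompl M ≃ₗ[Localization.AtPrime P] Localization.AtPrime P)) :
    (∀ T : M →ₗ[R] M, ∃ r : R, ∀ m, T m = r • m) ∧ (∀ r : R, (∀ m : M, r • m = 0) → r = 0) := by
  constructor
  · intro T
    let I : Ideal R :=
      { carrier := {a | ∃ r : R, ∀ m, a • T m = r • m}
        zero_mem' := ⟨0, fun m => by rw [zero_smul, zero_smul]⟩
        add_mem' := by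
          rintro a b ⟨r, hr⟩ ⟨s, hs⟩
          exact ⟨r + s, fun m => by rw [add_smul, add_smul, hr, hs]⟩
        smul_mem' := by
          rintro c a ⟨r, hr⟩
          exact ⟨c * r, fun m => by rw [smul_eq_mul, mul_smul, mul_smul, hr]⟩ }
    have hI : I = ⊤ := by
      by_contra hne
      obtain ⟨P, hP, hIP⟩ := Ideal.exists_le_maximal I hne
      have hP' : P.IsPrime := hP.isPrime
      obtain ⟨e⟩ := h P hP'
      set S := P.primeCompl with hS
      let TP : LocalizedModule S M →ₗ[Localization S] LocalizedModule S M :=
        IsLocalizedModule.mapExtendScalars S (LocalizedModule.mkLinearMap S M) (LocalizedModule.mkLinearMap S M)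
          (Localization S) T
      have hTP : ∀ x : M, TP (LocalizedModule.mkLinearMap S M x) = LocalizedModule.mkLinearMap S M (T x) := fun x =>
        IsLocalizedModule.map_apply S (LocalizedModule.mkLinearMap S M) (LocalizedModule.mkLinearMap S M) T x
      -- `TP` is a scalar
      let c : Localization S := e (TP (e.symm 1))
      have hc : ∀ y, TP y = c • y := by
        intro y
        have h1 : y = e y • e.symm 1 := by
          rw [← map_smul, smul_eq_mul, mul_one, LinearEquiv.symm_apply_apply]
        have h2 : e (TP y) = c * e y := by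
          conv_lhs => rw [h1]
          rw [map_smul, map_smul, smul_eq_mul, mul_comm]
        apply e.injective
        rw [h2, map_smul, smul_eq_mul]
      obtain ⟨⟨r, s⟩, hrs⟩ := IsLocalization.surj S c
      have hrs' : c * algebraMap R (Localization S) (s : R) = algebraMap R (Localization S) r := hrs
      have h3 : ∀ x : M, ∃ t : S, (t : R) • ((s : R) • T x) = (t : R) • (r • x) := by
        intro x
        have h4 : LocalizedModule.mkLinearMap S M ((s : R) • T x) = LocalizedModule.mkLinearMap S M (r • x) := by
          rw [map_smul, ← hTP, hc, map_smul, ← algebraMap_smul (Localization S) (s : R), smul_smul, mul_comm, hrs',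
            algebraMap_smul]
        obtain ⟨t, ht⟩ := (IsLocalizedModule.eq_iff_exists S (LocalizedModule.mkLinearMap S M)).1 h4
        exact ⟨t, ht⟩
      obtain ⟨n, v, hv⟩ := Module.Finite.exists_fin (R := R) (M := M)
      choose t ht using fun i => h3 (v i)
      let u : S := (∏ i, t i) * s
      have hu : (u : R) ∈ I := by
        refine ⟨((∏ i, t i : S) : R) * r, fun x => ?_⟩
        have hx : x ∈ Submodule.span R (Set.range v) := by rw [hv]; trivial
        have hus : (u : R) = ((∏ i, t i : S) : R) * (s : R) := rfl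
        induction hx using Submodule.span_induction with
        | mem x hx =>
          obtain ⟨i, rfl⟩ := hx
          obtain ⟨w, hw⟩ : ∃ w : R, ((∏ i, t i : S) : R) = w * (t i : R) := by
            refine ⟨∏ j ∈ Finset.univ.erase i, (t j : R), ?_⟩
            rw [Finset.prod_erase_mul _ _ (Finset.mem_univ i), Submonoid.coe_finsetProd]
          rw [hus, hw, mul_smul, mul_smul, mul_smul, mul_smul, ht i]
        | zero => rw [map_zero, smul_zero, smul_zero]
        | add x y _ _ hx hy => rw [map_add, smul_add, smul_add, hx, hy]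
        | smul a x _ hx => rw [map_smul, smul_comm, hx, smul_comm]
      exact u.2 (hIP hu)
    have h1 : (1 : R) ∈ I := by rw [hI]; trivial
    obtain ⟨r, hr⟩ := h1
    exact ⟨r, fun m => by rw [← hr, one_smul]⟩
  · intro r hr
    let I : Ideal R := LinearMap.ker (LinearMap.toSpanSingleton R R r)
    have hI : I = ⊤ := by
      by_contra hne
      obtain ⟨P, hP, hIP⟩ := Ideal.exists_le_maximal I hne
      have hP' : P.IsPrime := hP.isPrime
      obtain ⟨e⟩ := h P hP'
      set S := P.primeCompl with hS
      have h1 : algebraMap R (Localization S) r = 0 := by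
        obtain ⟨⟨x, s⟩, hxs⟩ := IsLocalizedModule.surj S (LocalizedModule.mkLinearMap S M) (e.symm 1)
        have h2 : r • ((s : R) • e.symm 1) = 0 := by
          have : (s : R) • e.symm 1 = LocalizedModule.mkLinearMap S M x := hxs
          rw [this, ← map_smul, hr, map_zero]
        have h3 := congrArg e h2
        rw [map_zero, ← algebraMap_smul (Localization S) r, ← algebraMap_smul (Localization S) (s : R), map_smul,
          map_smul, LinearEquiv.apply_symm_apply, smul_eq_mul, smul_eq_mul, mul_one] at h3
        exact ((IsLocalization.map_units (Localization S) s).mul_left_eq_zero).1 h3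
      obtain ⟨t, ht⟩ := (IsLocalization.map_eq_zero_iff S (Localization S) r).1 h1
      exact t.2 (hIP ht)
    have h1 : (1 : R) ∈ I := by rw [hI]; trivial
    have h2 : (1 : R) * r = 0 := h1
    rwa [one_mul] at h2

end Loc

section Gor

/-- The residue characteristic of a maximal ideal of an order. -/
theorem exists_prime [Module.Finite ℤ R] (P : Ideal R) (hP : P.IsMaximal) : ∃ ℓ : ℕ, ℓ.Prime ∧ (ℓ : R) ∈ P := by
  have hint : Algebra.IsIntegral ℤ R := inferInstance
  have hc : (P.comap (algebraMap ℤ R)).IsMaximal := Ideal.isMaximal_comap_of_isIntegral_of_isMaximal P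
  have hne : P.comap (algebraMap ℤ R) ≠ ⊥ := Ring.ne_bot_of_isMaximal_of_not_isField hc Int.not_isField
  obtain ⟨a, ha⟩ := (IsPrincipalIdealRing.principal (P.comap (algebraMap ℤ R)))
  have hprime : Prime a := by
    rw [← Ideal.span_singleton_prime]
    · rw [show Ideal.span {a} = P.comap (algebraMap ℤ R) from ha.symm]
      exact hc.isPrime
    · rintro rfl
      apply hne
      rw [ha]
      exact Submodule.span_zero_singleton ℤ
  refine ⟨a.natAbs, Int.prime_iff_natAbs_prime.1 hprime, ?_⟩
  have h1 : a ∈ P.comap (algebraMap ℤ R) := by rw [ha]; exact Submodule.mem_span_singleton_self a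
  have h2 : ((a.natAbs : ℤ) : ℤ) ∈ P.comap (algebraMap ℤ R) := by
    rcases Int.natAbs_eq a with h | h
    · rwa [← h]
    · have : ((a.natAbs : ℤ)) = -a := by omega
      rw [this]
      exact (P.comap (algebraMap ℤ R)).neg_mem h1
  have h3 : algebraMap ℤ R (a.natAbs : ℤ) ∈ P := h2
  simpa using h3

variable [Module.Finite ℤ R] [Module.Free ℤ R] {l : R →+ ℤ} (hl : Unimodular l) [Module.Finite ℤ M] [Module.Free ℤ M]
include hl

/-- Over a Gorenstein order, a lattice with no extra endomorphisms is locally free of rank one. -/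
theorem exists_functional (hend : ∀ T : M →ₗ[R] M, ∃ r : R, ∀ m, T m = r • m)
    (hf : ∀ r : R, (∀ m : M, r • m = 0) → r = 0) (P : Ideal R) (hP : P.IsMaximal) :
    ∃ (f : M →ₗ[R] R) (m : M), f m ∉ P := by
  by_contra hcon
  push Not at hcon
  obtain ⟨ℓ, hℓ, hℓP⟩ := exists_prime P hP
  have : Fact ℓ.Prime := ⟨hℓ⟩
  -- an element of `(ℓ : P)` not divisible by `ℓ`
  obtain ⟨s, hs1, hs2⟩ : ∃ s : R, (∀ x ∈ P, s * x ∈ Ideal.span {(ℓ : R)}) ∧ s ∉ Ideal.span {(ℓ : R)} := by
    by_contra hc
    push Not at hc
    have := hl.frob ℓ ⊤ P hℓP (fun r hr x _ => Ideal.mul_mem_right _ _ (hc r hr))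
    exact hP.ne_top (top_le_iff.1 this)
  obtain ⟨n, j, hj, htf⟩ := hl.exists_embedding (M := M)
  have hdiv : ∀ m : M, ∃ m' : M, s • m = ℓ • m' := by
    intro m
    have h1 : ∀ i, ∃ y : R, s * j m i = (ℓ : R) * y := by
      intro i
      have h2 : j m i ∈ P := hcon ((LinearMap.proj i).comp j) m
      exact Ideal.mem_span_singleton.1 (hs1 _ h2)
    choose y hy using h1
    have h3 : j (s • m) = (ℓ : ℤ) • y := by
      funext i
      rw [map_smul, Pi.smul_apply, smul_eq_mul, hy, Pi.smul_apply, zsmul_eq_mul, Int.cast_natCast]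
    obtain ⟨m', hm'⟩ := htf ℓ y (by exact_mod_cast hℓ.ne_zero) ⟨_, h3⟩
    refine ⟨m', hj ?_⟩
    rw [h3, ← hm', natCast_zsmul, map_nsmul]
  choose T hT using hdiv
  have hinj : ∀ a b : M, ℓ • a = ℓ • b → a = b := by
    intro a b hab
    have htf' : Module.IsTorsionFree ℤ M := inferInstance
    have : (ℓ : ℤ) • a = (ℓ : ℤ) • b := by rw [natCast_zsmul, natCast_zsmul, hab]
    exact smul_right_injective M (show (ℓ : ℤ) ≠ 0 by exact_mod_cast hℓ.ne_zero) this
  let T' : M →ₗ[R] M :=
    { toFun := T
      map_add' := fun a b => hinj _ _ (by rw [← hT, smul_add, smul_add, hT, hT])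
      map_smul' := fun r a => hinj _ _ (by rw [← hT, RingHom.id_apply, smul_comm, hT, smul_comm]) }
  obtain ⟨r, hr⟩ := hend T'
  have h0 : s - ℓ * r = 0 := hf _ fun m => by
    rw [sub_smul, mul_smul, hT, sub_eq_zero, Nat.cast_smul_eq_nsmul]
    congr 1
    exact hr m
  apply hs2
  rw [sub_eq_zero] at h0
  rw [h0]
  exact Ideal.mul_mem_right _ _ (Ideal.mem_span_singleton_self _)

theorem locFree_of_end (hend : ∀ T : M →ₗ[R] M, ∃ r : R, ∀ m, T m = r • m)
    (hf : ∀ r : R, (∀ m : M, r • m = 0) → r = 0) (P : Ideal R) (hP : P.IsPrime) :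
    Nonempty (LocalizedModule P.primeCompl M ≃ₗ[Localization.AtPrime P] Localization.AtPrime P) := by
  obtain ⟨Q, hQ, hPQ⟩ := Ideal.exists_le_maximal P hP.ne_top
  obtain ⟨f, m, hfm⟩ := exists_functional hl hend hf Q hQ
  obtain ⟨r, hr⟩ := hend ((LinearMap.toSpanSingleton R M m).comp f)
  exact loc_of P f m (fun h => hfm (hPQ h)) r hr

end Gor

end K530.MinOrd
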