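import Groth.Agent.AbVar.K530.MinOrd
import Mathlib.CategoryTheory.Preadditive.Basic

/-!
# Minimal orders as endomorphism rings: the categorical part of S19709
-/

set_option autoImplicit false

open CategoryTheory

namespace K530.MinOrd

open K525.Unimod

universe w v u

variable {C : Type u} [Category.{v} C] [Preadditive C] {A W : C} {R : Type w} [CommRing R] [Module.Finite ℤ R]
  [Module.Free ℤ R] {l : R →+ ℤ} (hl : Unimodular l) (ρw : R ≃+* End W) [Module R (A ⟶ W)]
  (hmod : ∀ (r : R) (φ : A ⟶ W), r • φ = φ ≫ (show W ⟶ W from ρw r))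
  (hff1 : ∀ f g : A ⟶ A, (∀ φ : A ⟶ W, f ≫ φ = g ≫ φ) → f = g)
  (hff2 : ∀ T : (A ⟶ W) →ₗ[R] (A ⟶ W), ∃ f : A ⟶ A, ∀ φ, T φ = f ≫ φ)
  [Module.Finite ℤ (A ⟶ W)] [Module.Free ℤ (A ⟶ W)]
  (p : ℕ) (hp : p ≠ 0) (F V : R) (hFV : F * V = (p : R))
  (hgen : ∀ N : AddSubgroup R, 1 ∈ N → (∀ x ∈ N, F * x ∈ N) → (∀ x ∈ N, V * x ∈ N) → N = ⊤)
  (π : A ⟶ A) (hπ : ∀ φ : A ⟶ W, π ≫ φ = F • φ)

include hmod in
omit [Module.Finite ℤ R] [Module.Free ℤ R] [Module.Finite ℤ (A ⟶ W)] [Module.Free ℤ (A ⟶ W)] in
theorem comp_smul' (r : R) (f : A ⟶ A) (φ : A ⟶ W) : f ≫ (r • φ) = r • (f ≫ φ) := by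
  rw [hmod, hmod, Category.assoc]

include hl hmod hff1 hff2 hp hFV hgen hπ in
theorem main : (∃ ρ : R ≃+* End A, ρ F = (show End A from π)) ↔
    ∀ (P : Ideal R) (_ : P.IsPrime),
      Nonempty (LocalizedModule P.primeCompl (A ⟶ W) ≃ₗ[Localization.AtPrime P] Localization.AtPrime P) := by
  constructor
  · rintro ⟨ρ, hρ⟩ P hP
    -- the two actions agree
    have htf : Module.IsTorsionFree ℤ (A ⟶ W) := inferInstance
    have hV : ∀ φ : A ⟶ W, (show A ⟶ A from ρ V) ≫ φ = V • φ := by
      intro φ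
      have h1 : (p : ℤ) • ((show A ⟶ A from ρ V) ≫ φ) = (p : ℤ) • (V • φ) := by
        rw [natCast_zsmul, natCast_zsmul, ← Preadditive.comp_nsmul, ← Nat.cast_smul_eq_nsmul R p φ, ← hFV, mul_smul, ← hπ,
          ← Category.assoc]
        have h2 : (show A ⟶ A from ρ V) ≫ π = p • 𝟙 A := by
          have h3 : ρ (F * V) = ρ F * ρ V := map_mul ρ F V
          rw [hFV, map_natCast, hρ] at h3
          have h4 : ((p : End A) : A ⟶ A) = p • 𝟙 A := by
            rw [← nsmul_one]; rfl
          rw [← h4, h3]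
          rfl
        rw [h2, Preadditive.nsmul_comp, Category.id_comp]
      exact smul_right_injective (A ⟶ W) (show (p : ℤ) ≠ 0 by exact_mod_cast hp) h1
    let N : AddSubgroup R :=
      { carrier := {r | ∀ φ : A ⟶ W, (show A ⟶ A from ρ r) ≫ φ = r • φ}
        zero_mem' := fun φ => by
          rw [map_zero, zero_smul]; exact Limits.zero_comp
        add_mem' := by
          intro a b ha hb φ
          rw [map_add, add_smul, ← ha φ, ← hb φ]
          exact Preadditive.add_comp _ _ _ _ _ _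
        neg_mem' := by
          intro a ha φ
          rw [map_neg, neg_smul, ← ha φ]
          exact Preadditive.neg_comp _ _ }
    have hN : N = ⊤ := by
      apply hgen N
      · intro φ
        rw [map_one, one_smul]
        exact Category.id_comp φ
      · intro x hx φ
        have h1 : (show A ⟶ A from ρ (F * x)) = (show A ⟶ A from ρ x) ≫ π := by
          rw [map_mul, hρ]; rfl
        rw [h1, Category.assoc, hπ, comp_smul' ρw hmod, hx φ, mul_smul]
      · intro x hx φ
        have h1 : (show A ⟶ A from ρ (V * x)) = (show A ⟶ A from ρ x) ≫ (show A ⟶ A from ρ V) := by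
          rw [map_mul]; rfl
        rw [h1, Category.assoc, hV, comp_smul' ρw hmod, hx φ, mul_smul]
    have hact : ∀ (r : R) (φ : A ⟶ W), (show A ⟶ A from ρ r) ≫ φ = r • φ := fun r => by
      have : r ∈ N := by rw [hN]; trivial
      exact this
    refine locFree_of_end hl ?_ ?_ P hP
    · intro T
      obtain ⟨f, hf⟩ := hff2 T
      obtain ⟨r, hr⟩ := ρ.surjective (show End A from f)
      refine ⟨r, fun φ => ?_⟩
      rw [hf, ← hact, hr]
    · intro r hr
      apply ρ.injective
      rw [map_zero]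
      refine hff1 _ _ fun φ => ?_
      rw [hact, hr]
      exact Limits.zero_comp.symm
  · intro h
    have hfinR : Module.Finite R (A ⟶ W) := Module.Finite.of_restrictScalars_finite ℤ R _
    obtain ⟨hend, hinj⟩ := end_of_locFree h
    -- the action of `R`
    have hex : ∀ r : R, ∃ f : A ⟶ A, ∀ φ : A ⟶ W, f ≫ φ = r • φ := by
      intro r
      obtain ⟨f, hf⟩ := hff2 (LinearMap.lsmul R (A ⟶ W) r)
      exact ⟨f, fun φ => (hf φ).symm⟩
    choose ρ hρ using hex
    let ρ' : R →+* End A :=
      { toFun := fun r => (show End A from ρ r)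
        map_one' := hff1 _ _ fun φ => by rw [hρ, one_smul]; exact (Category.id_comp φ).symm
        map_mul' := fun r s => hff1 _ _ fun φ => by
          have h1 : ((show End A from ρ r) * (show End A from ρ s) : End A) = ρ s ≫ ρ r := rfl
          rw [hρ, h1, Category.assoc, hρ, hρ, mul_comm, mul_smul]
        map_zero' := hff1 _ _ fun φ => by rw [hρ, zero_smul]; exact Limits.zero_comp.symm
        map_add' := fun r s => hff1 _ _ fun φ => by
          rw [hρ, add_smul, ← hρ, ← hρ]
          exact (Preadditive.add_comp _ _ _ _ _ _).symm }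
    refine ⟨RingEquiv.ofBijective ρ' ⟨?_, ?_⟩, ?_⟩
    · intro r s hrs
      have h1 : ρ r = ρ s := hrs
      rw [← sub_eq_zero]
      refine hinj _ fun φ => ?_
      rw [sub_smul, ← hρ, ← hρ, h1, sub_self]
    · intro f
      let T : (A ⟶ W) →ₗ[R] (A ⟶ W) :=
        { toFun := fun φ => (show A ⟶ A from f) ≫ φ
          map_add' := fun φ ψ => Preadditive.comp_add _ _ _ _ _ _
          map_smul' := fun r φ => comp_smul' ρw hmod r _ φ }
      obtain ⟨r, hr⟩ := hend T
      refine ⟨r, hff1 _ _ fun φ => ?_⟩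
      exact (hρ r φ).trans (hr φ).symm
    · refine hff1 _ _ fun φ => ?_
      rw [hπ]
      exact hρ F φ

end K530.MinOrd
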