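import Groth.Agent.AbVar.K530.MinOrdCat
import Groth.Agent.AbVar.K525.Rw
import Groth.Agent.AbVar.K520.Frob
import Groth.Prelude.Def_EndTate

/-!
# S19709 from full faithfulness
-/

set_option autoImplicit false
universe u
open CategoryTheory MonoidalCategory CartesianMonoidalCategory MonObj GrpObj AlgebraicGeometry
open MvPolynomial

namespace K530.MinOrd

open K525.Unimod K525.Rw K520.Frob

theorem row (p : ℕ) [Fact p.Prime] (k : Type u) [Field k] [Finite k] (hk : Nat.card k = p)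
    (J : Type) [Fintype J] (K : J → Type) [∀ j, Field (K j)] [∀ j, CharZero (K j)] (ϖ : ∀ j, K j)
    (hint : ∀ j, IsIntegral ℤ (ϖ j))
    (hweil : ∀ j, ∀ z ∈ (minpoly ℤ (ϖ j)).aroots ℂ, ‖z‖ = Real.sqrt p)
    (hnr : ∀ j, ∀ z ∈ (minpoly ℤ (ϖ j)).aroots ℂ, z.im ≠ 0)
    (hinj : ∀ i j, minpoly ℤ (ϖ i) = minpoly ℤ (ϖ j) → i = j)
    (Aw : Over (Spec (CommRingCat.of k))) [GrpObj Aw] [IsCommMonObj Aw]
    (πw : Aw ⟶ Aw) [IsMonHom πw] (hπwb : πw.left.base = 𝟙 _) (hπwle : ∀ U : Aw.left.Opens, U ≤ πw.left ⁻¹ᵁ U)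
    (hπwapp : ∀ (U : Aw.left.Opens) (s : Γ(Aw.left, U)), (πw.left.appLE U U (hπwle U)).hom s = s ^ p)
    (ρw : (ev p J K ϖ).range ≃+* EndAV.End Aw)
    (hρw : ρw ⟨(ev p J K ϖ) (X 0), AlgHom.mem_range_self _ _⟩ = EndAV.End.of πw)
    (A : Over (Spec (CommRingCat.of k))) [GrpObj A] [IsCommMonObj A]
    (πA : A ⟶ A) [IsMonHom πA] (hπAb : πA.left.base = 𝟙 _) (hπAle : ∀ U : A.left.Opens, U ≤ πA.left ⁻¹ᵁ U)
    (hπAapp : ∀ (U : A.left.Opens) (s : Γ(A.left, U)), (πA.left.appLE U U (hπAle U)).hom s = s ^ p)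
    [Module ↥(ev p J K ϖ).range (EndAV.Hom A Aw)]
    (hmod : ∀ (r : ↥(ev p J K ϖ).range) (φ : EndAV.Hom A Aw), r • φ = (ρw r) • φ)
    (hff : (∀ f g : EndAV.Hom A A, (∀ φ : EndAV.Hom A Aw, f ≫ φ = g ≫ φ) → f = g) ∧
      (∀ g : EndAV.Hom A Aw →ₗ[EndAV.End Aw] EndAV.Hom A Aw,
        ∃ f : EndAV.Hom A A, ∀ φ : EndAV.Hom A Aw, g φ = f ≫ φ))
    (hfin : Module.Finite ℤ (EndAV.Hom A Aw)) (hfree : Module.Free ℤ (EndAV.Hom A Aw)) :
    (∃ ρ : ↥(ev p J K ϖ).range ≃+* EndAV.End A,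
      ρ ⟨(ev p J K ϖ) (X 0), AlgHom.mem_range_self _ _⟩ = EndAV.End.of πA) ↔
      ∀ (P : Ideal ↥(ev p J K ϖ).range) (_ : P.IsPrime),
        Nonempty (LocalizedModule P.primeCompl (EndAV.Hom A Aw) ≃ₗ[Localization.AtPrime P] Localization.AtPrime P) := by
  subst hk
  have hF := K525.Rw.fam (Nat.card k) J K ϖ hint hweil hinj
  have := hF.finite
  have := hF.free
  obtain ⟨l, hl⟩ := K525.Rw.exists_unimodular hF hnr
  refine main (C := CommGrp (Over (Spec (CommRingCat.of k)))) (A := CommGrp.mk A) (W := CommGrp.mk Aw) hl ρw hmod hff.1 ?_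
    (Nat.card k) (Fact.out : (Nat.card k).Prime).ne_zero _
    ⟨ev (Nat.card k) J K ϖ (X 1), AlgHom.mem_range_self _ _⟩ ?_ ?_ (EndAV.End.of πA) ?_
  · intro T
    have hT : ∀ (e : EndAV.End Aw) (φ : EndAV.Hom A Aw), T (e • φ) = e • T φ := by
      intro e φ
      obtain ⟨r, rfl⟩ := ρw.surjective e
      rw [← hmod, map_smul, hmod]
    exact hff.2 { toFun := T, map_add' := T.map_add, map_smul' := hT }
  · apply Subtype.val_injective
    show ev (Nat.card k) J K ϖ (X 0) * ev (Nat.card k) J K ϖ (X 1) =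
      (((Nat.card k : ℕ) : (ev (Nat.card k) J K ϖ).range) : ∀ j, K j)
    rw [hF.f0]
    ext j
    rw [Pi.mul_apply, hF.f1]
    rfl
  · intro N h1 hF hV
    rw [eq_top_iff]
    rintro ⟨x, g, rfl⟩ -
    have : ∀ (g : MvPolynomial (Fin 2) ℤ), ((ev (Nat.card k) J K ϖ).rangeRestrict g) ∈ N := by
      intro g
      induction g using MvPolynomial.induction_on with
      | C a =>
        have : (ev (Nat.card k) J K ϖ).rangeRestrict (C a) = a • (1 : (ev (Nat.card k) J K ϖ).range) := by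
          rw [show (C a : MvPolynomial (Fin 2) ℤ) = (a : MvPolynomial (Fin 2) ℤ) from eq_intCast C a, map_intCast,
            zsmul_eq_mul, _root_.mul_one]
        rw [this]
        exact N.zsmul_mem h1 a
      | add g g' hg hg' => rw [map_add]; exact N.add_mem hg hg'
      | mul_X g i hg =>
        rw [map_mul, _root_.mul_comm]
        fin_cases i
        · exact hF _ hg
        · exact hV _ hg
    exact this g
  · intro φ
    rw [hmod, hρw]
    obtain rfl := eq_fr k A πA ⟨hπAb, hπAle, hπAapp⟩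
    obtain rfl := eq_fr k Aw πw ⟨hπwb, hπwle, hπwapp⟩
    apply EndAV.Hom.ext
    exact fr_comm k (EndAV.Hom.toHom φ)

end K530.MinOrd
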