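import Groth.Agent.Sga3B.DSAffPts
import Groth.Agent.Sga3B.RG.BrTorus
import Groth.Agent.Sga3.H816.TorusDim
import Mathlib.RingTheory.RootsOfUnity.AlgebraicallyClosed

/-!
# Rational points of a torus over an algebraically closed field
-/

set_option autoImplicit false
universe u
open CategoryTheory MonoidalCategory CartesianMonoidalCategory MonObj GrpObj AlgebraicGeometry Limits Opposite

namespace K530.TorPts

open Groth.Agent Groth.Agent.Sga3B.RG.BrTorus Groth.Agent.Sga3B.RG.BrPts Groth.Agent.Books.AffBridge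
open Groth.Agent.Books.AffBridge2

variable {k : Type u} [Field k]

/-- The character of `ℤ^t` with given values. -/
def chr {t : ℕ} (u : Fin t → kˣ) : Multiplicative (Fin t → ℤ) →* k :=
  (Units.coeHom k).comp
    { toFun := fun m => ∏ i, u i ^ (m.toAdd i)
      map_one' := by simp
      map_mul' := fun a b => by
        rw [← Finset.prod_mul_distrib]
        refine Finset.prod_congr rfl fun i _ => ?_
        rw [← zpow_add]
        rfl }

theorem chr_apply {t : ℕ} (u : Fin t → kˣ) (m : Multiplicative (Fin t → ℤ)) :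
    chr u m = ((∏ i, u i ^ (m.toAdd i) : kˣ) : k) := rfl

/-- The group of characters. -/
noncomputable def chrEquiv (k : Type u) [Field k] (t : ℕ) : (Fin t → kˣ) ≃* (Multiplicative (Fin t → ℤ) →* k) where
  toFun := chr
  invFun χ := fun i => χ.toHomUnits (Multiplicative.ofAdd (Pi.single i 1))
  left_inv u := by
    funext i
    ext
    rw [MonoidHom.coe_toHomUnits, chr_apply]
    congr 1
    rw [Finset.prod_eq_single i]
    · simp
    · intro j _ hj
      simp [hj]
    · simp
  right_inv χ := by
    refine MonoidHom.ext fun m => ?_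
    rw [chr_apply]
    have h1 : ∏ i, (χ.toHomUnits (Multiplicative.ofAdd (Pi.single i (1 : ℤ)))) ^ (m.toAdd i) = χ.toHomUnits m := by
      have h2 : m = ∏ i, (Multiplicative.ofAdd (Pi.single i (1 : ℤ) : Fin t → ℤ)) ^ (m.toAdd i) := by
        apply Multiplicative.toAdd.injective
        rw [toAdd_prod]
        funext j
        rw [Finset.sum_apply, Finset.sum_eq_single j]
        · simp
        · intro i _ hi
          simp [hi.symm]
        · simp
      conv_rhs => rw [h2]
      rw [map_prod]
      refine Finset.prod_congr rfl fun i _ => ?_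
      rw [map_zpow]
    rw [h1, MonoidHom.coe_toHomUnits]
  map_mul' u v := by
    refine MonoidHom.ext fun m => ?_
    rw [MonoidHom.mul_apply, chr_apply, chr_apply, chr_apply, ← Units.val_mul, ← Finset.prod_mul_distrib]
    congr 1
    refine Finset.prod_congr rfl fun i _ => ?_
    rw [Pi.mul_apply, mul_zpow]

variable [IsAlgClosed k]

/-- The points of a torus. -/
theorem exists_pts {T : Over (Spec (CommRingCat.of k))} [GrpObj T] (hT : Red.IsTorus T) :
    ∃ t : ℕ, topologicalKrullDim T.left = t ∧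
      Nonempty ((Fin t → kˣ) ≃* (𝟙_ (Over (Spec (CommRingCat.of k))) ⟶ T)) := by
  obtain ⟨t, e, he⟩ := isTorus_iff.1 hT
  refine ⟨t, ?_, ⟨?_⟩⟩
  · have h1 : topologicalKrullDim T.left = topologicalKrullDim (Spec (CommRingCat.of (KZ k t))) :=
      IsHomeomorph.topologicalKrullDim_eq _ (Scheme.homeoOfIso ((Over.forget _).mapIso e)).isHomeomorph
    rw [h1, ← Sga3.H816.TorusDim.ringKrullDim_monoidAlgebra k t]
    exact PrimeSpectrum.topologicalKrullDim_eq_ringKrullDim _
  · let φ : (𝟙_ (Over (Spec (CommRingCat.of k))) ⟶ SpecOver k (KZ k t)) ≃* (𝟙_ (Over (Spec (CommRingCat.of k))) ⟶ T) :=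
      { toFun := fun x => x ≫ e.inv
        invFun := fun x => x ≫ e.hom
        left_inv := fun x => by simp
        right_inv := fun x => by simp
        map_mul' := fun x y => MonObj.mul_comp x y e.inv }
    exact (chrEquiv k t).trans ((Sga3B.DSAffPts.algPt (k := k) (Fin t → ℤ) k).trans ((ptEquiv k (KZ k t)).trans φ))

theorem exists_pow (l : ℕ) (hl : 0 < l) (x : kˣ) : ∃ y : kˣ, y ^ l = x := by
  obtain ⟨z, hz⟩ := IsAlgClosed.exists_pow_nat_eq (x : k) hl
  have hz0 : z ≠ 0 := by
    rintro rfl
    rw [zero_pow hl.ne'] at hz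
    exact x.ne_zero hz.symm
  exact ⟨Units.mk0 z hz0, Units.ext (by simpa using hz)⟩

/-- Divisibility of the group of points of a torus. -/
theorem exists_pow_eq {T : Over (Spec (CommRingCat.of k))} [GrpObj T] (hT : Red.IsTorus T) (l : ℕ) (hl : 0 < l)
    (x : 𝟙_ (Over (Spec (CommRingCat.of k))) ⟶ T) : ∃ y : 𝟙_ (Over (Spec (CommRingCat.of k))) ⟶ T, y ^ l = x := by
  obtain ⟨t, -, ⟨Ψ⟩⟩ := exists_pts hT
  choose y hy using fun i => exists_pow l hl (Ψ.symm x i)
  refine ⟨Ψ y, ?_⟩
  rw [← map_pow, ← Ψ.apply_symm_apply x]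
  congr 1
  funext i
  exact hy i

theorem card_units (l : ℕ) (hl : (l : k) ≠ 0) : Nat.card {x : kˣ // x ^ l = 1} = l := by
  have h1 : NeZero (l : k) := ⟨hl⟩
  have h2 : NeZero l := NeZero.of_neZero_natCast k
  have h3 : HasEnoughRootsOfUnity k l := inferInstance
  have h4 := HasEnoughRootsOfUnity.natCard_rootsOfUnity k l
  exact h4

/-- The torsion points of a torus. -/
theorem card_torsion {T : Over (Spec (CommRingCat.of k))} [GrpObj T] (hT : Red.IsTorus T) (l : ℕ) (hl : (l : k) ≠ 0)
    (t : ℕ) (ht : topologicalKrullDim T.left = t) :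
    Nat.card {x : 𝟙_ (Over (Spec (CommRingCat.of k))) ⟶ T // x ^ l = 1} = l ^ t := by
  obtain ⟨t', h, ⟨Ψ⟩⟩ := exists_pts hT
  obtain rfl : t' = t := by
    rw [h] at ht
    exact_mod_cast ht
  let e1 : {x : 𝟙_ (Over (Spec (CommRingCat.of k))) ⟶ T // x ^ l = 1} ≃ {u : Fin t' → kˣ // u ^ l = 1} :=
    Ψ.symm.toEquiv.subtypeEquiv (fun x => by
      constructor
      · intro hx
        change (Ψ.symm x) ^ l = 1
        rw [← map_pow, hx, map_one]
      · intro hx
        have hx' : (Ψ.symm x) ^ l = 1 := hx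
        apply Ψ.symm.injective
        rw [map_pow, hx', map_one])
  let e2 : {u : Fin t' → kˣ // u ^ l = 1} ≃ (Fin t' → {x : kˣ // x ^ l = 1}) :=
    { toFun := fun u i => ⟨u.1 i, congrFun u.2 i⟩
      invFun := fun u => ⟨fun i => (u i).1, funext fun i => (u i).2⟩
      left_inv := fun u => rfl
      right_inv := fun u => rfl }
  rw [Nat.card_congr (e1.trans e2), Nat.card_fun, card_units l hl, Nat.card_eq_fintype_card, Fintype.card_fin]

end K530.TorPts
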