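import Groth.Agent.AbVar.K530.LemB
import Groth.Agent.AbVar.K530.TorPts
import Groth.Agent.S14585
import Groth.Agent.Etcore.AbTors
import Groth.Agent.AlgGrp.K397.StrMax
import Groth.Agent.Fdesc.GeomAlgClosed
import Groth.Agent.Sga3C.GeomRedPerf
import Groth.Agent.PicF.K247.SmoothGI

/-!
# The number of torsion points of a semiabelian variety
-/

set_option autoImplicit false
universe u
open CategoryTheory MonoidalCategory CartesianMonoidalCategory MonObj GrpObj AlgebraicGeometry Limits Opposite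

namespace K530.TorsCount

open Groth.Agent Groth.Agent.Books.AlgPts Groth.Agent.Books.AlgPtsGen K530.ConstKer
open K530.RigidGrp K530.DegBd K530.GenMap K530.LemB

variable {k : Type u} [Field k] [IsAlgClosed k]

theorem geometricallyIntegral {Y : Scheme.{u}} (g : Y ⟶ Spec (CommRingCat.of k)) [IsIntegral Y] :
    GeometricallyIntegral g := by
  have := Fdesc.GeomAlgClosed.geometricallyIrreducible_of_irreducibleSpace g
  have := Sga3C.GeomRedPerf.geometricallyReduced_of_isReduced g
  exact .of_geometricallyReduced_of_geometricallyIrreducible _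

omit [IsAlgClosed k] in
theorem exists_dim (A : Over (Spec (CommRingCat.of k))) [LocallyOfFiniteType A.hom] [IsIntegral A.left] :
    ∃ d : ℕ, topologicalKrullDim A.left = d := by
  let _ : A.left.Over (Spec (CommRingCat.of k)) := ⟨A.hom⟩
  have : LocallyOfFiniteType (A.left ↘ Spec (CommRingCat.of k)) := inferInstanceAs (LocallyOfFiniteType A.hom)
  exact ⟨_, Groth.Agent.VarietyB.DimSch.topologicalKrullDim_eq_trd k⟩

omit [IsAlgClosed k] in
theorem comp_pow' {X G : Over (Spec (CommRingCat.of k))} [GrpObj G] (x : X ⟶ G) (l : ℕ) : x ≫ (𝟙 G ^ l) = x ^ l := by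
  induction l with
  | zero => rw [pow_zero, pow_zero, comp_one]
  | succ m ih => rw [pow_succ, pow_succ, MonObj.comp_mul, ih, Category.comp_id]

omit [IsAlgClosed k] in
theorem pow_comp' {X G H : Over (Spec (CommRingCat.of k))} [GrpObj G] [GrpObj H] (x : X ⟶ G) (f : G ⟶ H)
    [IsMonHom f] (l : ℕ) : (x ^ l) ≫ f = (x ≫ f) ^ l := by
  induction l with
  | zero => rw [pow_zero, pow_zero, one_comp]
  | succ m ih => rw [pow_succ, pow_succ, MonObj.mul_comp, ih]

/-- A semiabelian variety of dimension `d` has at least `l ^ d` points killed by `l`. -/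
theorem pow_le_card (G : Over (Spec (CommRingCat.of k))) [GrpObj G] [IsCommMonObj G] (hG : Good G) (l : ℕ)
    (hl0 : 0 < l) (hl : (l : k) ≠ 0) (N : Over (Spec (CommRingCat.of k))) [GrpObj N] (n : N ⟶ G)
    [IsMonHom n] (hk : AlgGrp.IsKernel n (pw G l)) [Finite (Pts N)] (d : ℕ) (hd : topologicalKrullDim G.left = d) :
    l ^ d ≤ Nat.card (Pts N) := by
  have := hG.var.isIntegral
  have := hG.var.lft
  have := hG.var.qc
  have := hG.smooth
  obtain ⟨T, _, i, A, _, q, hi, hic, hT, hq, hqs, hqf, hker, hAp, hAs, hAc⟩ := (S14585.result k G).2 hG.rigid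
  have hAi : IsIntegral A.left := K247.SmoothGI.isIntegral_of_smooth A.hom
  have hAg : GeometricallyIntegral A.hom := geometricallyIntegral A.hom
  obtain ⟨t, ht, -⟩ := TorPts.exists_pts hT
  obtain ⟨a, ha⟩ := exists_dim A
  have hqq : QuasiCompact q.left := Sga3.H830.AlgGrpAb.quasiCompact_left ⟨inferInstance, inferInstance⟩
    ⟨inferInstance, inferInstance⟩ q
  have hdim := K397.StrMax.dim_eq q hker
  have hdd : d = a + t := by
    rw [hd, ha, ht] at hdim
    exact_mod_cast hdim
  have hcT := TorPts.card_torsion hT l hl t ht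
  have hcA : Nat.card {x : 𝟙_ (Over (Spec (CommRingCat.of k))) ⟶ A // x ^ l = 1} = l ^ (2 * a) :=
    Etcore.AbTors.card_torsion A a ha l hl
  have hiq : i ≫ q = 1 := by rw [hker.w, Hom.one_def]
  have him : Mono i := Groth.Agent.Books.AlgPtsGrp.mono_of_isClosedImmersion i
  have hnm : Mono n := ⟨fun a b h => Cocyc.ext_ker hk h⟩
  -- lifts to `N`
  have hN : ∀ g : Pts G, g ^ l = 1 → ∃ z : Pts N, z ≫ n = g := fun g hg =>
    K523.KerSq.exists_lift_ker hk g (by rw [comp_pow', hg])
  have hA' : ∀ y : {x : Pts A // x ^ l = 1}, ∃ z : Pts N, z ≫ n ≫ q = y.1 := by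
    rintro ⟨y, hy⟩
    obtain ⟨g, hg⟩ := exists_comp_eq_of_pt_mem_range q y (q.left.surjective _)
    obtain ⟨x, hx⟩ := K523.KerSq.exists_lift_ker hker (g ^ l) (by rw [pow_comp', hg, hy])
    obtain ⟨x', rfl⟩ := TorPts.exists_pow_eq hT l hl0 x
    obtain ⟨z, hz⟩ := hN (g * (x' ≫ i)⁻¹) (by
      rw [_root_.mul_pow, inv_pow, ← pow_comp', hx, mul_inv_cancel])
    refine ⟨z, ?_⟩
    change z ≫ n ≫ q = y
    rw [← Category.assoc, hz, MonObj.mul_comp, GrpObj.inv_comp, Category.assoc, hiq, comp_one, _root_.inv_one,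
      _root_.mul_one, hg]
  have hT' : ∀ x : {x : Pts T // x ^ l = 1}, ∃ z : Pts N, z ≫ n = x.1 ≫ i := by
    rintro ⟨x, hx⟩
    exact hN _ (by rw [← pow_comp', hx, one_comp])
  choose f hf using hT'
  choose s hs using hA'
  have hinj : Function.Injective (fun p : {x : Pts T // x ^ l = 1} × {x : Pts A // x ^ l = 1} => f p.1 * s p.2) := by
    rintro ⟨x, y⟩ ⟨x', y'⟩ h
    have h1 : (f x * s y) ≫ n = (f x' * s y') ≫ n := congrArg (· ≫ n) h
    rw [MonObj.mul_comp, MonObj.mul_comp, hf, hf] at h1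
    have h2 : y = y' := by
      have h3 := congrArg (· ≫ q) h1
      simp only [MonObj.mul_comp, Category.assoc, hiq, comp_one, _root_.one_mul, hs] at h3
      exact Subtype.ext h3
    subst h2
    have h4 := mul_right_cancel h1
    have h5 : x = x' := Subtype.ext ((cancel_mono i).1 h4)
    rw [h5]
  have hcard := Nat.card_le_card_of_injective _ hinj
  rw [Nat.card_prod, hcT, hcA] at hcard
  refine le_trans ?_ hcard
  rw [hdd, ← pow_add]
  exact Nat.pow_le_pow_right hl0 (by omega)

end K530.TorsCount
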