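import Groth.Agent.AbVar.K530.DimBd

/-!
# The universal pointed morphism from a variety to good groups
-/

set_option autoImplicit false
universe u
open CategoryTheory MonoidalCategory CartesianMonoidalCategory MonObj GrpObj AlgebraicGeometry Limits Opposite

namespace K530.Univ

open Groth.Agent Groth.Agent.Books.AlgPts Groth.Agent.Books.AlgPtsGen K530.ConstKer
open K530.RigidGrp K530.DegBd K530.GenMap K530.LemB

variable {k : Type u} [Field k] [IsAlgClosed k]

omit [IsAlgClosed k] in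
theorem rigid_unit : Rigid (𝟙_ (Over (Spec (CommRingCat.of k)))) := fun _ => ⟨𝟙 _, toUnit_unique _ _⟩

omit [IsAlgClosed k] in
theorem good_unit : Good (𝟙_ (Over (Spec (CommRingCat.of k)))) where
  comm := ⟨toUnit_unique _ _⟩
  var := isVar_unit
  smooth := (inferInstance : Smooth (𝟙 (Spec (CommRingCat.of k))))
  rigid := rigid_unit

omit [IsAlgClosed k] in
theorem Good.sub {D G : Over (Spec (CommRingCat.of k))} [GrpObj D] [GrpObj G] [IsCommMonObj G] (hG : Rigid G)
    (i : D ⟶ G) [IsMonHom i] [IsClosedImmersion i.left] (hD : IsVar D) (hs : Smooth D.hom) : Good D := by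
  have hm : Mono i := Groth.Agent.Books.AlgPtsGrp.mono_of_isClosedImmersion i
  exact ⟨Sga3.H830.CommAux.isCommMonObj_of_mono i, hD, hs, hG.of_mono i⟩

/-- **The universal morphism to good groups.** -/
theorem exists_universal (h3505 : FinH1.Fin3505.{u}) {X : Over (Spec (CommRingCat.of k))} (hX : IsVar X) :
    ∃ (x₀ : 𝟙_ (Over (Spec (CommRingCat.of k))) ⟶ X) (A : Over (Spec (CommRingCat.of k))) (_ : GrpObj A) (u : X ⟶ A),
      Good A ∧ x₀ ≫ u = 1 ∧ Gen u ∧
      ∀ (G : Over (Spec (CommRingCat.of k))) [GrpObj G] (v : X ⟶ G), Good G → x₀ ≫ v = 1 →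
        ∃ h : A ⟶ G, IsMonHom h ∧ u ≫ h = v := by
  obtain ⟨x₀, D, hD⟩ := DimBd.exists_dim_bound h3505 hX
  let P : ℕ → Prop := fun n => ∃ (G : Over (Spec (CommRingCat.of k))) (_ : GrpObj G) (v : X ⟶ G), Good G ∧
    x₀ ≫ v = 1 ∧ Gen v ∧ topologicalKrullDim G.left = n
  have hP : ∃ n, P n := by
    have hu := good_unit (k := k)
    have := hu.var.lft
    have := hu.var.isIntegral
    obtain ⟨d, hd⟩ := TorsCount.exists_dim (𝟙_ (Over (Spec (CommRingCat.of k))))
    refine ⟨d, 𝟙_ _, inferInstance, toUnit X, hu, toUnit_unique _ _, ⟨0, ?_⟩, hd⟩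
    have h1 : c (df (toUnit X)) 0 = 𝟙 _ := toUnit_unique _ _
    rw [h1]
    exact (inferInstance : Surjective (𝟙 (𝟙_ (Over (Spec (CommRingCat.of k)))).left))
  obtain ⟨n₀, ⟨G₀, _, v₀, hG₀, hv₀, hg₀, hd₀⟩, hmax⟩ := exists_max P D hP
    (fun n ⟨G, _, v, h1, h2, h3, h4⟩ => hD G v h1 h2 h3 n h4)
  obtain ⟨A, _, u, π, hπ, hπf, hπs, hA, hu0, huπ, hgu, hsat⟩ :=
    exists_sat_rel hX hG₀ x₀ v₀ hv₀ hg₀ (fun G' _ v' => Gen v') hg₀
  have := hG₀.var.lft
  have := hA.var.lft
  have := hA.var.isIntegral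
  have := hA.var.sep
  have := hA.var.qc
  have hAc := hA.comm
  have hdA : topologicalKrullDim A.left = n₀ := by rw [FinHom.dim_eq_of_isFinite A G₀ π, hd₀]
  refine ⟨x₀, A, inferInstance, u, hA, hu0, hgu, ?_⟩
  intro G _ v hG hv
  have := hG.var.lft
  have := hG.var.isIntegral
  have := hG.var.sep
  have := hG.var.qc
  have hGc := hG.comm
  have hAG := hA.var.tensor hG.var
  have := hAG.lft
  have := hAG.sep
  have hw0 : x₀ ≫ lift u v = 1 := by
    ext1
    · rw [Category.assoc, lift_fst, hu0, one_comp]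
    · rw [Category.assoc, lift_snd, hv, one_comp]
  obtain ⟨D, _, i, w, hi, hic, hDv, hDs, hwi, hw1, hgw⟩ := exists_gen hX (lift u v) x₀ hw0
  have hDg : Good D := Good.sub (hA.rigid.tensor hG.rigid) i hDv hDs
  have := hDv.lft
  have := hDv.isIntegral
  have := hDv.sep
  have := hDv.qc
  let ρ : D ⟶ A := i ≫ fst A G
  have hρ : IsMonHom ρ := inferInstance
  have hwρ : w ≫ ρ = u := by rw [← Category.assoc, hwi, lift_fst]
  have hρs : Surjective ρ.left := hgu.surjective ρ w hwρ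
  have hρq : QuasiCompact ρ.left := Sga3.H830.AlgGrpAb.quasiCompact_left ⟨inferInstance, inferInstance⟩
    ⟨inferInstance, inferInstance⟩ ρ
  obtain ⟨d, hd⟩ := TorsCount.exists_dim D
  have h1 : d ≤ n₀ := hmax d ⟨D, inferInstance, w, hDg, hw1, hgw, hd⟩
  have h2 := FinHom.dim_le D A ρ
  rw [hd, hdA] at h2
  have h3 : n₀ ≤ d := by exact_mod_cast h2
  obtain rfl : d = n₀ := le_antisymm h1 h3
  have hρf : IsFinite ρ.left := FinHom.isFinite_of_dim D A ρ d hd hdA
  have hiso : IsIso ρ := hsat D w ρ hDg hw1 hwρ hgw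
  have hm1 : IsMonHom (asIso ρ).hom := hρ
  have hm2 : IsMonHom (asIso ρ).inv := inferInstance
  have hm3 : IsMonHom (CategoryTheory.inv ρ) := hm2
  refine ⟨CategoryTheory.inv ρ ≫ i ≫ snd A G, inferInstance, ?_⟩
  rw [← hwρ, Category.assoc, IsIso.hom_inv_id_assoc, ← Category.assoc, hwi, lift_snd]

end K530.Univ
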